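import Cfsg.Agent.Chev.InvSemi.Classes

/-! The two classes of involutions from the certificates. -/

set_option autoImplicit false

open Cfsg.Lie

namespace Cfsg.Lib.Chev.InvSemi

variable {D : ChevalleyDatum} {C : Cert}

/-- The product formula for a factorisation. -/
noncomputable def okPoly (l n : ℕ) (W : WData) (Ls : List WLev) (ds : List ℕ) : Bool :=
  peq (pmul (Nat.rec (motive := fun _ => List ℤ) [1] (fun _ ih => pmul [-1, 1] ih) l) (W.poly n Ls)) (degPoly ds)

theorem peval_powList (q : ℤ) : ∀ l : ℕ,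
    peval (Nat.rec (motive := fun _ => List ℤ) [1] (fun _ ih => pmul [-1, 1] ih) l) q = (q - 1) ^ l
  | 0 => by simp [peval]
  | l + 1 => by
    show peval (pmul [-1, 1] _) q = _
    rw [peval_pmul, peval_powList q l, pow_succ]
    simp [peval]
    ring

theorem peval_degPoly (q : ℤ) : ∀ ds : List ℕ, peval (degPoly ds) q = (ds.map fun d => q ^ d - 1).prod
  | [] => by simp [degPoly, peval]
  | d :: ds => by
    have e : degPoly (d :: ds) = pmul (padd (pmono d) [-1]) (degPoly ds) := rfl
    rw [e, peval_pmul, peval_degPoly q ds, peval_padd, peval_pmono, List.map_cons, List.prod_cons]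
    simp [peval, sub_eq_add_neg]

theorem peval_okPoly {l n : ℕ} {W : WData} {Ls : List WLev} {ds : List ℕ} (h : okPoly l n W Ls ds = true) (q : ℤ) :
    (q - 1) ^ l * peval (W.poly n Ls) q = (ds.map fun d => q ^ d - 1).prod := by
  have e := congrArg (fun L => peval L q)
    (listBeq_eq (eq := fun a b : ℤ => decide (a = b)) (fun a b hab => of_decide_eq_true hab) h)
  simpa only [peval_pmul, peval_powList, peval_degPoly] using e

/-- Everything the kernel checks for one class. -/
structure ClassCert (D : ChevalleyDatum) (C : Cert) (m0 : ℕ) (W : WData) (Ls : List WLev)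
    (ob : List (ℕ × List ℕ)) (ds : List ℕ) (N : ℕ) : Prop where
  hEv : okEv C D.nroots D.rank m0 W = true
  hg : W.okGen C D.nroots D.rank = true
  hr : W.okRep D.nroots = true
  hl : W.okLevs D.nroots Ls = true
  hob : okOrb C D.rank m0 ob = true
  hP : okPoly D.rank D.nroots W Ls ds = true
  hN : NP D (evF D W) = N
  hne : 0 < ob.length

theorem ClassCert.card_cent {F : Type*} [Field F] [Fintype F] [NeZero (2 : F)] {m0 : ℕ} {W : WData}
    {Ls : List WLev} {ob : List (ℕ × List ℕ)} {ds : List ℕ} {N : ℕ} (h : ClassCert D C m0 W Ls ob ds N)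
    (S : Struct D C) (hN : okNeg D = true) (hinj : Function.Injective (Ok.tG D F))
    (hcard : Nat.card ↥S.WG = levSize Ls * ob.length) :
    Nat.card (Subgroup.centralizer ({S.tI F (sgV D F m0)} : Set ↥(D.group F))) =
      Fintype.card F ^ N * (ds.map fun d => Fintype.card F ^ d - 1).prod := by
  apply Nat.cast_injective (R := ℤ)
  rw [card_cent_mask S hN hinj h.hEv h.hg h.hr h.hl h.hob hcard h.hne, h.hN, peval_okPoly h.hP, Nat.cast_mul,
    Nat.cast_pow, Nat.cast_list_prod, List.map_map]
  congr 2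
  refine List.map_congr_left fun d _ => ?_
  simp [Nat.cast_sub (Nat.one_le_pow d (Fintype.card F) Fintype.card_pos)]

theorem isConj_card_cent {G : Type*} [Group G] {a b : G} (h : IsConj a b) :
    Nat.card (Subgroup.centralizer ({a} : Set G)) = Nat.card (Subgroup.centralizer ({b} : Set G)) := by
  obtain ⟨c, rfl⟩ := isConj_iff.1 h
  refine Nat.card_congr ((MulAut.conj c).toEquiv.subtypeEquiv fun x => ?_)
  simp only [Subgroup.mem_centralizer_singleton_iff]
  show x * a = a * x ↔ c * x * c⁻¹ * (c * a * c⁻¹) = c * a * c⁻¹ * (c * x * c⁻¹)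
  rw [show c * x * c⁻¹ * (c * a * c⁻¹) = c * (x * a) * c⁻¹ by group,
    show c * a * c⁻¹ * (c * x * c⁻¹) = c * (a * x) * c⁻¹ by group, mul_left_inj, mul_right_inj]

theorem neZero_two {F : Type*} [Field F] [Fintype F] (hF : Odd (Fintype.card F)) : NeZero (2 : F) :=
  ⟨Ring.two_ne_zero fun h =>
    absurd ((Nat.odd_iff.1 hF).symm.trans (FiniteField.even_card_of_char_two h)) (by norm_num)⟩

theorem pow_mul_ne {q N M A : ℕ} (hq : 1 < q) (hNM : M < N) {ds : List ℕ} (hds : ∀ d ∈ ds, d ≠ 0) :
    q ^ N * A ≠ q ^ M * (ds.map fun d => q ^ d - 1).prod := by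
  intro h
  obtain ⟨k, rfl⟩ : ∃ k, N = M + (k + 1) := ⟨N - M - 1, by omega⟩
  rw [pow_add, mul_assoc] at h
  have h2 := Nat.eq_of_mul_eq_mul_left (pow_pos (by omega) M) h
  haveI : Fact (1 < q) := ⟨hq⟩
  have h3 : IsUnit (((ds.map fun d => q ^ d - 1).prod : ℕ) : ZMod q) := by
    clear h h2
    induction ds with
    | nil => simp
    | cons d ds ih =>
      rw [List.map_cons, List.prod_cons, Nat.cast_mul]
      refine IsUnit.mul ?_ (ih fun e he => hds e (List.mem_cons_of_mem _ he))
      · rw [Nat.cast_sub (Nat.one_le_pow _ _ (by omega)), Nat.cast_pow, ZMod.natCast_self,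
          zero_pow (hds d List.mem_cons_self), zero_sub, Nat.cast_one]
        exact isUnit_one.neg
  rw [← h2, Nat.cast_mul, pow_succ', Nat.cast_mul, ZMod.natCast_self, zero_mul, zero_mul] at h3
  exact not_isUnit_zero h3

end Cfsg.Lib.Chev.InvSemi
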