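import Cfsg.Agent.Chev.Singer.Cent
import Cfsg.Agent.Chev.Orders

/-! The order of the centraliser of a diagonal element whose Weyl stabiliser is known. -/

set_option autoImplicit false

open Cfsg.Lie

namespace Cfsg.Lib.Chev.InvSemi

variable {D : ChevalleyDatum} {C : Cert} {F : Type*} [Field F]

/-- The roots trivial on a diagonal element, as marked by a Boolean function. -/
def Marks (D : ChevalleyDatum) (c : Fin D.rank → Fˣ) (E : Fin D.nroots → Bool) : Prop :=
  ∀ r : Fin D.nroots, (chi D c r.val = 1 ↔ E r = true)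

/-- The number of marked positive roots made negative. -/
noncomputable def NE (D : ChevalleyDatum) (E : Fin D.nroots → Bool) (w : Equiv.Perm (Fin D.nroots)) : ℕ :=
  (Finset.univ.filter fun r : Fin D.nroots => D.nroots / 2 ≤ r.val ∧ E r = true ∧ (w r).val < D.nroots / 2).card

/-- The number of marked positive roots. -/
noncomputable def NP (D : ChevalleyDatum) (E : Fin D.nroots → Bool) : ℕ :=
  (Finset.univ.filter fun r : Fin D.nroots => D.nroots / 2 ≤ r.val ∧ E r = true).card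

theorem tG_eq_of_chi {c c' : Fin D.rank → Fˣ} (h : ∀ r : Fin D.nroots, chi D c r.val = chi D c' r.val) :
    Ok.tG D F c = Ok.tG D F c' := by
  apply Units.ext
  rw [Ok.tG_val, Ok.tG_val]
  congr 1
  funext x
  rcases x with a | r
  · rfl
  · exact congrArg Units.val (h r)

theorem chi_conj (S : Struct D C) {n : GL D.Idx F} {w : Equiv.Perm (Fin D.nroots)} (ha : Act S.ok n w)
    {c c' : Fin D.rank → Fˣ} (hn : n * Ok.tG D F c * n⁻¹ = Ok.tG D F c') (r : Fin D.nroots) :
    chi D c' (w r).val = chi D c r.val := by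
  obtain ⟨-, a, ha0, hA⟩ := ha r
  have e3 : S.ok.xG (w r).val (a * (chi D c r.val : F)) = S.ok.xG (w r).val ((chi D c' (w r).val : F) * a) := by
    calc S.ok.xG (w r).val (a * (chi D c r.val : F))
        = n * (Ok.tG D F c * S.ok.xG r.val (1 : F) * (Ok.tG D F c)⁻¹) * n⁻¹ := by
          rw [S.tG_conj_xG r.isLt, mul_one, ← (hA _).1]; rfl
      _ = (n * Ok.tG D F c * n⁻¹) * (n * S.ok.xG r.val (1 : F) * n⁻¹) * (n * Ok.tG D F c * n⁻¹)⁻¹ := by group
      _ = _ := by rw [hn, (hA _).1, mul_one, S.tG_conj_xG (Fin.isLt _)]; rfl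
  have h4 := S.xG_eq_one (w r).isLt
    (t := a * (chi D c r.val : F) + -((chi D c' (w r).val : F) * a))
    (by rw [← S.ok.xG_mul, ← S.ok.xG_inv, e3, mul_inv_cancel])
  exact Units.ext (mul_left_cancel₀ ha0 (by linear_combination -h4))

theorem conj_eq_iff (S : Struct D C) {n : GL D.Idx F} (hnm : n ∈ D.monomialSubgroup F)
    {w : Equiv.Perm (Fin D.nroots)} (ha : Act S.ok n w) {c c' : Fin D.rank → Fˣ} :
    n * Ok.tG D F c * n⁻¹ = Ok.tG D F c' ↔ ∀ r, chi D c' (w r).val = chi D c r.val := by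
  refine ⟨chi_conj S ha, fun h => ?_⟩
  have hd := S.norm_diag hnm (S.tG_mem_diag c)
  rw [S.ok.diagonalSubgroup_eq] at hd
  obtain ⟨e, he⟩ := hd
  rw [← he]
  refine tG_eq_of_chi fun r => ?_
  have h1 := chi_conj S ha he.symm (w.symm r)
  have h2 := h (w.symm r)
  rw [Equiv.apply_symm_apply] at h1 h2
  rw [h1, h2]

variable [Fintype F] (S : Struct D C)
include S

/-- The coordinates supported on a set of positive roots. -/
noncomputable def extC (Q : Fin D.nroots → Bool)
    (f : {r : Fin D.nroots // D.nroots / 2 ≤ r.val ∧ Q r = true} → F) (r : ℕ) : F :=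
  if h : r < D.nroots then (if h2 : D.nroots / 2 ≤ r ∧ Q ⟨r, h⟩ = true then f ⟨⟨r, h⟩, h2⟩ else 0) else 0

theorem extC_inj {Q : Fin D.nroots → Bool}
    {f g : {r : Fin D.nroots // D.nroots / 2 ≤ r.val ∧ Q r = true} → F}
    (h : S.pw (D.nroots / 2) (extC Q f) = S.pw (D.nroots / 2) (extC Q g)) : f = g := by
  funext x
  obtain ⟨r, hr⟩ := x
  have := S.pw_inj (D.nroots - D.nroots / 2) (D.nroots / 2) (by omega) le_rfl _ _ h r.val hr.1 r.isLt
  simpa [extC, r.isLt, hr.1, hr.2] using this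

theorem exists_pw_posU {g : GL D.Idx F} (hg : g ∈ D.posUnipotent F) :
    ∃ f, g = S.pw (D.nroots / 2) (extC (D := D) (fun _ => true) f) := by
  rw [S.posUnipotent_eq] at hg
  obtain ⟨t, rfl⟩ := S.exists_pw (D.nroots - D.nroots / 2) (D.nroots / 2) (by omega) le_rfl g hg
  exact ⟨fun x => t x.1.val, S.pw_congr fun r a b => by simp [extC, a, b]⟩

/-- The marking of the roots made negative. -/
noncomputable def negB (D : ChevalleyDatum) (w : Equiv.Perm (Fin D.nroots)) (r : Fin D.nroots) : Bool :=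
  decide ((w r).val < D.nroots / 2)

theorem pw_negB_mem (w : Equiv.Perm (Fin D.nroots))
    (f : {r : Fin D.nroots // D.nroots / 2 ≤ r.val ∧ negB D w r = true} → F) :
    S.pw (D.nroots / 2) (extC (negB D w) f) ∈ S.UPsi F (Struct.Neg D w) := by
  refine list_prod_mem fun y hy => ?_
  obtain ⟨r, hr, rfl⟩ := List.mem_map.1 hy
  rw [List.mem_range'_1] at hr
  have hrn : r < D.nroots := by omega
  simp only [extC, dif_pos hrn]
  split_ifs with hm
  · exact Subgroup.subset_closure ⟨⟨r, hrn⟩, _, hr.1, by simpa [negB, Struct.Neg] using hm.2, rfl⟩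
  · rw [S.xG_zero]; exact one_mem _

theorem exists_pw_UPsi (hN : okNeg D = true) {n : GL D.Idx F} {w : Equiv.Perm (Fin D.nroots)} (ha : Act S.ok n w)
    {g : GL D.Idx F} (hg : g ∈ S.UPsi F (Struct.Neg D w)) :
    ∃ f, g = S.pw (D.nroots / 2) (extC (negB D w) f) := by
  classical
  have hb : Function.Bijective (fun f => (⟨_, pw_negB_mem S w f⟩ : ↥(S.UPsi F (Struct.Neg D w)))) := by
    refine (Nat.bijective_iff_injective_and_card _).2 ⟨fun f f' e => extC_inj S (congrArg Subtype.val e), ?_⟩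
    rw [S.card_UPsi_Neg hN ha, Nat.card_eq_fintype_card, Fintype.card_fun, Fintype.card_subtype]
    congr 1
    unfold Struct.Nw
    exact congrArg Finset.card (Finset.filter_congr (by simp [negB]))
  obtain ⟨f, hf⟩ := hb.2 ⟨g, hg⟩
  exact ⟨f, (congrArg Subtype.val hf).symm⟩

theorem card_fix {c : Fin D.rank → Fˣ} {E : Fin D.nroots → Bool} (hE : Marks D c E) (Q : Fin D.nroots → Bool)
    (P : GL D.Idx F → Prop) (hP : ∀ g, P g → ∃ f, g = S.pw (D.nroots / 2) (extC Q f))
    (hP' : ∀ f, P (S.pw (D.nroots / 2) (extC Q f))) :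
    Nat.card {g : GL D.Idx F // P g ∧ MulAut.conj (Ok.tG D F c) g = g} =
      Fintype.card F ^ (Finset.univ.filter fun r : Fin D.nroots => D.nroots / 2 ≤ r.val ∧ (Q r && E r) = true).card := by
  classical
  rw [← Fintype.card_subtype, ← Fintype.card_fun, ← Nat.card_eq_fintype_card]
  symm
  let res : ({r : Fin D.nroots // D.nroots / 2 ≤ r.val ∧ (Q r && E r) = true} → F) →
      ({r : Fin D.nroots // D.nroots / 2 ≤ r.val ∧ Q r = true} → F) := fun f x => extC (fun r => Q r && E r) f x.1.val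
  have hext : ∀ f, S.pw (D.nroots / 2) (extC Q (res f)) = S.pw (D.nroots / 2) (extC (fun r => Q r && E r) f) :=
    fun f => S.pw_congr fun r a b => by
      by_cases hq : Q ⟨r, b⟩ = true <;> simp [extC, res, a, b, hq]
  have hfix : ∀ f, MulAut.conj (Ok.tG D F c) (S.pw (D.nroots / 2) (extC (fun r => Q r && E r) f)) =
      S.pw (D.nroots / 2) (extC (fun r => Q r && E r) f) := fun f => by
    rw [S.conjTG_pw]
    refine S.pw_congr fun r a b => ?_
    by_cases he : E ⟨r, b⟩ = true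
    · rw [(hE ⟨r, b⟩).2 he, Units.val_one, one_mul]
    · simp [extC, a, b, he]
  refine Nat.card_eq_of_bijective (fun f => ⟨_, hext f ▸ hP' (res f), hfix f⟩) ⟨fun f f' e =>
    extC_inj S (congrArg Subtype.val e), ?_⟩
  rintro ⟨g, hg, hgf⟩
  obtain ⟨f, rfl⟩ := hP g hg
  refine ⟨fun x => f ⟨x.1, x.2.1, ((Bool.and_eq_true _ _).mp x.2.2).1⟩, Subtype.ext (S.pw_congr fun r a b => ?_)⟩
  rw [S.conjTG_pw] at hgf
  have h := S.pw_inj (D.nroots - D.nroots / 2) (D.nroots / 2) (by omega) le_rfl _ _ hgf r a b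
  by_cases hq : Q ⟨r, b⟩ = true
  · by_cases he : E ⟨r, b⟩ = true
    · simp [extC, a, b, hq, he]
    · have hne : (chi D c r : F) - 1 ≠ 0 := sub_ne_zero.2 fun e =>
        he ((hE ⟨r, b⟩).1 (Units.ext e))
      have h0 := (mul_eq_zero.1 (show ((chi D c r : F) - 1) * extC Q f r = 0 by linear_combination h)).resolve_left hne
      rw [h0]
      simp [extC, a, b, hq, he]
  · simp [extC, a, b, hq]

theorem card_fix_posU {c : Fin D.rank → Fˣ} {E : Fin D.nroots → Bool} (hE : Marks D c E) :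
    Nat.card {g : GL D.Idx F // g ∈ D.posUnipotent F ∧ MulAut.conj (Ok.tG D F c) g = g} =
      Fintype.card F ^ NP D E := by
  have hP' : ∀ f, S.pw (D.nroots / 2) (extC (D := D) (fun _ => true) f) ∈ D.posUnipotent F := fun f => by
    rw [S.posUnipotent_eq]; exact S.pw_mem _ _
  refine (card_fix S hE (fun _ => true) (fun g => g ∈ D.posUnipotent F) (fun g hg => exists_pw_posU S hg) hP').trans ?_
  unfold NP
  simp

theorem card_fix_UPsi (hN : okNeg D = true) {c : Fin D.rank → Fˣ} {E : Fin D.nroots → Bool} (hE : Marks D c E)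
    {n : GL D.Idx F} {w : Equiv.Perm (Fin D.nroots)} (ha : Act S.ok n w) :
    Nat.card {g : GL D.Idx F // g ∈ S.UPsi F (Struct.Neg D w) ∧ MulAut.conj (Ok.tG D F c) g = g} =
      Fintype.card F ^ NE D E w := by
  refine (card_fix S hE (negB D w) (fun g => g ∈ S.UPsi F (Struct.Neg D w))
    (fun g hg => exists_pw_UPsi S hN ha hg) (pw_negB_mem S w)).trans ?_
  unfold NE
  congr 2
  refine Finset.filter_congr fun r _ => ?_
  simp [negB, and_comm]

open scoped Classical in
theorem card_cent (hN : okNeg D = true) (hinj : Function.Injective (Ok.tG D F)) {c : Fin D.rank → Fˣ}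
    {E : Fin D.nroots → Bool} (hE : Marks D c E) (hc2 : ∀ r : Fin D.nroots, chi D c r.val = 1 ∨ chi D c r.val = -1) :
    Nat.card {g : GL D.Idx F // g ∈ D.group F ∧ g * Ok.tG D F c = Ok.tG D F c * g} =
      Fintype.card F ^ NP D E * (Fintype.card F - 1) ^ D.rank *
        ∑ w ∈ Finset.univ.filter (fun w : Equiv.Perm (Fin D.nroots) => w ∈ S.WG ∧ ∀ r, E (w r) = E r),
          Fintype.card F ^ NE D E w := by
  set x := Ok.tG D F c
  have hx : x ∈ D.diagonalSubgroup F := S.tG_mem_diag c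
  generalize hW0 : Finset.univ.filter (fun w : Equiv.Perm (Fin D.nroots) => w ∈ S.WG ∧ ∀ r, E (w r) = E r) = W
  have hW : ∀ w, w ∈ W ↔ (w ∈ S.WG ∧ ∀ r, E (w r) = E r) := fun w => by rw [← hW0]; simp
  clear hW0
  have hWp : ∀ {n : GL D.Idx F}, n ∈ D.monomialSubgroup F → ∀ {w : Equiv.Perm (Fin D.nroots)}, Act S.ok n w →
      (n * x * n⁻¹ = x ↔ ∀ r, E (w r) = E r) := by
    intro n hn w ha
    rw [conj_eq_iff S hn ha]
    refine forall_congr' fun r => ⟨fun h => ?_, fun h => ?_⟩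
    · rw [Bool.eq_iff_iff, ← hE (w r), ← hE r, h]
    · by_cases h1 : chi D c r.val = 1
      · rw [h1, hE (w r), h, ← hE r]; exact h1
      · rw [(hc2 r).resolve_left h1]
        exact (hc2 (w r)).resolve_left fun e => h1 ((hE r).2 (h ▸ (hE (w r)).1 e))
  choose L hL using fun w : ↥W => S.exists_wpL ((hW _).1 w.2).1
  have hact : ∀ w : ↥W, Act S.ok (S.nL F (L w)) (w : Equiv.Perm _) := fun w => by
    rw [hL w]; exact S.act_nL _
  have hnx : ∀ w : ↥W, S.nL F (L w) * x * (S.nL F (L w))⁻¹ = x := fun w =>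
    (hWp (S.nL_mem_mono _) (hact w)).2 ((hW _).1 w.2).2
  have cm : ∀ {g : GL D.Idx F}, MulAut.conj x g = g ↔ g * x = x * g := fun {g} => by
    rw [MulAut.conj_apply, mul_inv_eq_iff_eq_mul]; exact eq_comm
  let UF := {g : GL D.Idx F // g ∈ D.posUnipotent F ∧ MulAut.conj x g = g}
  let VF := fun w : ↥W => {g : GL D.Idx F // g ∈ S.UPsi F (Struct.Neg D (w : Equiv.Perm _)) ∧ MulAut.conj x g = g}
  let f : (Σ w : ↥W, (UF × ↥(D.diagonalSubgroup F)) × VF w) →
      {g : GL D.Idx F // g ∈ D.group F ∧ g * x = x * g} :=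
    fun y => ⟨y.2.1.1.1 * y.2.1.2.1 * S.nL F (L y.1) * y.2.2.1, by
      obtain ⟨w, ⟨⟨u, hu, hu'⟩, d, hd⟩, v, hv, hv'⟩ := y
      refine ⟨mul_mem (mul_mem (S.borel_le_group (mul_mem (S.B_le_of hu) (Subgroup.mem_sup_right hd)))
        (S.mono_le_group (S.nL_mem_mono _))) (S.borel_le_group (S.B_le_of (S.UPsi_le _ hv))), ?_⟩
      have h3 : S.nL F (L w) * x = x * S.nL F (L w) := mul_inv_eq_iff_eq_mul.1 (hnx w)
      have h4 : d * x = x * d := S.diag_comm hd hx
      exact (((Commute.mul_left (cm.1 hu') h4).mul_left h3).mul_left (cm.1 hv')).eq⟩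
  have hf : Function.Bijective f := by
    constructor
    · rintro ⟨w, ⟨⟨u, hu, hu'⟩, d, hd⟩, v, hv, hv'⟩ ⟨w', ⟨⟨u', hu1, hu1'⟩, d', hd'⟩, v', hv1, hv1'⟩ e
      have e' : u * d * S.nL F (L w) * v = u' * d' * S.nL F (L w') * v' := congrArg Subtype.val e
      have hb : u * d ∈ D.borelSubgroup F := mul_mem (S.B_le_of hu) (Subgroup.mem_sup_right hd)
      have hb' : u' * d' ∈ D.borelSubgroup F := mul_mem (S.B_le_of hu1) (Subgroup.mem_sup_right hd')
      have hh := S.normal_form_cong hN hb hb' (S.nL_mem_mono _) (S.nL_mem_mono _)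
        (S.UPsi_le _ hv) (S.UPsi_le _ hv1) e'
      have hw : w = w' := by
        refine Subtype.ext ?_
        have h1 := S.act_mul (hact w) (S.act_diag hh)
        rw [mul_inv_cancel_left, mul_one] at h1
        exact (S.act_unique (hact w') h1).symm
      subst hw
      obtain ⟨eb, rfl⟩ := S.normal_form_unique hN hb hb' (hact w) hv hv1 e'
      have h1 : u'⁻¹ * u ∈ D.posUnipotent F ⊓ D.diagonalSubgroup F :=
        Subgroup.mem_inf.2 ⟨mul_mem (inv_mem hu1) hu, by
          rw [show u'⁻¹ * u = u'⁻¹ * (u * d) * d⁻¹ by group, eb, inv_mul_cancel_left]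
          exact mul_mem hd' (inv_mem hd)⟩
      rw [S.U_inf_H, Subgroup.mem_bot, inv_mul_eq_one] at h1
      subst h1
      obtain rfl := mul_left_cancel eb
      rfl
    · rintro ⟨g, hg, hgx⟩
      obtain ⟨b, hb, n, hn, M, hM, v, hv, rfl⟩ := S.normal_form hN hg
      set w := S.wpL M with hwdef
      have hxv : x * v * x⁻¹ ∈ S.UPsi F (Struct.Neg D w) := by
        have hle : S.UPsi F (Struct.Neg D w) ≤ (S.UPsi F (Struct.Neg D w)).comap (MulAut.conj x).toMonoidHom := by
          refine (Subgroup.closure_le _).2 ?_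
          rintro y ⟨r, t, a, p, rfl⟩
          show x * S.ok.xG r.val t * x⁻¹ ∈ S.UPsi F (Struct.Neg D w)
          rw [S.tG_conj_xG r.isLt]
          exact Subgroup.subset_closure ⟨r, _, a, p, rfl⟩
        exact hle hv
      have hxn : n * x⁻¹ * n⁻¹ ∈ D.diagonalSubgroup F := S.norm_diag hn (inv_mem hx)
      have e : x * b * (n * x⁻¹ * n⁻¹) * n * (x * v * x⁻¹) = b * n * v := by
        calc x * b * (n * x⁻¹ * n⁻¹) * n * (x * v * x⁻¹) = x * (b * n * v) * x⁻¹ := by group
          _ = b * n * v := by rw [← hgx]; group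
      obtain ⟨eb, ev⟩ := S.normal_form_unique hN (mul_mem (mul_mem (Subgroup.mem_sup_right hx) hb)
        (Subgroup.mem_sup_right hxn)) hb hM hxv hv e
      obtain ⟨u, hu, d, hd, rfl⟩ := S.borel_decomp hb
      have hxu : x * u * x⁻¹ ∈ D.posUnipotent F :=
        (Subgroup.mem_normalizer_iff.1 (S.diag_normalises_U hx) u).1 hu
      set h := x * d * (n * x⁻¹ * n⁻¹) with hh
      have hhd : h ∈ D.diagonalSubgroup F := mul_mem (mul_mem hx hd) hxn
      have e2 : x * u * x⁻¹ = u * (d * h⁻¹) := by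
        calc x * u * x⁻¹ = (x * (u * d) * (n * x⁻¹ * n⁻¹)) * h⁻¹ := by rw [hh]; group
          _ = _ := by rw [eb, mul_assoc]
      have h0 : d * h⁻¹ ∈ D.posUnipotent F ⊓ D.diagonalSubgroup F := by
        refine Subgroup.mem_inf.2 ⟨?_, mul_mem hd (inv_mem hhd)⟩
        rw [show d * h⁻¹ = u⁻¹ * (u * (d * h⁻¹)) by group, ← e2]
        exact mul_mem (inv_mem hu) hxu
      rw [S.U_inf_H, Subgroup.mem_bot] at h0
      rw [h0, mul_one] at e2
      have hn1 : n * x * n⁻¹ = x := by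
        rw [mul_inv_eq_one, hh, S.diag_comm hx hd, mul_assoc] at h0
        have h3 : x * (n * x⁻¹ * n⁻¹) = 1 := mul_eq_left.1 h0.symm
        have h6 := congrArg (·⁻¹) (eq_inv_of_mul_eq_one_right h3)
        simpa [mul_assoc] using h6
      have hwW : w ∈ W := (hW w).2 ⟨S.wpL_mem_WG M, (hWp hn hM).1 hn1⟩
      obtain ⟨M', hM', hiff⟩ := S.exists_act (mul_mem hn (inv_mem (S.nL_mem_mono (F := F) (L ⟨w, hwW⟩))))
      have hd2 : n * (S.nL F (L ⟨w, hwW⟩))⁻¹ ∈ D.diagonalSubgroup F := by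
        refine hiff.1 ?_
        have h1 := S.act_mul hM' (hact ⟨w, hwW⟩)
        rw [inv_mul_cancel_right] at h1
        exact mul_eq_right.1 (S.act_unique h1 hM)
      refine ⟨⟨⟨w, hwW⟩, ⟨⟨u, hu, e2⟩, d * (n * (S.nL F (L ⟨w, hwW⟩))⁻¹), mul_mem hd hd2⟩, ⟨v, hv, ev⟩⟩,
        Subtype.ext ?_⟩
      show u * (d * (n * (S.nL F (L ⟨w, hwW⟩))⁻¹)) * S.nL F (L ⟨w, hwW⟩) * v = u * d * n * v
      group
  have hT : Nat.card ↥(D.diagonalSubgroup F) = (Fintype.card F - 1) ^ D.rank := by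
    rw [S.ok.diagonalSubgroup_eq, ← Nat.card_congr (MonoidHom.ofInjective hinj).toEquiv, Nat.card_fun, Nat.card_fin,
      Nat.card_units, Nat.card_eq_fintype_card]
  rw [← Nat.card_eq_of_bijective f hf, Nat.card_sigma, Finset.mul_sum, ← Finset.sum_coe_sort W]
  refine Finset.sum_congr rfl fun w _ => ?_
  rw [Nat.card_prod, Nat.card_prod, hT, card_fix_posU S hE, card_fix_UPsi S hN hE (hact w)]

end Cfsg.Lib.Chev.InvSemi
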