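import Cfsg.Agent.Chev.InvSemi.CentCount
import Cfsg.Agent.Chev.Tw.Setup

/-! Certified factorisations of the stabiliser of a set of roots in the Weyl group. -/

set_option autoImplicit false

open Cfsg.Lie

namespace Cfsg.Lib.Chev.InvSemi

/-- Membership of a root in a bit mask. -/
def inM (M r : ℕ) : Bool := Nat.testBit M r

/-- The data of a factorisation: the marked roots, reflections with words, representatives with parents. -/
structure WData where
  /-- the marked roots -/
  ev : ℕ
  /-- packed permutations with their words -/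
  gens : List (ℕ × List ℕ)
  /-- packed permutations, each a generator times an earlier one -/
  reps : List (ℕ × ℕ × ℕ)

/-- One level: a block of representatives, the smaller system, its complement and the images of the complement. -/
structure WLev where
  /-- the first representative -/
  start : ℕ
  /-- the roots of the smaller system -/
  sub : ℕ
  /-- the positive marked roots outside it -/
  out : ℕ
  /-- the images of these -/
  imgs : List ℕ

namespace WData

variable (W : WData)

/-- A packed representative. -/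
noncomputable def rp (j : ℕ) : ℕ := (W.reps.getD j (0, 0, 0)).1

/-- The generators are Weyl elements preserving the marking. -/
noncomputable def okGen (C : Cert) (n l : ℕ) : Bool :=
  kall (fun g => kall (fun x => decide (x < l)) g.2 &&
    kall (fun r => Nat.beq (Cert.byte g.1 r) (C.wL g.2 r) && (inM W.ev (Cert.byte g.1 r) == inM W.ev r))
      (krange 0 n)) W.gens

/-- The representatives are products of generators. -/
noncomputable def okRep (n : ℕ) : Bool :=
  kall (fun j => Bool.rec
    (decide ((W.reps.getD j (0, 0, 0)).2.1 < j) && decide ((W.reps.getD j (0, 0, 0)).2.2 < W.gens.length) &&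
      kall (fun r => Nat.beq (Cert.byte (W.rp j) r)
        (Cert.byte (W.gens.getD (W.reps.getD j (0, 0, 0)).2.2 (0, [])).1 (Cert.byte (W.rp (W.reps.getD j (0, 0, 0)).2.1) r)))
        (krange 0 n))
    (kall (fun r => Nat.beq (Cert.byte (W.rp j) r) r) (krange 0 n)) (Nat.beq j 0)) (krange 0 W.reps.length)

/-- A representative preserves a bit mask. -/
noncomputable def keeps (n j M : ℕ) : Bool :=
  kall (fun r => inM M (Cert.byte (W.rp j) r) == inM M r) (krange 0 n)

/-- The number of marked positive roots made negative. -/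
noncomputable def cnt (n j : ℕ) : ℕ :=
  Nat.rec (motive := fun _ => ℕ) 0 (fun r ih => ih +
    bif decide (n / 2 ≤ r) && inM W.ev r && decide (Cert.byte (W.rp j) r < n / 2) then 1 else 0) n

/-- The image of the outside roots. -/
noncomputable def img (n j M : ℕ) : ℕ :=
  Nat.rec (motive := fun _ => ℕ) 0 (fun r ih => ih + bif inM M r then 2 ^ Cert.byte (W.rp j) r else 0) n

/-- The conditions on one level above the levels `Ls`. -/
noncomputable def okLev (n : ℕ) (V : WLev) (Ls : List WLev) : Bool :=
  decide (V.start + V.imgs.length ≤ W.reps.length) && decide V.imgs.Nodup &&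
    kall (fun r => inM V.out r == (decide (n / 2 ≤ r) && inM W.ev r && !inM V.sub r)) (krange 0 n) &&
    kall (fun r => !inM V.sub r || inM W.ev r) (krange 0 n) &&
    kall (fun V' => kall (fun j => W.keeps n j V.sub && W.keeps n j V.out) (krange V'.start V'.imgs.length)) Ls &&
    kall (fun a => Nat.beq (V.imgs.getD a 0) (W.img n (V.start + a) V.out) &&
      kall (fun r => !inM V.sub r || (decide (Cert.byte (W.rp (V.start + a)) r < n / 2) == decide (r < n / 2)))
        (krange 0 n)) (krange 0 V.imgs.length)

/-- All levels, the top one first. -/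
noncomputable def okLevs (n : ℕ) (Ls : List WLev) : Bool :=
  @List.rec WLev (fun _ => Bool) true (fun V Ls' ih => W.okLev n V Ls' && ih) Ls

/-- The generating function of one level. -/
noncomputable def levPoly (n : ℕ) (V : WLev) : List ℤ :=
  @List.rec ℕ (fun _ => List ℤ) [] (fun a _ ih => padd (pmono (W.cnt n (V.start + a))) ih) (krange 0 V.imgs.length)

/-- The product of the generating functions. -/
noncomputable def poly (n : ℕ) (Ls : List WLev) : List ℤ :=
  @List.rec WLev (fun _ => List ℤ) [1] (fun V _ ih => pmul (W.levPoly n V) ih) Ls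

end WData

/-- The product of the sizes of the levels. -/
noncomputable def levSize (Ls : List WLev) : ℕ :=
  @List.rec WLev (fun _ => ℕ) 1 (fun V _ ih => V.imgs.length * ih) Ls

variable {D : ChevalleyDatum} {C : Cert}

/-- The marking given by a mask. -/
def evF (D : ChevalleyDatum) (W : WData) (r : Fin D.nroots) : Bool := inM W.ev r.val

theorem exists_rep (S : Struct D C) (W : WData) (hg : W.okGen C D.nroots D.rank = true)
    (hr : W.okRep D.nroots = true) : ∀ j < W.reps.length,
      ∃ w ∈ S.WG, (∀ r, (w r).val = Cert.byte (W.rp j) r.val) ∧ ∀ r, evF D W (w r) = evF D W r := by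
  intro j
  induction j using Nat.strong_induction_on with
  | _ j ih =>
    intro hj
    have h := kall_krange hr j hj
    by_cases h0 : j = 0
    · subst h0
      exact ⟨1, one_mem _, fun r => (Nat.eq_of_beq_eq_true (kall_krange h r.val r.isLt)).symm, fun r => rfl⟩
    · rw [show Nat.beq j 0 = false by
        cases e : Nat.beq j 0
        · rfl
        · exact absurd (Nat.eq_of_beq_eq_true e) h0] at h
      simp only [Bool.and_eq_true, decide_eq_true_eq] at h
      obtain ⟨⟨hp, hgl⟩, hc⟩ := h
      obtain ⟨v, hv, hv1, hv2⟩ := ih _ hp (by omega)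
      have hmem : W.gens.getD (W.reps.getD j (0, 0, 0)).2.2 (0, []) ∈ W.gens := by
        rw [List.getD_eq_getElem _ _ hgl]; exact List.getElem_mem _
      have hg' := (kall_iff _ _).1 hg _ hmem
      set g := W.gens.getD (W.reps.getD j (0, 0, 0)).2.2 (0, [])
      simp only [Bool.and_eq_true, kall_iff, decide_eq_true_eq] at hg'
      obtain ⟨L, hL⟩ : ∃ L : List (Fin D.rank), L.map Fin.val = g.2 :=
        ⟨g.2.pmap Fin.mk hg'.1, by simp [List.map_pmap]⟩
      have hgr : ∀ x : Fin D.nroots, (S.wpL L x).val = Cert.byte g.1 x.val ∧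
          evF D W (S.wpL L x) = evF D W x := fun x => by
        have hx := hg'.2 x.val (by rw [krange_eq, List.mem_range'_1]; omega)
        have e : (S.wpL L x).val = Cert.byte g.1 x.val := by
          rw [S.wpL_val, hL]; exact (Nat.eq_of_beq_eq_true hx.1).symm
        refine ⟨e, ?_⟩
        rw [evF, e]
        exact beq_iff_eq.1 hx.2
      refine ⟨S.wpL L * v, mul_mem (S.wpL_mem_WG L) hv, fun r => ?_, fun r => ?_⟩
      · rw [Equiv.Perm.mul_apply, (hgr _).1, hv1]
        exact (Nat.eq_of_beq_eq_true (kall_krange hc r.val r.isLt)).symm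
      · rw [Equiv.Perm.mul_apply, (hgr _).2, hv2]

theorem cnt_eq (W : WData) {a : Equiv.Perm (Fin D.nroots)} {j : ℕ}
    (ha : ∀ r, (a r).val = Cert.byte (W.rp j) r.val) :
    W.cnt D.nroots j = ∑ r : Fin D.nroots,
      if D.nroots / 2 ≤ r.val ∧ evF D W r = true ∧ (a r).val < D.nroots / 2 then 1 else 0 := by
  have key : ∀ k, Nat.rec (motive := fun _ => ℕ) 0 (fun r ih => ih +
      bif decide (D.nroots / 2 ≤ r) && inM W.ev r && decide (Cert.byte (W.rp j) r < D.nroots / 2) then 1 else 0) k =
      ∑ r ∈ Finset.range k,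
        bif decide (D.nroots / 2 ≤ r) && inM W.ev r && decide (Cert.byte (W.rp j) r < D.nroots / 2) then 1 else 0 := by
    intro k
    induction k with
    | zero => rfl
    | succ k ih => rw [Finset.sum_range_succ, ← ih]
  rw [WData.cnt, key, Finset.sum_range]
  refine Finset.sum_congr rfl fun r _ => ?_
  rw [← ha, evF]
  cases inM W.ev r.val <;> simp [Bool.cond_eq_ite]

theorem img_eq (W : WData) {a : Equiv.Perm (Fin D.nroots)} {j M : ℕ}
    (ha : ∀ r, (a r).val = Cert.byte (W.rp j) r.val) :
    W.img D.nroots j M = ∑ r : Fin D.nroots, if inM M r.val = true then 2 ^ (a r).val else 0 := by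
  have key : ∀ k, Nat.rec (motive := fun _ => ℕ) 0
      (fun r ih => ih + bif inM M r then 2 ^ Cert.byte (W.rp j) r else 0) k =
      ∑ r ∈ Finset.range k, bif inM M r then 2 ^ Cert.byte (W.rp j) r else 0 := by
    intro k
    induction k with
    | zero => rfl
    | succ k ih => rw [Finset.sum_range_succ, ← ih]
  rw [WData.img, key, Finset.sum_range]
  refine Finset.sum_congr rfl fun r _ => ?_
  rw [← ha]
  cases inM M r.val <;> simp

theorem NE_eq_sum (E : Fin D.nroots → Bool) (w : Equiv.Perm (Fin D.nroots)) :
    NE D E w = ∑ r : Fin D.nroots, if D.nroots / 2 ≤ r.val ∧ E r = true ∧ (w r).val < D.nroots / 2 then 1 else 0 := by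
  rw [NE, Finset.card_filter]

theorem peval_levPoly (W : WData) (n : ℕ) (V : WLev) (q : ℤ) :
    peval (W.levPoly n V) q = ∑ a ∈ Finset.range V.imgs.length, q ^ W.cnt n (V.start + a) := by
  have key : ∀ L : List ℕ,
      peval (@List.rec ℕ (fun _ => List ℤ) [] (fun a _ ih => padd (pmono (W.cnt n (V.start + a))) ih) L) q =
        (L.map fun a => q ^ W.cnt n (V.start + a)).sum := by
    intro L
    induction L with
    | nil => rfl
    | cons a L ih => rw [List.map_cons, List.sum_cons, ← ih, ← peval_pmono, ← peval_padd]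
  rw [WData.levPoly, key, krange_eq, ← List.range_eq_range']
  rfl

theorem levels_spec (S : Struct D C) (W : WData) (hg : W.okGen C D.nroots D.rank = true)
    (hr : W.okRep D.nroots = true) : ∀ Ls : List WLev, W.okLevs D.nroots Ls = true →
      ∃ X : Finset (Equiv.Perm (Fin D.nroots)),
        (∀ v ∈ X, v ∈ S.WG ∧ (∀ r, evF D W (v r) = evF D W r) ∧ ∀ M,
          (∀ V ∈ Ls, ∀ j, V.start ≤ j → j < V.start + V.imgs.length → W.keeps D.nroots j M = true) →
            ∀ r, inM M (v r).val = inM M r.val) ∧
        X.card = levSize Ls ∧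
        ∀ q : ℤ, ∑ v ∈ X, q ^ NE D (evF D W) v = peval (W.poly D.nroots Ls) q
  | [], _ => by
    refine ⟨{1}, fun v hv => ?_, rfl, fun q => ?_⟩
    · rw [Finset.mem_singleton] at hv
      subst hv
      exact ⟨one_mem _, fun r => rfl, fun M _ r => rfl⟩
    · rw [Finset.sum_singleton, NE_eq_sum, Finset.sum_eq_zero (fun r _ => if_neg ?_)]
      · simp [WData.poly, peval]
      · rintro ⟨h1, -, h2⟩
        exact absurd h1 (Nat.not_le.2 h2)
  | V :: Ls, h => by
    have h' : (W.okLev D.nroots V Ls && W.okLevs D.nroots Ls) = true := h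
    rw [Bool.and_eq_true] at h'
    obtain ⟨X, hX, hcard, hsum⟩ := levels_spec S W hg hr Ls h'.2
    have hV := h'.1
    simp only [WData.okLev, Bool.and_eq_true, decide_eq_true_eq] at hV
    obtain ⟨⟨⟨⟨⟨hlen, hnd⟩, hout⟩, hsub⟩, hkeep⟩, himg⟩ := hV
    have hex : ∀ j, ∃ w, j < W.reps.length →
        w ∈ S.WG ∧ (∀ r, (w r).val = Cert.byte (W.rp j) r.val) ∧ ∀ r, evF D W (w r) = evF D W r := fun j => by
      by_cases hj : j < W.reps.length
      · obtain ⟨w, a, b⟩ := exists_rep S W hg hr j hj
        exact ⟨w, fun _ => ⟨a, b⟩⟩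
      · exact ⟨1, fun e => absurd e hj⟩
    choose rep hrep using hex
    have hin : ∀ {i}, i < V.imgs.length → V.start + i < W.reps.length := fun {i} hi => by omega
    have hfix : ∀ v ∈ X, ∀ r : Fin D.nroots,
        inM V.sub (v r).val = inM V.sub r.val ∧ inM V.out (v r).val = inM V.out r.val := fun v hv r => by
      have hk : ∀ V' ∈ Ls, ∀ j, V'.start ≤ j → j < V'.start + V'.imgs.length →
          W.keeps D.nroots j V.sub = true ∧ W.keeps D.nroots j V.out = true := fun V' hV' j a b => by
        have := (kall_iff _ _).1 ((kall_iff _ _).1 hkeep V' hV') j (by rw [krange_eq, List.mem_range'_1]; omega)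
        exact (Bool.and_eq_true _ _).mp this
      exact ⟨(hX v hv).2.2 _ (fun V' a j b c => (hk V' a j b c).1) r,
        (hX v hv).2.2 _ (fun V' a j b c => (hk V' a j b c).2) r⟩
    have hsb : ∀ {i}, i < V.imgs.length → ∀ r : Fin D.nroots, inM V.sub r.val = true →
        ((rep (V.start + i) r).val < D.nroots / 2 ↔ r.val < D.nroots / 2) := fun {i} hi r hs => by
      have h1 := (kall_krange himg i hi)
      rw [Bool.and_eq_true] at h1
      have h2 := kall_krange h1.2 r.val r.isLt
      rw [hs, Bool.not_true, Bool.false_or, beq_iff_eq, ← (hrep _ (hin hi)).2.1 r] at h2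
      exact decide_eq_decide.1 h2
    have hout' : ∀ r : Fin D.nroots, inM V.out r.val = true ↔
        D.nroots / 2 ≤ r.val ∧ evF D W r = true ∧ inM V.sub r.val = false := fun r => by
      have h1 := beq_iff_eq.1 (kall_krange hout r.val r.isLt)
      rw [h1, evF]
      simp [and_assoc]
    have hadd : ∀ {i}, i < V.imgs.length → ∀ v ∈ X,
        NE D (evF D W) (rep (V.start + i) * v) = W.cnt D.nroots (V.start + i) + NE D (evF D W) v := by
      intro i hi v hv
      set a := rep (V.start + i)
      rw [cnt_eq W (hrep _ (hin hi)).2.1, NE_eq_sum, NE_eq_sum]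
      have hA : ∀ x : Fin D.nroots,
          (if D.nroots / 2 ≤ x.val ∧ evF D W x = true ∧ (a x).val < D.nroots / 2 then 1 else 0 : ℕ) =
          if inM V.out x.val = true ∧ (a x).val < D.nroots / 2 then 1 else 0 := fun x => by
        refine if_congr ⟨fun ⟨h1, h2, h3⟩ => ⟨(hout' x).2 ⟨h1, h2, ?_⟩, h3⟩, fun ⟨h1, h3⟩ =>
          ⟨((hout' x).1 h1).1, ((hout' x).1 h1).2.1, h3⟩⟩ rfl rfl
        cases hs : inM V.sub x.val
        · rfl
        · have := (hsb hi x hs).1 h3; omega
      rw [Finset.sum_congr rfl fun x _ => hA x,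
        ← Equiv.sum_comp v (fun x => if inM V.out x.val = true ∧ (a x).val < D.nroots / 2 then 1 else 0 : _ → ℕ),
        ← Finset.sum_add_distrib]
      refine Finset.sum_congr rfl fun r _ => ?_
      obtain ⟨hs, ho⟩ := hfix v hv r
      rw [ho, Equiv.Perm.mul_apply]
      by_cases hpe : D.nroots / 2 ≤ r.val ∧ evF D W r = true
      · cases hsr : inM V.sub r.val
        · have hor : inM V.out r.val = true := (hout' r).2 ⟨hpe.1, hpe.2, hsr⟩
          have hvr : ¬ (v r).val < D.nroots / 2 := by
            have := ((hout' (v r)).1 (ho.trans hor)).1; omega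
          simp [hpe.1, hpe.2, hor, hvr]
        · have hor : inM V.out r.val = false := by
            cases e : inM V.out r.val
            · rfl
            · rw [((hout' r).1 e).2.2] at hsr; exact absurd hsr Bool.false_ne_true
          have hiff := hsb hi (v r) (hs.trans hsr)
          simp [hpe.1, hpe.2, hor]
          exact if_congr hiff rfl rfl
      · have hor : inM V.out r.val = false := by
          cases e : inM V.out r.val
          · rfl
          · exact absurd ⟨((hout' r).1 e).1, ((hout' r).1 e).2.1⟩ hpe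
        have h1 : ∀ p : Prop, ¬ (D.nroots / 2 ≤ r.val ∧ evF D W r = true ∧ p) := fun p hp => hpe ⟨hp.1, hp.2.1⟩
        simp [hor, h1]
    have hinj : Set.InjOn (fun p : ℕ × Equiv.Perm (Fin D.nroots) => rep (V.start + p.1) * p.2)
        ↑(Finset.range V.imgs.length ×ˢ X) := by
      rintro ⟨i, v⟩ hp ⟨i', v'⟩ hp' e
      simp only [Finset.coe_product, Set.mem_prod, Finset.mem_coe, Finset.mem_range] at hp hp'
      obtain ⟨hi, hv⟩ := hp
      obtain ⟨hi', hv'⟩ := hp'
      have e' : rep (V.start + i) * v = rep (V.start + i') * v' := e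
      have hw : ∀ {i}, i < V.imgs.length → ∀ v ∈ X, W.img D.nroots (V.start + i) V.out =
          ∑ r : Fin D.nroots, if inM V.out r.val = true then 2 ^ ((rep (V.start + i) * v) r).val else 0 := by
        intro i hi v hv
        rw [img_eq W (hrep _ (hin hi)).2.1, ← Equiv.sum_comp v]
        refine Finset.sum_congr rfl fun r _ => ?_
        rw [(hfix v hv r).2]; rfl
      have hm : W.img D.nroots (V.start + i) V.out = W.img D.nroots (V.start + i') V.out := by
        rw [hw hi v hv, hw hi' v' hv', e']
      have hd : ∀ {i}, i < V.imgs.length → V.imgs.getD i 0 = W.img D.nroots (V.start + i) V.out := fun {i} hi =>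
        Nat.eq_of_beq_eq_true ((Bool.and_eq_true _ _).mp (kall_krange himg i hi)).1
      rw [← hd hi, ← hd hi', List.getD_eq_getElem _ _ hi, List.getD_eq_getElem _ _ hi', hnd.getElem_inj_iff] at hm
      subst hm
      rw [mul_left_cancel e']
    refine ⟨(Finset.range V.imgs.length ×ˢ X).image fun p => rep (V.start + p.1) * p.2, ?_, ?_, ?_⟩
    · intro w hw
      obtain ⟨⟨i, v⟩, hp, rfl⟩ := Finset.mem_image.1 hw
      simp only [Finset.mem_product, Finset.mem_range] at hp
      obtain ⟨a1, a2, a3⟩ := hrep _ (hin hp.1)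
      obtain ⟨b1, b2, b3⟩ := hX v hp.2
      refine ⟨mul_mem a1 b1, fun r => by rw [Equiv.Perm.mul_apply, a3, b2], fun M hM r => ?_⟩
      rw [Equiv.Perm.mul_apply]
      have hk := kall_krange (hM V List.mem_cons_self (V.start + i) (Nat.le_add_right _ _) (by omega)) _ (v r).isLt
      rw [beq_iff_eq, ← a2] at hk
      rw [hk, b3 M (fun V' hV' => hM V' (List.mem_cons_of_mem _ hV')) r]
    · rw [Finset.card_image_of_injOn hinj, Finset.card_product, Finset.card_range, hcard]
      rfl
    · intro q
      have e : W.poly D.nroots (V :: Ls) = pmul (W.levPoly D.nroots V) (W.poly D.nroots Ls) := rfl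
      rw [Finset.sum_image hinj, Finset.sum_product, e, peval_pmul, peval_levPoly, ← hsum, Finset.sum_mul]
      refine Finset.sum_congr rfl fun i hi => ?_
      rw [Finset.mul_sum]
      refine Finset.sum_congr rfl fun v hv => ?_
      rw [hadd (Finset.mem_range.1 hi) v hv, pow_add]

end Cfsg.Lib.Chev.InvSemi
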