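import Cfsg.Agent.Chev.InvSemi.Masks
import Cfsg.Agent.Chev.InvSemi.Levels

/-! Classes and centralisers of diagonal involutions from certificates. -/

set_option autoImplicit false

open Cfsg.Lie

namespace Cfsg.Lib.Chev.InvSemi

/-- Every non-zero mask moves to one of two representatives. -/
noncomputable def okCls (C : Cert) (l m1 m2 : ℕ) (words : List (List ℕ)) : Bool :=
  kall (fun L => kall (fun x => decide (x < l)) L) words &&
    kall (fun m => Nat.beq m 0 || Nat.beq (flips C l (words.getD m []) m) m1 ||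
      Nat.beq (flips C l (words.getD m []) m) m2) (krange 0 (2 ^ l))

/-- A list of distinct images of a mask. -/
noncomputable def okOrb (C : Cert) (l m0 : ℕ) (ob : List (ℕ × List ℕ)) : Bool :=
  decide (ob.map Prod.fst).Nodup &&
    kall (fun e => decide (e.1 < 2 ^ l) && kall (fun x => decide (x < l)) e.2 && Nat.beq (flips C l e.2 m0) e.1) ob

/-- A marking is the set of roots trivial on a mask. -/
noncomputable def okEv (C : Cert) (n l m0 : ℕ) (W : WData) : Bool :=
  kall (fun r => inM W.ev r == !parN C m0 r l) (krange 0 n)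

variable {D : ChevalleyDatum} {C : Cert} {F : Type*} [Field F]

theorem exists_fins' {l : ℕ} {L : List ℕ} (h : kall (fun x => decide (x < l)) L = true) :
    ∃ L' : List (Fin l), L'.map Fin.val = L :=
  ⟨L.pmap Fin.mk fun x hx => of_decide_eq_true ((kall_iff _ _).1 h x hx), by simp [List.map_pmap]⟩

theorem tI_ne_one [NeZero (2 : F)] (S : Struct D C) (hinj : Function.Injective (Ok.tG D F)) {m : ℕ}
    (hm : m < 2 ^ D.rank) (hm0 : m ≠ 0) : orderOf (S.tI F (sgV D F m)) = 2 := by
  have h0 : sgV D F 0 = 1 := funext fun i => by simp [sgV, sgU]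
  have hsq : sgV D F m * sgV D F m = 1 := funext fun i => by
    rw [Pi.mul_apply, sgV, ← sgU_xor, Bool.xor_self]; rfl
  refine orderOf_eq_prime (p := 2) (by rw [pow_two, ← map_mul, hsq, map_one]) fun e => hm0 ?_
  refine sgV_inj (D := D) (F := F) hm (by positivity) (hinj ?_)
  rw [h0, map_one, ← Struct.tI_val S, e]
  rfl

theorem classify [NeZero (2 : F)] (S : Struct D C) (hinj : Function.Injective (Ok.tG D F))
    (hdiag : ∀ u ∈ D.group F, u * u = 1 → ∃ g ∈ D.group F, g * u * g⁻¹ ∈ D.diagonalSubgroup F)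
    {m1 m2 : ℕ} {words : List (List ℕ)} (h : okCls C D.rank m1 m2 words = true)
    (u : ↥(D.group F)) (hu : orderOf u = 2) :
    IsConj u (S.tI F (sgV D F m1)) ∨ IsConj u (S.tI F (sgV D F m2)) := by
  have hu2 : u * u = 1 := by rw [← pow_two, ← hu, pow_orderOf_eq_one]
  have hu1 : u ≠ 1 := fun e => by rw [e, orderOf_one] at hu; exact absurd hu (by norm_num)
  obtain ⟨g, hg, hd⟩ := hdiag u u.2 (congrArg Subtype.val hu2)
  obtain ⟨c, hc⟩ := S.exists_tI (g := (⟨g, hg⟩ : ↥(D.group F)) * u * (⟨g, hg⟩)⁻¹) hd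
  have hconj : IsConj u (S.tI F c) := isConj_iff.2 ⟨⟨g, hg⟩, hc⟩
  have hc2 : S.tI F (c * c) = 1 := by
    rw [map_mul, ← hc, show ∀ a b : ↥(D.group F), a * b * a⁻¹ * (a * b * a⁻¹) = a * (b * b) * a⁻¹ from
      fun a b => by group, hu2, mul_one, mul_inv_cancel]
  have hcc : c * c = 1 := hinj (by
    rw [map_one, ← Struct.tI_val S, hc2]; rfl)
  obtain ⟨m, hm, rfl⟩ := exists_sgV (D := D) hcc
  simp only [okCls, Bool.and_eq_true] at h
  have hm' := kall_krange h.2 m hm
  obtain ⟨L, hL⟩ : ∃ L : List (Fin D.rank), L.map Fin.val = words.getD m [] := by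
    by_cases hlt : m < words.length
    · refine exists_fins' ((kall_iff _ _).1 h.1 _ ?_)
      rw [List.getD_eq_getElem _ _ hlt]; exact List.getElem_mem _
    · exact ⟨[], by rw [List.getD_eq_default _ _ (by omega)]; rfl⟩
  have hmove : IsConj (S.tI F (sgV D F m)) (S.tI F (sgV D F (flips C D.rank (words.getD m []) m))) :=
    isConj_iff.2 ⟨S.nW F L, by rw [conj_flips S m L, hL]⟩
  simp only [Bool.or_eq_true] at hm'
  rcases hm' with (h0 | h1) | h2
  · refine absurd (isConj_one_left.1 ?_) hu1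
    have : sgV D F m = 1 := by
      rw [Nat.eq_of_beq_eq_true h0]; exact funext fun i => by simp [sgV, sgU]
    rw [this, map_one] at hconj
    exact hconj
  · rw [Nat.eq_of_beq_eq_true h1] at hmove
    exact Or.inl (hconj.trans hmove)
  · rw [Nat.eq_of_beq_eq_true h2] at hmove
    exact Or.inr (hconj.trans hmove)

open scoped Classical in
theorem card_stab_mul_le [Fintype F] [NeZero (2 : F)] (S : Struct D C) (hinj : Function.Injective (Ok.tG D F))
    {m0 : ℕ} {E : Fin D.nroots → Bool} (hE : Marks D (sgV D F m0) E) {ob : List (ℕ × List ℕ)}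
    (h : okOrb C D.rank m0 ob = true) :
    (Finset.univ.filter fun w : Equiv.Perm (Fin D.nroots) => w ∈ S.WG ∧ ∀ r, E (w r) = E r).card * ob.length ≤
      Nat.card ↥S.WG := by
  simp only [okOrb, Bool.and_eq_true, decide_eq_true_eq, kall_iff] at h
  have hw : ∀ k : Fin ob.length, ∃ L : List (Fin D.rank), L.map Fin.val = (ob.get k).2 := fun k =>
    exists_fins' ((kall_iff _ _).2 fun x hx => decide_eq_true ((h.2 _ (List.get_mem _ k)).1.2 x hx))
  choose L hL using hw
  have hchi : ∀ (k : Fin ob.length) (r : Fin D.nroots),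
      chi D (sgV D F (ob.get k).1) (S.wpL (L k) r).val = chi D (sgV D F m0) r.val := fun k r => by
    refine chi_conj S (S.act_nL (L k)) ?_ r
    have h1 := congrArg Subtype.val (conj_flips (F := F) S m0 (L k))
    rw [Subgroup.coe_mul, Subgroup.coe_mul, Subgroup.coe_inv, Struct.tI_val, Struct.tI_val, S.nW_val, hL,
      Nat.eq_of_beq_eq_true (h.2 _ (List.get_mem _ k)).2] at h1
    exact h1
  generalize hW : Finset.univ.filter (fun w : Equiv.Perm (Fin D.nroots) => w ∈ S.WG ∧ ∀ r, E (w r) = E r) = W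
  have hmem : ∀ w ∈ W, w ∈ S.WG ∧ ∀ r, E (w r) = E r := fun w hw => by rw [← hW] at hw; simpa using hw
  clear hW
  let f : ↥W × Fin ob.length → ↥S.WG := fun p =>
    ⟨S.wpL (L p.2) * (p.1 : Equiv.Perm _), mul_mem (S.wpL_mem_WG _) (hmem _ p.1.2).1⟩
  have hf : Function.Injective f := by
    rintro ⟨w, k⟩ ⟨w', k'⟩ e
    have e' : S.wpL (L k) * (w : Equiv.Perm _) = S.wpL (L k') * (w' : Equiv.Perm _) := congrArg Subtype.val e
    have hst : ∀ (v : ↥W) (r : Fin D.nroots),
        chi D (sgV D F m0) ((v : Equiv.Perm _) r).val = chi D (sgV D F m0) r.val := fun v r => by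
      by_cases h1 : chi D (sgV D F m0) r.val = 1
      · rw [h1, hE, (hmem _ v.2).2, ← hE]; exact h1
      · rw [(chi_sgV_cases S m0 r).resolve_left h1]
        exact (chi_sgV_cases S m0 _).resolve_left fun e =>
          h1 ((hE r).2 ((hmem _ v.2).2 r ▸ (hE _).1 e))
    have hk : k = k' := by
      have hmm : (ob.get k).1 = (ob.get k').1 := by
        refine sgV_inj (D := D) (F := F) (h.2 _ (List.get_mem _ k)).1.1 (h.2 _ (List.get_mem _ k')).1.1
          (hinj (tG_eq_of_chi fun x => ?_))
        obtain ⟨r, rfl⟩ := (S.wpL (L k) * (w : Equiv.Perm _)).surjective x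
        conv_rhs => rw [e']
        rw [Equiv.Perm.mul_apply, Equiv.Perm.mul_apply, hchi, hchi, hst, hst]
      have h3 : (ob.map Prod.fst)[k.val]'(by simp) = (ob.map Prod.fst)[k'.val]'(by simp) := by
        simpa using hmm
      exact Fin.ext (h.1.getElem_inj_iff.1 h3)
    subst hk
    rw [Subtype.ext (mul_left_cancel e')]
  have := Nat.card_le_card_of_injective f hf
  rwa [Nat.card_prod, Nat.card_eq_fintype_card, Fintype.card_coe, Nat.card_fin] at this

open scoped Classical in
theorem card_cent_mask [Fintype F] [NeZero (2 : F)] (S : Struct D C) (hN : okNeg D = true)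
    (hinj : Function.Injective (Ok.tG D F)) {m0 : ℕ} {W : WData} {Ls : List WLev} {ob : List (ℕ × List ℕ)}
    (hEv : okEv C D.nroots D.rank m0 W = true) (hg : W.okGen C D.nroots D.rank = true)
    (hr : W.okRep D.nroots = true) (hl : W.okLevs D.nroots Ls = true) (hob : okOrb C D.rank m0 ob = true)
    (hcard : Nat.card ↥S.WG = levSize Ls * ob.length) (hne : 0 < ob.length) :
    (Nat.card (Subgroup.centralizer ({S.tI F (sgV D F m0)} : Set ↥(D.group F))) : ℤ) =
      (Fintype.card F : ℤ) ^ NP D (evF D W) * (((Fintype.card F : ℤ) - 1) ^ D.rank *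
        peval (W.poly D.nroots Ls) (Fintype.card F : ℤ)) := by
  have hE : Marks D (sgV D F m0) (evF D W) := marks_sgV S m0 fun r => beq_iff_eq.1 (kall_krange hEv r.val r.isLt)
  obtain ⟨X, hX, hXc, hXs⟩ := levels_spec S W hg hr Ls hl
  have hle := card_stab_mul_le S hinj hE hob
  have hsub : X ⊆ Finset.univ.filter fun w : Equiv.Perm (Fin D.nroots) =>
      w ∈ S.WG ∧ ∀ r, evF D W (w r) = evF D W r := fun v hv =>
    Finset.mem_filter.2 ⟨Finset.mem_univ _, (hX v hv).1, (hX v hv).2.1⟩
  rw [hcard] at hle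
  have hXW := Finset.eq_of_subset_of_card_le hsub (by rw [hXc]; exact Nat.le_of_mul_le_mul_right hle hne)
  have hc := card_cent S hN hinj hE (chi_sgV_cases S m0)
  rw [← hXW] at hc
  have e : Nat.card (Subgroup.centralizer ({S.tI F (sgV D F m0)} : Set ↥(D.group F))) =
      Nat.card {g : GL D.Idx F // g ∈ D.group F ∧
        g * Ok.tG D F (sgV D F m0) = Ok.tG D F (sgV D F m0) * g} :=
    Nat.card_congr
      { toFun := fun g => ⟨g.1.1, g.1.2,
          congrArg Subtype.val (Subgroup.mem_centralizer_singleton_iff.1 g.2)⟩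
        invFun := fun g => ⟨⟨g.1, g.2.1⟩, Subgroup.mem_centralizer_singleton_iff.2 (Subtype.ext g.2.2)⟩
        left_inv := fun g => rfl
        right_inv := fun g => rfl }
  rw [e, hc, ← hXs]
  push_cast [Nat.cast_sub (Fintype.card_pos : 0 < Fintype.card F)]
  ring

end Cfsg.Lib.Chev.InvSemi
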