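import Cfsg.Agent.Chev.InvSemi.Refl

/-! A certified search through the sets of pairwise orthogonal roots. -/

set_option autoImplicit false
set_option linter.unusedSectionVars false

open Cfsg.Lie

namespace Cfsg.Lib.Chev.InvSemi

/-- A forest of witnesses over a list of candidates. -/
inductive Tr where
  /-- no candidates -/
  | nil
  /-- the set is not closed: witness root -/
  | prune (s : ℕ) (next : Tr)
  /-- the roots `r`, `u`, `s` of a splitting, with the children -/
  | node (s r u : ℕ) (kids next : Tr)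

variable {D : ChevalleyDatum} {C : Cert} {T : List (List ℤ)} {P : List ℕ}

/-- `∑ pr(s, r) ht(r)` over a list. -/
noncomputable def comb (T : List (List ℤ)) (P : List ℕ) (s k : ℕ) : List ℕ → ℤ :=
  @List.rec ℕ (fun _ => ℤ) 0 (fun r _ ih => prAt P s r * htAt T r k + ih)

theorem comb_eq (s k : ℕ) (L : List ℕ) : comb T P s k L = (L.map fun r => prAt P s r * htAt T r k).sum := by
  induction L with
  | nil => rfl
  | cons r L ih =>
    rw [List.map_cons, List.sum_cons, ← ih]
    rfl

/-- The witness of a set which is not closed. -/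
noncomputable def okPrune (D : ChevalleyDatum) (T : List (List ℤ)) (P : List ℕ) (S rest : List ℕ) (s : ℕ) : Bool :=
  Nat.blt s D.nroots && kall (fun r => !(Nat.beq r s) && !(Nat.beq r (D.negIdx.getD s 0))) S &&
    kall (fun r => !(Nat.beq r s) && !(Nat.beq r (D.negIdx.getD s 0)) && Nat.beq (Cert.byte (P.getD r 0) s) 3) rest &&
    kall (fun k => decide (comb T P s k S = 2 * htAt T s k)) (krange 0 D.rank)

/-- The witness of a splitting. -/
noncomputable def okSplit (D : ChevalleyDatum) (T : List (List ℤ)) (P : List ℕ) (S : List ℕ) (s r u : ℕ) : Bool :=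
  Nat.blt s D.nroots && Nat.blt u D.nroots && S.contains r &&
    kall (fun k => decide (htAt T u k = htAt T s k - comb T P s k S)) (krange 0 D.rank) &&
    !(Nat.beq u r) && !(Nat.beq u (D.negIdx.getD r 0)) && !(Nat.beq s r) && !(Nat.beq s (D.negIdx.getD r 0)) &&
    (decide (D.commTerms r u = [(s, 1, 1, 1)] ∧ D.commTerms (D.negIdx.getD r 0) s = [(u, 1, 1, 1)]) ||
      decide (D.commTerms r u = [(s, -1, 1, 1)] ∧ D.commTerms (D.negIdx.getD r 0) s = [(u, -1, 1, 1)]))

/-- The candidates orthogonal to a new root. -/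
noncomputable def orthTo (P : List ℕ) (r : ℕ) : List ℕ → List ℕ :=
  @List.rec ℕ (fun _ => List ℕ) []
    (fun x _ ih => Bool.rec ih (x :: ih) (Nat.beq (Cert.byte (P.getD r 0) x) 3 && Nat.beq (Cert.byte (P.getD x 0) r) 3))

theorem mem_orthTo {r x : ℕ} {L : List ℕ} (h : x ∈ L) (h1 : Cert.byte (P.getD r 0) x = 3)
    (h2 : Cert.byte (P.getD x 0) r = 3) : x ∈ orthTo P r L := by
  induction L with
  | nil => simp at h
  | cons a L ih =>
    have e : orthTo P r (a :: L) = Bool.rec (orthTo P r L) (a :: orthTo P r L)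
      (Nat.beq (Cert.byte (P.getD r 0) a) 3 && Nat.beq (Cert.byte (P.getD a 0) r) 3) := rfl
    rw [e]
    rcases List.mem_cons.1 h with rfl | h
    · rw [h1, h2]; exact List.mem_cons_self
    · cases (Nat.beq (Cert.byte (P.getD r 0) a) 3 && Nat.beq (Cert.byte (P.getD a 0) r) 3)
      · exact ih h
      · exact List.mem_cons_of_mem _ (ih h)

/-- The checker of a forest. -/
noncomputable def chkF (D : ChevalleyDatum) (T : List (List ℤ)) (P : List ℕ) :
    Tr → List ℕ → List ℕ → Bool :=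
  @Tr.rec (fun _ => List ℕ → List ℕ → Bool)
    (fun _ cands => cands.isEmpty)
    (fun s _ ih S cands => @List.rec ℕ (fun _ => Bool) false
      (fun r rest _ => okPrune D T P (r :: S) (orthTo P r rest) s && ih S rest) cands)
    (fun s x u _ _ ihk ih S cands => @List.rec ℕ (fun _ => Bool) false
      (fun r rest _ => okSplit D T P (r :: S) s x u && ihk (r :: S) (orthTo P r rest) && ih S rest) cands)

/-- The positive roots after the fundamental one orthogonal to it. -/
noncomputable def candsOf (D : ChevalleyDatum) (P : List ℕ) (a : ℕ) : List ℕ :=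
  orthTo P a (krange (Nat.div D.nroots 2) (Nat.sub D.nroots (Nat.div D.nroots 2)))

/-- A complete tree at a fundamental root. -/
noncomputable def okTop (D : ChevalleyDatum) (T : List (List ℤ)) (P : List ℕ) (a s x u : ℕ) (t : Tr) : Bool :=
  okSplit D T P [a] s x u && chkF D T P t [a] (candsOf D P a)

variable (X : PData D C T P)
include X

theorem PData.ht_inj {r s : Fin D.nroots} (h : ∀ k : Fin D.rank, htAt T r.val k = htAt T s.val k) : r = s := by
  obtain ⟨g, hg, j, e⟩ := X.X.exists_orbit _ s.isLt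
  have e' : g⁻¹ s = X.X.S.sp j := by
    rw [← show g (X.X.S.sp j) = s from Fin.ext e, Equiv.Perm.inv_def, Equiv.symm_apply_apply]
  have e2 : g⁻¹ r = X.X.S.sp j := by
    refine Fin.ext (X.X.hunit _ (Fin.isLt _) _ j.isLt fun k hk => ?_)
    have h2 := X.X.ht_sp j ⟨k, hk⟩
    rw [← e', X.X.ht_apply (inv_mem hg)] at h2
    rw [X.X.ht_apply (inv_mem hg) _ ⟨k, hk⟩]
    simp only [h]
    exact h2
  exact (g⁻¹).injective (e2.trans e'.symm)

theorem PData.pr_self (r : Fin D.nroots) : X.pr r r ≠ 0 := by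
  obtain ⟨g, hg, j, e⟩ := X.X.exists_orbit _ r.isLt
  rw [← show g (X.X.S.sp j) = r from Fin.ext e, X.pr_w hg, (X.simple_spec j _).1]
  show D.cartan j (C.sr j.val) ≠ 0
  rw [← X.X.S.ok.cart_eq j.isLt (X.X.S.ok.sr_lt j.isLt), (X.X.S.ok.refl_simple j.isLt).2.2.2]
  norm_num

open scoped Classical in
/-- All negated roots. -/
noncomputable def PData.revs (w : Equiv.Perm (Fin D.nroots)) : Finset (Fin D.nroots) :=
  Finset.univ.filter fun r => Rev X.X.S w r

theorem PData.mem_revs {w : Equiv.Perm (Fin D.nroots)} {r : Fin D.nroots} :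
    r ∈ X.revs w ↔ Rev X.X.S w r := by
  simp [PData.revs]

/-- The pairwise pairings of the negated roots are even. -/
def PData.NoOdd (w : Equiv.Perm (Fin D.nroots)) : Prop :=
  ∀ r b, Rev X.X.S w r → Rev X.X.S w b → ¬ Odd (X.pr b r)

theorem PData.orth {w : Equiv.Perm (Fin D.nroots)} (h : X.NoOdd w) {r b : Fin D.nroots} (hr : Rev X.X.S w r)
    (hb : Rev X.X.S w b) (h1 : r ≠ b) (h2 : ng X.X.S r ≠ b) : X.pr b r = 0 ∧ X.pr r b = 0 := by
  rcases (X.spec r b).2.2 with e | e | e | e | e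
  · exact absurd e h1
  · exact absurd e h2
  · exact e
  · exact absurd e (h r b hr hb)
  · exact absurd e (h b r hb hr)

/-- An involution with orthogonal negated roots is the product of their reflections. -/
theorem PData.ht_orth : ∀ (m : ℕ) (w : Equiv.Perm (Fin D.nroots)), (X.revs w).card = m → w ∈ X.X.S.WG →
    w * w = 1 → X.NoOdd w → ∀ (s : Fin D.nroots) (k : Fin D.rank),
      2 * htAt T (w s).val k = 2 * htAt T s.val k - ∑ r ∈ X.revs w, X.pr s r * htAt T r.val k := by
  classical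
  intro m
  induction m using Nat.strong_induction_on with
  | _ m ih =>
    intro w hm hw hw2 hno
    by_cases h1 : w = 1
    · subst h1
      intro s k
      rw [show X.revs 1 = ∅ from Finset.filter_eq_empty_iff.2 fun r _ h => ng_ne X.X.S r h.symm]
      simp
    set S := X.X.S
    obtain ⟨r0, hr0⟩ := exists_rev S _ w rfl hw hw2 h1
    obtain ⟨g, hg, i, e⟩ := X.X.exists_orbit _ r0.isLt
    have hgr : g⁻¹ r0 = S.sp i := by
      rw [← show g (S.sp i) = r0 from Fin.ext e, Equiv.Perm.inv_def, Equiv.symm_apply_apply]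
    set w' := g⁻¹ * w * g⁻¹⁻¹ with hw'
    have hg' := inv_mem hg
    have hmem : ∀ r, g⁻¹ r ∈ X.revs w' ↔ r ∈ X.revs w := fun r => by
      rw [X.mem_revs, X.mem_revs, hw', rev_conj S hg']
    have hno' : X.NoOdd w' := fun r b hr hb => by
      rw [← Equiv.apply_symm_apply (g⁻¹) r, hw', rev_conj S hg'] at hr
      rw [← Equiv.apply_symm_apply (g⁻¹) b, hw', rev_conj S hg'] at hb
      rw [← Equiv.apply_symm_apply (g⁻¹) r, ← Equiv.apply_symm_apply (g⁻¹) b, X.pr_w hg']
      exact hno _ _ hr hb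
    have hi : Rev S w' (S.sp i) := by rw [← hgr, hw', rev_conj S hg']; exact hr0
    have hw'2 : w' * w' = 1 := by
      rw [hw', show g⁻¹ * w * g⁻¹⁻¹ * (g⁻¹ * w * g⁻¹⁻¹) = g⁻¹ * (w * w) * g⁻¹⁻¹ by group, hw2, mul_one,
        mul_inv_cancel]
    have hw'm : w' ∈ S.WG := mul_mem (mul_mem hg' hw) (inv_mem hg')
    have hcard : (X.revs w').card = m := by
      rw [← hm]
      refine (Finset.card_bij (fun r _ => g⁻¹ r) (fun r hr => (hmem r).2 hr) (fun a _ b _ h => (g⁻¹).injective h)
        fun b hb => ⟨g b, (hmem _).1 (by simpa using hb), by simp⟩).symm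
    -- the formula for the conjugate
    obtain ⟨hv2, hsub⟩ := X.rev_shrink hw'm hw'2 hi
    set v := S.wp i * w' with hv
    have hvm : v ∈ S.WG := mul_mem (wp_mem S i) hw'm
    have hvi : v (S.sp i) = S.sp i := by
      rw [hv, Equiv.Perm.mul_apply, hi, apply_ng S (wp_mem S i), wp_sp, ng_ng]
    have hrevs : X.revs w' = insert (S.sp i) (insert (ng S (S.sp i)) (X.revs v)) := by
      ext r
      simp only [Finset.mem_insert, X.mem_revs]
      constructor
      · intro hr
        by_cases h2 : r = S.sp i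
        · exact Or.inl h2
        by_cases h3 : r = ng S (S.sp i)
        · exact Or.inr (Or.inl h3)
        refine Or.inr (Or.inr ?_)
        have h0 := (X.orth hno' hi hr (Ne.symm h2) (Ne.symm h3)).1
        rw [(X.simple_spec i r).1] at h0
        show S.wp i (w' r) = ng S r
        rw [hr, apply_ng S (wp_mem S i), (X.simple_spec i r).2.2 h0]
      · rintro (rfl | rfl | hr)
        · exact hi
        · rw [Rev, apply_ng S hw'm, hi]
        · exact (hsub r hr).1
    have hnin : S.sp i ∉ insert (ng S (S.sp i)) (X.revs v) ∧ ng S (S.sp i) ∉ X.revs v := by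
      constructor
      · simp only [Finset.mem_insert, X.mem_revs, not_or]
        exact ⟨(ng_ne S _).symm, fun h => (hsub _ h).2.1 rfl⟩
      · rw [X.mem_revs]; exact fun h => (hsub _ h).2.2 rfl
    have hlt : (X.revs v).card < m := by
      rw [← hcard, hrevs, Finset.card_insert_of_notMem hnin.1, Finset.card_insert_of_notMem hnin.2]
      omega
    have key : ∀ (s : Fin D.nroots) (k : Fin D.rank), 2 * htAt T (w' s).val k =
        2 * htAt T s.val k - ∑ r ∈ X.revs w', X.pr s r * htAt T r.val k := by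
      intro s k
      have h2 := ih _ hlt v rfl hvm hv2 (fun r b hr hb => hno' r b (hsub r hr).1 (hsub b hb).1) s k
      have h3 := X.ht_wp i (v s) k
      have e1 : S.wp i (v s) = w' s := by rw [hv, Equiv.Perm.mul_apply, wp_wp]
      have h4 : D.cartan i (v s) = X.pr s (S.sp i) := by
        rw [← (X.simple_spec i (v s)).1, ← X.pr_w hvm s (S.sp i), hvi]
      rw [e1, h4] at h3
      rw [hrevs, Finset.sum_insert hnin.1, Finset.sum_insert hnin.2, (X.spec (S.sp i) s).1,
        show (ng S (S.sp i)).val = D.neg (S.sp i).val from rfl, (ht_row X.X.hT (S.sp i).isLt k.isLt).1,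
        X.X.ht_sp i k, h3]
      by_cases hk : k = i
      · subst hk
        simp only [if_pos]
        linear_combination h2
      · rw [if_neg hk, if_neg (fun e => hk (Fin.ext e).symm)]
        linear_combination h2
    intro s k
    have h5 : w s = g (w' (g⁻¹ s)) := by
      rw [hw', inv_inv]; simp
    have hx : ∀ x : Fin D.nroots, htAt T x.val k = ∑ j : Fin D.rank, htAt T (g⁻¹ x).val j * Springer.Mz S T g j k := by
      intro x
      have := X.X.ht_apply hg (g⁻¹ x) k
      simpa using this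
    rw [hx (w s), hx s, show g⁻¹ (w s) = w' (g⁻¹ s) by rw [h5]; simp]
    simp only [Finset.mul_sum, ← mul_assoc, key, sub_mul, Finset.sum_sub_distrib, Finset.sum_mul]
    congr 1
    rw [Finset.sum_comm]
    refine (Finset.sum_bij (fun r _ => g⁻¹ r) (fun r hr => (hmem r).2 hr) (fun a _ b _ h => (g⁻¹).injective h)
      (fun b hb => ⟨g b, (hmem _).1 (by simpa using hb), by simp⟩) fun r _ => ?_).symm
    rw [hx r, Finset.mul_sum]
    exact Finset.sum_congr rfl fun j _ => by rw [X.pr_w hg']; ring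

/-- A splitting triple for the involution. -/
def PData.Trip (w : Equiv.Perm (Fin D.nroots)) : Prop :=
  ∃ (r s u : Fin D.nroots) (N : ℤ), (N = 1 ∨ N = -1) ∧ Rev X.X.S w r ∧ w s = u ∧ w u = s ∧
    D.commTerms r.val u.val = [(s.val, N, 1, 1)] ∧ D.commTerms (D.neg r.val) s.val = [(u.val, N, 1, 1)] ∧
    (u ≠ r ∧ u ≠ ng X.X.S r ∧ s ≠ r ∧ s ≠ ng X.X.S r)

/-- The list is the list of the positive negated roots. -/
def PData.IsPos (w : Equiv.Perm (Fin D.nroots)) (L : List ℕ) : Prop :=
  L.Nodup ∧ ∀ x, x ∈ L ↔ ∃ r : Fin D.nroots, r.val = x ∧ D.nroots / 2 ≤ x ∧ Rev X.X.S w r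

theorem PData.sum_pos {w : Equiv.Perm (Fin D.nroots)} (hw : w ∈ X.X.S.WG) {L : List ℕ} (hL : X.IsPos w L)
    (s : Fin D.nroots) (k : Fin D.rank) :
    ∑ r ∈ X.revs w, X.pr s r * htAt T r.val k = 2 * comb T P s.val k L := by
  classical
  have hsplit := Finset.sum_filter_add_sum_filter_not (X.revs w) (fun r : Fin D.nroots => D.nroots / 2 ≤ r.val)
    fun r => X.pr s r * htAt T r.val k
  rw [← hsplit, two_mul, comb_eq, ← List.sum_toFinset _ hL.1]
  have key : ∑ r ∈ (X.revs w).filter (fun r : Fin D.nroots => D.nroots / 2 ≤ r.val), X.pr s r * htAt T r.val k =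
      ∑ x ∈ L.toFinset, prAt P s.val x * htAt T x k := by
    refine Finset.sum_bij (fun r _ => r.val) (fun r hr => ?_) (fun a _ b _ h => Fin.ext h) (fun x hx => ?_)
      fun r _ => rfl
    · rw [Finset.mem_filter, X.mem_revs] at hr
      exact List.mem_toFinset.2 ((hL.2 _).2 ⟨r, rfl, hr.2, hr.1⟩)
    · obtain ⟨r, e, h1, h2⟩ := (hL.2 x).1 (List.mem_toFinset.1 hx)
      exact ⟨r, Finset.mem_filter.2 ⟨X.mem_revs.2 h2, e ▸ h1⟩, e⟩
  congr 1
  rw [← key]
  have hrev : ∀ r, r ∈ X.revs w → ng X.X.S r ∈ X.revs w := fun r hr => by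
    rw [X.mem_revs] at hr ⊢
    rw [Rev, apply_ng X.X.S hw, hr]
  refine Finset.sum_nbij' (ng X.X.S) (ng X.X.S) ?_ ?_ (fun r _ => ng_ng _ r) (fun r _ => ng_ng _ r) ?_
  · intro r hr
    simp only [Finset.coe_filter, Set.mem_ofPred_eq, Finset.mem_filter] at hr ⊢
    exact ⟨hrev r hr.1, (ng_pos _ r).2 (by omega)⟩
  · intro r hr
    simp only [Finset.coe_filter, Set.mem_ofPred_eq, Finset.mem_filter] at hr ⊢
    refine ⟨hrev r hr.1, ?_⟩
    have := ng_pos X.X.S r
    omega
  · intro r _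
    rw [(X.spec r s).1, show (ng X.X.S r).val = D.neg r.val from rfl, (ht_row X.X.hT r.isLt k.isLt).1]
    ring

theorem PData.of_split {w : Equiv.Perm (Fin D.nroots)} (hw : w ∈ X.X.S.WG) (hw2 : w * w = 1) (hno : X.NoOdd w)
    {L : List ℕ} (hL : X.IsPos w L) {s r u : ℕ} (h : okSplit D T P L s r u = true) : X.Trip w := by
  simp only [okSplit, Bool.and_eq_true, Bool.or_eq_true, Bool.not_eq_true', decide_eq_true_eq, blt_true,
    List.contains_iff_mem] at h
  obtain ⟨⟨⟨⟨⟨⟨⟨⟨hs, hu⟩, hr⟩, hk⟩, n1⟩, n2⟩, n3⟩, n4⟩, hN⟩ := h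
  obtain ⟨r', e, -, hrev⟩ := (hL.2 r).1 hr
  subst e
  have hws : w ⟨s, hs⟩ = ⟨u, hu⟩ := by
    refine X.ht_inj fun k => ?_
    have h1 := X.ht_orth _ w rfl hw hw2 hno ⟨s, hs⟩ k
    rw [X.sum_pos hw hL] at h1
    have h2 := of_decide_eq_true (kall_krange hk k.val k.isLt)
    show htAt T (w ⟨s, hs⟩).val k = htAt T u k
    rw [h2]
    have : (⟨s, hs⟩ : Fin D.nroots).val = s := rfl
    rw [this] at h1
    linarith
  have hne : ∀ {x y : ℕ}, Nat.beq x y = false → x ≠ y := fun h => Nat.ne_of_beq_eq_false h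
  have m : (⟨u, hu⟩ : Fin D.nroots) ≠ r' ∧ (⟨u, hu⟩ : Fin D.nroots) ≠ ng X.X.S r' ∧
      (⟨s, hs⟩ : Fin D.nroots) ≠ r' ∧ (⟨s, hs⟩ : Fin D.nroots) ≠ ng X.X.S r' :=
    ⟨fun e => hne n1 (congrArg Fin.val e), fun e => hne n2 (congrArg Fin.val e),
      fun e => hne n3 (congrArg Fin.val e), fun e => hne n4 (congrArg Fin.val e)⟩
  have hwu : w ⟨u, hu⟩ = ⟨s, hs⟩ := by rw [← hws, ← Equiv.Perm.mul_apply, hw2, Equiv.Perm.one_apply]
  rcases hN with hN | hN
  · exact ⟨r', ⟨s, hs⟩, ⟨u, hu⟩, 1, Or.inl rfl, hrev, hws, hwu, hN.1, hN.2, m⟩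
  · exact ⟨r', ⟨s, hs⟩, ⟨u, hu⟩, -1, Or.inr rfl, hrev, hws, hwu, hN.1, hN.2, m⟩

theorem PData.not_prune {w : Equiv.Perm (Fin D.nroots)} (hw : w ∈ X.X.S.WG) (hw2 : w * w = 1) (hno : X.NoOdd w)
    {L S rest : List ℕ} (hL : X.IsPos w L) (hS : ∀ x ∈ L, x ∈ S ∨ x ∈ rest) (hnd : S.Nodup)
    (hSL : ∀ x ∈ S, x ∈ L) {s : ℕ} (h : okPrune D T P S rest s = true) : False := by
  classical
  simp only [okPrune, Bool.and_eq_true, blt_true] at h
  obtain ⟨⟨⟨hs, h1⟩, h2⟩, h3⟩ := h
  simp only [kall_iff, Bool.and_eq_true, Bool.not_eq_true'] at h1 h2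
  let s' : Fin D.nroots := ⟨s, hs⟩
  have hsum : ∀ k : Fin D.rank, comb T P s k L = 2 * htAt T s k := fun k => by
    rw [← of_decide_eq_true (kall_krange h3 k.val k.isLt), comb_eq, comb_eq, ← List.sum_toFinset _ hL.1,
      ← List.sum_toFinset _ hnd]
    refine (Finset.sum_subset (fun x hx => List.mem_toFinset.2 (hSL x (List.mem_toFinset.1 hx))) fun x hx hx' => ?_).symm
    have hxr : x ∈ rest := (hS x (List.mem_toFinset.1 hx)).resolve_left fun h => hx' (List.mem_toFinset.2 h)
    rw [prAt, Nat.eq_of_beq_eq_true (h2 x hxr).2]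
    simp
  have hrev : Rev X.X.S w s' := by
    refine X.ht_inj fun k => ?_
    have h4 := X.ht_orth _ w rfl hw hw2 hno s' k
    rw [X.sum_pos hw hL, hsum k] at h4
    rw [show (ng X.X.S s').val = D.neg s from rfl, (ht_row X.X.hT hs k.isLt).1]
    have : s'.val = s := rfl
    rw [this] at h4
    linarith
  obtain ⟨z, hz, hz1, hzrev⟩ : ∃ z : Fin D.nroots, (z = s' ∨ z = ng X.X.S s') ∧ D.nroots / 2 ≤ z.val ∧
      Rev X.X.S w z := by
    by_cases hp : D.nroots / 2 ≤ s
    · exact ⟨s', Or.inl rfl, hp, hrev⟩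
    · exact ⟨_, Or.inr rfl, (ng_pos _ s').2 (not_le.1 hp), by rw [Rev, apply_ng X.X.S hw, hrev]⟩
  have hzne : Nat.beq z.val s = false ∧ Nat.beq z.val (D.negIdx.getD s 0) = false := by
    rcases hS _ ((hL.2 z.val).2 ⟨z, rfl, hz1, hzrev⟩) with h | h
    · exact h1 _ h
    · exact (h2 _ h).1
  rcases hz with rfl | rfl
  · exact Nat.ne_of_beq_eq_false hzne.1 rfl
  · exact Nat.ne_of_beq_eq_false hzne.2 rfl

theorem PData.walk {w : Equiv.Perm (Fin D.nroots)} (hw : w ∈ X.X.S.WG) (hw2 : w * w = 1) (hno : X.NoOdd w)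
    {L : List ℕ} (hL : X.IsPos w L) : ∀ (t : Tr) (S cands : List ℕ), S.Nodup → (∀ x ∈ S, x ∈ L) →
      (∀ x ∈ L, x ∈ S ∨ (x ∈ cands ∧ x ∉ S)) → chkF D T P t S cands = true →
      (X.IsPos w S → X.Trip w) → X.Trip w := by
  have hexact : ∀ S : List ℕ, S.Nodup → (∀ x ∈ S, x ∈ L) → (∀ x ∈ L, x ∈ S) → X.IsPos w S :=
    fun S h1 h2 h3 => ⟨h1, fun x => ⟨fun hx => (hL.2 x).1 (h2 x hx), fun hx => h3 x ((hL.2 x).2 hx)⟩⟩
  have hdesc : ∀ (S rest : List ℕ) (r : ℕ), r ∈ L →
      (∀ x ∈ L, x ∈ S ∨ (x ∈ r :: rest ∧ x ∉ S)) →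
      ∀ x ∈ L, x ∈ r :: S ∨ (x ∈ orthTo P r rest ∧ x ∉ r :: S) := by
    intro S rest r hr hcov x hx
    by_cases hxr : x = r
    · exact Or.inl (hxr ▸ List.mem_cons_self)
    rcases hcov x hx with h | ⟨h, hn⟩
    · exact Or.inl (List.mem_cons_of_mem _ h)
    refine Or.inr ⟨?_, by simp [hxr, hn]⟩
    obtain ⟨a, ea, ha, hra⟩ := (hL.2 r).1 hr
    obtain ⟨b, eb, hb, hxb⟩ := (hL.2 x).1 hx
    have hne : a ≠ b := fun e => hxr (by rw [← ea, ← eb, e])
    have hne2 : ng X.X.S a ≠ b := fun e => by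
      have := (ng_pos X.X.S a).1 (by rw [e, eb]; exact hb)
      omega
    obtain ⟨o1, o2⟩ := X.orth hno hra hxb hne hne2
    simp only [PData.pr, prAt, ea, eb] at o1 o2
    exact mem_orthTo ((List.mem_cons.1 h).resolve_left hxr) (by omega) (by omega)
  have hskip : ∀ (S rest : List ℕ) (r : ℕ), r ∉ L → (∀ x ∈ L, x ∈ S ∨ (x ∈ r :: rest ∧ x ∉ S)) →
      ∀ x ∈ L, x ∈ S ∨ (x ∈ rest ∧ x ∉ S) := by
    intro S rest r hr hcov x hx
    rcases hcov x hx with h | ⟨h, hn⟩
    · exact Or.inl h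
    · exact Or.inr ⟨(List.mem_cons.1 h).resolve_left fun e => hr (e ▸ hx), hn⟩
  intro t
  induction t with
  | nil =>
    intro S cands hnd hSL hcov h hex
    have hc : cands = [] := List.isEmpty_iff.1 h
    subst hc
    exact hex (hexact S hnd hSL fun x hx => (hcov x hx).resolve_right fun h => by simp at h)
  | prune s next ih =>
    intro S cands hnd hSL hcov h hex
    cases cands with
    | nil => exact absurd h (by simp [chkF])
    | cons r rest =>
      have h' : (okPrune D T P (r :: S) (orthTo P r rest) s && chkF D T P next S rest) = true := h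
      rw [Bool.and_eq_true] at h'
      by_cases hr : r ∈ L
      · by_cases hrS : r ∈ S
        · refine ih S rest hnd hSL (fun x hx => ?_) h'.2 hex
          rcases hcov x hx with h | ⟨h, hn⟩
          · exact Or.inl h
          · exact Or.inr ⟨(List.mem_cons.1 h).resolve_left fun e => hn (e ▸ hrS), hn⟩
        · exfalso
          refine X.not_prune hw hw2 hno hL (S := r :: S) (fun x hx => ?_) (List.nodup_cons.2 ⟨hrS, hnd⟩) ?_ h'.1
          · rcases hdesc S rest r hr hcov x hx with h | h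
            · exact Or.inl h
            · exact Or.inr h.1
          · intro x hx
            rcases List.mem_cons.1 hx with rfl | hx
            · exact hr
            · exact hSL x hx
      · exact ih S rest hnd hSL (hskip S rest r hr hcov) h'.2 hex
  | node s x u kids next ihk ih =>
    intro S cands hnd hSL hcov h hex
    cases cands with
    | nil => exact absurd h (by simp [chkF])
    | cons r rest =>
      have h' : (okSplit D T P (r :: S) s x u && chkF D T P kids (r :: S) (orthTo P r rest) &&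
        chkF D T P next S rest) = true := h
      rw [Bool.and_eq_true, Bool.and_eq_true] at h'
      by_cases hr : r ∈ L
      · by_cases hrS : r ∈ S
        · refine ih S rest hnd hSL (fun y hy => ?_) h'.2 hex
          rcases hcov y hy with h | ⟨h, hn⟩
          · exact Or.inl h
          · exact Or.inr ⟨(List.mem_cons.1 h).resolve_left fun e => hn (e ▸ hrS), hn⟩
        · exact ihk (r :: S) (orthTo P r rest) (List.nodup_cons.2 ⟨hrS, hnd⟩)
            (fun y hy => by
              rcases List.mem_cons.1 hy with rfl | hy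
              · exact hr
              · exact hSL y hy)
            (hdesc S rest r hr hcov) h'.1.2 fun hpos => X.of_split hw hw2 hno hpos h'.1.1
      · exact ih S rest hnd hSL (hskip S rest r hr hcov) h'.2 hex

theorem PData.trip_of_top {w : Equiv.Perm (Fin D.nroots)} (hw : w ∈ X.X.S.WG) (hw2 : w * w = 1) (hno : X.NoOdd w)
    {i : Fin D.rank} (hi : Rev X.X.S w (X.X.S.sp i)) {s x u : ℕ} {t : Tr}
    (h : okTop D T P (C.sr i) s x u t = true) : X.Trip w := by
  classical
  rw [okTop, Bool.and_eq_true] at h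
  let L : List ℕ := (((List.finRange D.nroots).filter fun r =>
    decide (D.nroots / 2 ≤ r.val ∧ Rev X.X.S w r))).map Fin.val
  have hL : X.IsPos w L := by
    refine ⟨((List.nodup_finRange _).filter _).map Fin.val_injective, fun y => ?_⟩
    simp only [L, List.mem_map, List.mem_filter, List.mem_finRange, true_and, decide_eq_true_eq]
    exact ⟨fun ⟨r, h, e⟩ => ⟨r, e, e ▸ h.1, h.2⟩, fun ⟨r, e, h1, h2⟩ => ⟨r, ⟨e ▸ h1, h2⟩, e⟩⟩
  have haL : C.sr i.val ∈ L := (hL.2 _).2 ⟨X.X.S.sp i, rfl, X.X.S.sr_pos i.isLt, hi⟩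
  refine X.walk hw hw2 hno hL t [C.sr i.val] _ (List.nodup_singleton _) (fun y hy => ?_) (fun y hy => ?_) h.2
    fun hp => X.of_split hw hw2 hno hp h.1
  · rw [List.mem_singleton] at hy; exact hy ▸ haL
  · by_cases hyi : y = C.sr i.val
    · exact Or.inl (by simp [hyi])
    refine Or.inr ⟨?_, by simp [hyi]⟩
    obtain ⟨b, eb, hb, hbr⟩ := (hL.2 y).1 hy
    have hne : X.X.S.sp i ≠ b := fun e => hyi (by rw [← eb, ← e]; rfl)
    have hne2 : ng X.X.S (X.X.S.sp i) ≠ b := fun e => by
      have := (ng_pos X.X.S (X.X.S.sp i)).1 (by rw [e, eb]; exact hb)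
      have := X.X.S.sr_pos i.isLt
      have : (X.X.S.sp i).val = C.sr i.val := rfl
      omega
    obtain ⟨o1, o2⟩ := X.orth hno hi hbr hne hne2
    simp only [PData.pr, prAt, eb, show (X.X.S.sp i).val = C.sr i.val from rfl] at o1 o2
    refine mem_orthTo ?_ (by omega) (by omega)
    have := b.isLt
    rw [krange_eq, List.mem_range'_1]
    show D.nroots / 2 ≤ y ∧ y < D.nroots / 2 + (D.nroots - D.nroots / 2)
    omega

end Cfsg.Lib.Chev.InvSemi
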