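import Cfsg.Agent.Chev.InvSemi.Step
import Cfsg.Agent.Chev.InvSemi.Walk
import Cfsg.Agent.Chev.Singer.Cent

/-! In odd characteristic every involution is conjugate into the diagonal subgroup. -/

set_option autoImplicit false
set_option linter.unusedSectionVars false

open Cfsg.Lie

namespace Cfsg.Lib.Chev.InvSemi

variable {D : ChevalleyDatum} {C : Cert} {T : List (List ℤ)} {P : List ℕ} {F : Type*} [Field F]

theorem isSquare_mul' [Fintype F] (hodd : Odd (Fintype.card F)) {a b : F} (ha0 : a ≠ 0) (hb0 : b ≠ 0)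
    (ha : ¬ IsSquare a) (hb : ¬ IsSquare b) : IsSquare (a * b) := by
  classical
  refine (quadraticChar_one_iff_isSquare (mul_ne_zero ha0 hb0)).1 ?_
  rw [map_mul, quadraticChar_neg_one_iff_not_isSquare.2 ha, quadraticChar_neg_one_iff_not_isSquare.2 hb]
  norm_num

/-- Conjugation of a monomial involution by the representative of a word. -/
theorem conj_word (S : Struct D C) {n : GL D.Idx F} (hnm : n ∈ D.monomialSubgroup F) (hn : n * n = 1)
    {w : Equiv.Perm (Fin D.nroots)} (ha : Act S.ok n w) (L : List (Fin D.rank)) :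
    (S.nL F L * n * (S.nL F L)⁻¹) ∈ D.monomialSubgroup F ∧
    (S.nL F L * n * (S.nL F L)⁻¹) * (S.nL F L * n * (S.nL F L)⁻¹) = 1 ∧
    Act S.ok (S.nL F L * n * (S.nL F L)⁻¹) (S.wpL L * w * (S.wpL L)⁻¹) := by
  have hL := S.nL_mem_mono (F := F) L
  refine ⟨mul_mem (mul_mem hL hnm) (inv_mem hL), ?_, ?_⟩
  · rw [show S.nL F L * n * (S.nL F L)⁻¹ * (S.nL F L * n * (S.nL F L)⁻¹) = S.nL F L * (n * n) * (S.nL F L)⁻¹ by group,
      hn, mul_one, mul_inv_cancel]
  · obtain ⟨M, hM, -⟩ := S.exists_act (inv_mem hL)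
    have h1 := S.act_mul (S.act_nL (F := F) L) hM
    rw [mul_inv_cancel] at h1
    have h2 : S.wpL L * S.wpL M = 1 := S.act_unique h1 (S.act_one (F := F))
    rw [inv_eq_of_mul_eq_one_right h2]
    exact S.act_mul (S.act_mul (S.act_nL L) ha) hM

theorem coef_wp (S : Struct D C) (i : Fin D.rank) {n : GL D.Idx F} {r : Fin D.nroots} {c : F}
    (hc : Coef S n r c) :
    Coef S (S.ok.nG (D.simple i) 1 * n * (S.ok.nG (D.simple i) 1)⁻¹) (S.wp i r) c := by
  intro t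
  set η := (C.eta i.val r.val : F) with hη
  have hsq : η * η = 1 := by
    rcases Ok.eta_cases C i.val r.val with e | e <;> rw [hη, e] <;> simp
  have h1 := S.ok.conj_nG_xG (F := F) i.isLt r.isLt (η * t)
  rw [← hη, ← mul_assoc, hsq, one_mul] at h1
  have hneg : C.w i.val (ng S r).val = (ng S (S.wp i r)).val := by
    rw [← apply_ng S (wp_mem S i)]; rfl
  have he : (C.eta i.val (ng S r).val : F) = η := by
    rw [hη, show (ng S r).val = D.neg r.val from rfl, ← S.ok.neg_eq r.isLt, (S.ok.refl_spec i.isLt r.isLt).2.2.2.2.2.2.1]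
  rw [show (S.wp i r).val = C.w i.val r.val from rfl, ← h1]
  rw [show ∀ a b x : GL D.Idx F, a * b * a⁻¹ * (a * x * a⁻¹) * (a * b * a⁻¹)⁻¹ = a * (b * x * b⁻¹) * a⁻¹ from
    fun a b x => by group, hc, S.ok.conj_nG_xG i.isLt (ng S r).isLt, hneg, he]
  congr 1
  linear_combination (c * t) * hsq

theorem coef_word (S : Struct D C) : ∀ (L : List (Fin D.rank)) {n : GL D.Idx F} {r : Fin D.nroots} {c : F},
    Coef S n r c → Coef S (S.nL F L * n * (S.nL F L)⁻¹) (S.wpL L r) c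
  | [], n, r, c, h => by simpa [Struct.nL, Struct.wpL] using h
  | i :: L, n, r, c, h => by
    have h2 := coef_wp S i (coef_word S L h)
    have e1 : S.nL F (i :: L) = S.ok.nG (D.simple i) 1 * S.nL F L := by simp [Struct.nL]
    have e2 : S.wpL (i :: L) r = S.wp i (S.wpL L r) := by simp [Struct.wpL]
    rw [e1, e2, show S.ok.nG (D.simple i) 1 * S.nL F L * n * (S.ok.nG (D.simple i) 1 * S.nL F L)⁻¹ =
      S.ok.nG (D.simple i) 1 * (S.nL F L * n * (S.nL F L)⁻¹) * (S.ok.nG (D.simple i) 1)⁻¹ by group]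
    exact h2

variable (X : PData D C T P)
include X

theorem PData.card_revs_conj {g w : Equiv.Perm (Fin D.nroots)} (hg : g ∈ X.X.S.WG) :
    (X.revs (g * w * g⁻¹)).card = (X.revs w).card := by
  symm
  refine Finset.card_bij (fun r _ => g r) (fun r hr => ?_) (fun a _ b _ h => g.injective h) fun b hb => ?_
  · rw [X.mem_revs] at hr ⊢
    exact (rev_conj X.X.S hg r).2 hr
  · refine ⟨g.symm b, ?_, by simp⟩
    rw [X.mem_revs] at hb ⊢
    rw [← Equiv.apply_symm_apply g b, rev_conj X.X.S hg] at hb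
    exact hb

/-- A certified forest is available at the root. -/
def PData.HasTop {D : ChevalleyDatum} {C : Cert} {T : List (List ℤ)} {P : List ℕ} (_X : PData D C T P) (a : Fin D.rank) : Prop :=
  ∃ (s x u : ℕ) (t : Tr), okTop D T P (C.sr a.val) s x u t = true

variable [Fintype F]

theorem PData.exists_split (hodd : Odd (Fintype.card F))
    (htops : ∀ i : Fin D.rank, ∃ (L : List (Fin D.rank)) (a : Fin D.rank),
      X.X.S.wpL L (X.X.S.sp i) = X.X.S.sp a ∧ X.HasTop a)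
    {n : GL D.Idx F} (hnm : n ∈ D.monomialSubgroup F) (hn : n * n = 1)
    {w : Equiv.Perm (Fin D.nroots)} (hw : w ∈ X.X.S.WG) (ha : Act X.X.S.ok n w) (hw2 : w * w = 1) (hne : w ≠ 1) :
    ∃ g ∈ D.group F, ∃ w', w' ∈ X.X.S.WG ∧ g * n * g⁻¹ ∈ D.monomialSubgroup F ∧
      Act X.X.S.ok (g * n * g⁻¹) w' ∧ (X.revs w').card = (X.revs w).card ∧
      ∃ (r : Fin D.nroots) (d : F), d ≠ 0 ∧ Rev X.X.S w' r ∧ Coef X.X.S (g * n * g⁻¹) r (d * d) := by
  set S := X.X.S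
  have hG : ∀ L : List (Fin D.rank), S.nL F L ∈ D.group F := fun L => S.mono_le_group (S.nL_mem_mono L)
  have done : ∀ {g : GL D.Idx F} {w' : Equiv.Perm (Fin D.nroots)} {r : Fin D.nroots} {c : F}, g ∈ D.group F →
      w' ∈ S.WG → g * n * g⁻¹ ∈ D.monomialSubgroup F → Act S.ok (g * n * g⁻¹) w' →
      (X.revs w').card = (X.revs w).card → Rev S w' r → Coef S (g * n * g⁻¹) r c → c ≠ 0 → IsSquare c →
      ∃ g ∈ D.group F, ∃ w', w' ∈ S.WG ∧ g * n * g⁻¹ ∈ D.monomialSubgroup F ∧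
        Act S.ok (g * n * g⁻¹) w' ∧ (X.revs w').card = (X.revs w).card ∧
        ∃ (r : Fin D.nroots) (d : F), d ≠ 0 ∧ Rev S w' r ∧ Coef S (g * n * g⁻¹) r (d * d) := by
    intro g w' r c h1 h2 h3 h4 h5 h6 h7 h8 hd
    obtain ⟨d, rfl⟩ := hd
    exact ⟨g, h1, w', h2, h3, h4, h5, r, d, fun e => h8 (by rw [e, mul_zero]), h6, h7⟩
  by_cases hodd2 : X.NoOdd w
  · obtain ⟨r0, hr0⟩ := exists_rev S _ w rfl hw hw2 hne
    obtain ⟨g0, hg0, i, e0⟩ := X.X.exists_orbit _ r0.isLt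
    obtain ⟨L, a, hLa, htop⟩ := htops i
    have hg : S.wpL L * g0⁻¹ ∈ S.WG := mul_mem (S.wpL_mem_WG L) (inv_mem hg0)
    obtain ⟨M, hM⟩ := S.exists_wpL hg
    obtain ⟨h1, h2, h3⟩ := conj_word S hnm hn ha M
    rw [← hM] at h3
    set w1 := S.wpL L * g0⁻¹ * w * (S.wpL L * g0⁻¹)⁻¹ with hw1
    have hgr : (S.wpL L * g0⁻¹) r0 = S.sp a := by
      rw [← hLa, Equiv.Perm.mul_apply, ← show g0 (S.sp i) = r0 from Fin.ext e0, Equiv.Perm.inv_def,
        Equiv.symm_apply_apply]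
    have hrev : Rev S w1 (S.sp a) := by rw [← hgr, hw1, rev_conj S hg]; exact hr0
    have hw1m : w1 ∈ S.WG := mul_mem (mul_mem hg hw) (inv_mem hg)
    have hw12 : w1 * w1 = 1 := by
      rw [hw1, show S.wpL L * g0⁻¹ * w * (S.wpL L * g0⁻¹)⁻¹ * (S.wpL L * g0⁻¹ * w * (S.wpL L * g0⁻¹)⁻¹) =
        S.wpL L * g0⁻¹ * (w * w) * (S.wpL L * g0⁻¹)⁻¹ by group, hw2, mul_one, mul_inv_cancel]
    have hno : X.NoOdd w1 := fun r b hr hb => by
      rw [← Equiv.apply_symm_apply (S.wpL L * g0⁻¹) r, hw1, rev_conj S hg] at hr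
      rw [← Equiv.apply_symm_apply (S.wpL L * g0⁻¹) b, hw1, rev_conj S hg] at hb
      rw [← Equiv.apply_symm_apply (S.wpL L * g0⁻¹) r, ← Equiv.apply_symm_apply (S.wpL L * g0⁻¹) b, X.pr_w hg]
      exact hodd2 _ _ hr hb
    obtain ⟨s, x, u, t, ht⟩ := htop
    obtain ⟨r, s', u', N, hN, hr, hws, hwu, c1, c2, n1⟩ := X.trip_of_top hw1m hw12 hno hrev ht
    obtain ⟨c, hc0, hc⟩ := exists_coef S h3 hr
    refine done (hG M) hw1m h1 h3 (X.card_revs_conj hg) hr hc hc0 ?_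
    have hN' : (N : F) ≠ 0 := by rcases hN with rfl | rfl <;> simp
    obtain ⟨d, hd⟩ := auto_split S h2 h3 hN' hws hwu c1 c2 n1 hc
    exact ⟨d, hd⟩
  · simp only [PData.NoOdd, not_forall, not_not] at hodd2
    obtain ⟨r, b, hr, hb, hrb⟩ := hodd2
    obtain ⟨g0, hg0, i, e0⟩ := X.X.exists_orbit _ r.isLt
    have hg : g0⁻¹ ∈ S.WG := inv_mem hg0
    obtain ⟨M, hM⟩ := S.exists_wpL hg
    obtain ⟨h1, h2, h3⟩ := conj_word S hnm hn ha M
    rw [← hM] at h3
    set w1 := g0⁻¹ * w * g0⁻¹⁻¹ with hw1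
    have hgr : g0⁻¹ r = S.sp i := by
      rw [← show g0 (S.sp i) = r from Fin.ext e0, Equiv.Perm.inv_def, Equiv.symm_apply_apply]
    have hrev : Rev S w1 (S.sp i) := by rw [← hgr, hw1, rev_conj S hg]; exact hr
    have hrevb : Rev S w1 (g0⁻¹ b) := by rw [hw1, rev_conj S hg]; exact hb
    have hw1m : w1 ∈ S.WG := mul_mem (mul_mem hg hw) (inv_mem hg)
    obtain ⟨c, hc0, hc⟩ := exists_coef S h3 hrev
    by_cases hcs : IsSquare c
    · exact done (hG M) hw1m h1 h3 (X.card_revs_conj hg) hrev hc hc0 hcs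
    obtain ⟨e, he0, he⟩ := exists_coef S h3 hrevb
    by_cases hes : IsSquare e
    · exact done (hG M) hw1m h1 h3 (X.card_revs_conj hg) hrevb he he0 hes
    obtain ⟨g, hgG, g1, g2, g3⟩ := twist_step S i hodd h1 h2 h3 hc0 hc (Units.mk0 e he0)
    have hcar : Odd (D.cartan i (ng S (g0⁻¹ b)).val) := by
      rw [← (X.simple_spec i _).1, (X.spec (S.sp i) (g0⁻¹ b)).2.1, Int.odd_iff, Int.neg_emod_two, ← Int.odd_iff,
        ← hgr, X.pr_w hg]
      exact hrb
    have eq1 : g * (S.nL F M * n * (S.nL F M)⁻¹) * g⁻¹ = (g * S.nL F M) * n * (g * S.nL F M)⁻¹ := by group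
    have h4 := g3 _ _ he
    rw [eq1] at g1 g2 h4
    refine done (mul_mem hgG (hG M)) hw1m g1 g2 (X.card_revs_conj hg) hrevb h4 ?_ ?_
    · exact mul_ne_zero (Units.ne_zero _) he0
    · obtain ⟨k, hk⟩ := hcar
      rw [hk, Units.val_zpow_eq_zpow_val, Units.val_mk0, zpow_add₀ he0, zpow_one, mul_assoc]
      refine IsSquare.mul ⟨e ^ k, ?_⟩ ⟨e, rfl⟩
      rw [← zpow_add₀ he0, two_mul]

theorem PData.to_diag (hodd : Odd (Fintype.card F))
    (htops : ∀ i : Fin D.rank, ∃ (L : List (Fin D.rank)) (a : Fin D.rank),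
      X.X.S.wpL L (X.X.S.sp i) = X.X.S.sp a ∧ X.HasTop a)
    {u : GL D.Idx F} (hu : u ∈ D.group F) (hu2 : u * u = 1) :
    ∃ g ∈ D.group F, g * u * g⁻¹ ∈ D.diagonalSubgroup F := by
  set S := X.X.S
  haveI : NeZero (2 : F) := ⟨Ring.two_ne_zero fun h =>
    absurd ((Nat.odd_iff.1 hodd).symm.trans (FiniteField.even_card_of_char_two h)) (by norm_num)⟩
  obtain ⟨g0, hg0, hm⟩ := exists_mono S X.X.hN hodd hu hu2
  have hn : g0 * u * g0⁻¹ * (g0 * u * g0⁻¹) = 1 := by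
    rw [show g0 * u * g0⁻¹ * (g0 * u * g0⁻¹) = g0 * (u * u) * g0⁻¹ by group, hu2, mul_one, mul_inv_cancel]
  suffices key : ∀ (m : ℕ) (n : GL D.Idx F) (w : Equiv.Perm (Fin D.nroots)), (X.revs w).card = m →
      n ∈ D.monomialSubgroup F → n * n = 1 → w ∈ S.WG → Act S.ok n w →
      ∃ g ∈ D.group F, g * n * g⁻¹ ∈ D.diagonalSubgroup F by
    obtain ⟨L, hL, -⟩ := S.exists_act hm
    obtain ⟨g, hg, h⟩ := key _ _ _ rfl hm hn (S.wpL_mem_WG L) hL
    refine ⟨g * g0, mul_mem hg hg0, ?_⟩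
    rwa [show g * g0 * u * (g * g0)⁻¹ = g * (g0 * u * g0⁻¹) * g⁻¹ by group]
  intro m
  induction m using Nat.strong_induction_on with
  | _ m ih =>
    intro n w hcard hnm hn hw ha
    have hw2 : w * w = 1 := by
      have h1 := S.act_mul ha ha
      rw [hn] at h1
      exact S.act_unique h1 (S.act_one (F := F))
    by_cases hne : w = 1
    · subst hne
      obtain ⟨L, hL, hiff⟩ := S.exists_act hnm
      exact ⟨1, one_mem _, by simpa using hiff.1 (S.act_unique hL ha)⟩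
    obtain ⟨g, hg, w', hw', h1, h2, h3, r, d, hd, hr, hc⟩ := X.exists_split hodd htops hnm hn hw ha hw2 hne
    have hn' : g * n * g⁻¹ * (g * n * g⁻¹) = 1 := by
      rw [show g * n * g⁻¹ * (g * n * g⁻¹) = g * (n * n) * g⁻¹ by group, hn, mul_one, mul_inv_cancel]
    obtain ⟨g1, hg1, i, e1⟩ := X.X.exists_orbit _ r.isLt
    obtain ⟨M, hM⟩ := S.exists_wpL (inv_mem hg1)
    obtain ⟨k1, k2, k3⟩ := conj_word S h1 hn' h2 M
    have hc' := coef_word S M hc
    have hgr : S.wpL M r = S.sp i := by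
      rw [← hM, ← show g1 (S.sp i) = r from Fin.ext e1, Equiv.Perm.inv_def, Equiv.symm_apply_apply]
    rw [hgr] at hc'
    obtain ⟨g2, hg2, j1, j2⟩ := split_step S i k1 k2 k3 hd hc'
    set w'' := S.wpL M * w' * (S.wpL M)⁻¹ with hw''
    have hw''m : w'' ∈ S.WG := mul_mem (mul_mem (S.wpL_mem_WG M) hw') (inv_mem (S.wpL_mem_WG M))
    have hrev : Rev S w'' (S.sp i) := by
      rw [← hgr, hw'', rev_conj S (S.wpL_mem_WG M)]; exact hr
    have hw''2 : w'' * w'' = 1 := by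
      have h := S.act_mul k3 k3
      rw [k2] at h
      exact S.act_unique h (S.act_one (F := F))
    obtain ⟨-, hsub⟩ := X.rev_shrink hw''m hw''2 hrev
    have hlt : (X.revs (S.wp i * w'')).card < m := by
      rw [← hcard, ← h3, ← X.card_revs_conj (w := w') (S.wpL_mem_WG M), ← hw'']
      refine Finset.card_lt_card (Finset.ssubset_iff_of_subset (fun z hz => ?_) |>.2 ⟨S.sp i, X.mem_revs.2 hrev, fun h => ?_⟩)
      · exact X.mem_revs.2 (hsub z (X.mem_revs.1 hz)).1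
      · exact (hsub _ (X.mem_revs.1 h)).2.1 rfl
    have hn3 : g2 * (S.nL F M * (g * n * g⁻¹) * (S.nL F M)⁻¹) * g2⁻¹ *
        (g2 * (S.nL F M * (g * n * g⁻¹) * (S.nL F M)⁻¹) * g2⁻¹) = 1 := by
      rw [show ∀ a b : GL D.Idx F, a * b * a⁻¹ * (a * b * a⁻¹) = a * (b * b) * a⁻¹ from fun a b => by group,
        k2, mul_one, mul_inv_cancel]
    obtain ⟨g3, hg3, h⟩ := ih _ hlt _ _ rfl j1 hn3 (mul_mem (wp_mem S i) hw''m) j2
    refine ⟨g3 * g2 * S.nL F M * g, mul_mem (mul_mem (mul_mem hg3 hg2) (S.mono_le_group (S.nL_mem_mono M))) hg, ?_⟩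
    rwa [show g3 * g2 * S.nL F M * g * n * (g3 * g2 * S.nL F M * g)⁻¹ =
      g3 * (g2 * (S.nL F M * (g * n * g⁻¹) * (S.nL F M)⁻¹) * g2⁻¹) * g3⁻¹ by group]

end Cfsg.Lib.Chev.InvSemi
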