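import Cfsg.Agent.Chev.InvSemi.Assemble
import Cfsg.Agent.Chev.InvSemi.E8Cls
import Cfsg.Agent.Chev.Springer.Data

/-! Kernel checks of the class certificates of E8. -/

set_option autoImplicit false

open Cfsg.Lie

namespace Cfsg.Lib.Chev.InvSemi.E8

theorem cls : okCls Cfsg.Lib.Chev.E8.cert chevE8.rank 1 3 words = true := by decide +kernel

theorem cert120 : ClassCert chevE8 Cfsg.Lib.Chev.E8.cert 1 wdata120 levs120 orb120 [2, 6, 8, 10, 12, 14, 18, 2] 64 :=
  ⟨by decide +kernel, by decide +kernel, by decide +kernel, by decide +kernel, by decide +kernel, by decide +kernel,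
    by decide +kernel, by decide +kernel⟩

theorem cert135 : ClassCert chevE8 Cfsg.Lib.Chev.E8.cert 3 wdata135 levs135 orb135 [2, 4, 6, 8, 10, 12, 14, 8] 56 :=
  ⟨by decide +kernel, by decide +kernel, by decide +kernel, by decide +kernel, by decide +kernel, by decide +kernel,
    by decide +kernel, by decide +kernel⟩

theorem size120 : levSize levs120 * orb120.length = [2, 8, 12, 14, 18, 20, 24, 30].prod := by
  decide +kernel

theorem size135 : levSize levs135 * orb135.length = [2, 8, 12, 14, 18, 20, 24, 30].prod := by
  decide +kernel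

end Cfsg.Lib.Chev.InvSemi.E8
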