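import Cfsg.Agent.Chev.InvSemi.E8Pr
import Cfsg.Agent.Chev.Springer.Data

/-! Invariance of the pairing of E₈. -/

set_option autoImplicit false

open Cfsg.Lie

namespace Cfsg.Lib.Chev.InvSemi.E8

theorem prW0 : okPrW chevE8 Cfsg.Lib.Chev.E8.cert prTab 0 = true := by decide +kernel
theorem prW1 : okPrW chevE8 Cfsg.Lib.Chev.E8.cert prTab 1 = true := by decide +kernel
theorem prW2 : okPrW chevE8 Cfsg.Lib.Chev.E8.cert prTab 2 = true := by decide +kernel
theorem prW3 : okPrW chevE8 Cfsg.Lib.Chev.E8.cert prTab 3 = true := by decide +kernel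
theorem prW4 : okPrW chevE8 Cfsg.Lib.Chev.E8.cert prTab 4 = true := by decide +kernel
theorem prW5 : okPrW chevE8 Cfsg.Lib.Chev.E8.cert prTab 5 = true := by decide +kernel
theorem prW6 : okPrW chevE8 Cfsg.Lib.Chev.E8.cert prTab 6 = true := by decide +kernel
theorem prW7 : okPrW chevE8 Cfsg.Lib.Chev.E8.cert prTab 7 = true := by decide +kernel

end Cfsg.Lib.Chev.InvSemi.E8
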