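import Cfsg.Agent.Chev.InvSemi.Walk

/-! Witness forests for E8. -/

set_option autoImplicit false

namespace Cfsg.Lib.Chev.InvSemi.E8

/-- Children of candidate 0. -/
def kids0 : Tr :=
  (.node 3 123 2 (.node 5 130 4 (.prune 64 (.prune 62 (.prune 57 (.prune 41 .nil)))) (.node 7 141 5 (.prune 68 (.prune 66 (.prune 57 (.prune 31 .nil)))) (.node 7 142 4 (.prune 64 (.prune 62 (.prune 57 (.prune 31 .nil)))) (.node 30 188 5 (.prune 47 (.prune 57 (.prune 12 .nil))) (.node 35 193 5 (.prune 57 (.prune 10 .nil)) (.node 30 194 4 (.prune 41 (.prune 57 (.prune 12 .nil))) (.node 35 199 4 (.prune 57 (.prune 10 .nil)) (.node 40 204 4 (.prune 31 (.prune 57 (.prune 12 .nil))) (.node 45 209 4 (.prune 57 (.prune 10 .nil)) (.prune 57 (.node 97 232 4 .nil (.node 109 234 4 .nil (.node 130 235 5 .nil .nil))))))))))))) (.node 4 126 3 (.node 5 132 2 (.prune 61 (.prune 57 (.prune 59 (.prune 38 .nil)))) (.node 7 141 5 (.prune 69 (.prune 66 (.prune 59 (.prune 28 .nil))))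 (.node 7 144 2 (.prune 61 (.prune 57 (.prune 59 (.prune 28 .nil)))) (.node 26 184 5 (.prune 49 (.prune 59 (.prune 12 .nil))) (.node 35 193 5 (.prune 59 (.prune 9 .nil)) (.node 26 194 2 (.prune 38 (.prune 59 (.prune 12 .nil))) (.node 35 203 2 (.prune 59 (.prune 9 .nil)) (.node 36 204 2 (.prune 28 (.prune 59 (.prune 12 .nil))) (.node 45 213 2 (.prune 59 (.prune 9 .nil)) (.prune 59 (.node 95 232 2 .nil (.node 107 234 2 .nil (.node 132 237 5 .nil .nil))))))))))))) (.node 4 127 2 (.node 5 131 3 (.prune 61 (.prune 59 (.prune 57 (.prune 38 .nil)))) (.node 7 141 5 (.prune 68 (.prune 66 (.prune 57 (.prune 28 .nil)))) (.node 7 143 3 (.prune 61 (.prune 59 (.prune 57 (.prune 28 .nil)))) (.node 27 185 5 (.prune 47 (.prune 57 (.prune 12 .nil))) (.node 35 193 5 (.prune 57 (.prune 9 .nil)) (.node 27 194 3 (.prune 38 (.prune 57 (.prune 12 .nil))) (.node 35 202 3 (.prune 57 (.prune 9 .nil)) (.node 37 204 3 (.prune 28 (.prune 57 (.prune 12 .nil))) (.node 45 212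 3 (.prune 57 (.prune 9 .nil)) (.prune 57 (.node 96 232 3 .nil (.node 108 234 3 .nil (.node 131 236 5 .nil .nil))))))))))))) (.node 5 130 4 (.node 7 143 3 (.prune 65 (.prune 59 (.prune 62 (.prune 24 .nil)))) (.node 7 144 2 (.prune 64 (.prune 57 (.prune 62 (.prune 24 .nil)))) (.node 21 184 3 (.prune 43 (.prune 62 (.prune 12 .nil))) (.node 21 185 2 (.prune 41 (.prune 62 (.prune 12 .nil))) (.node 35 202 3 (.prune 62 (.prune 8 .nil)) (.node 35 203 2 (.prune 62 (.prune 8 .nil)) (.node 36 204 2 (.prune 62 (.prune 24 (.prune 12 .nil))) (.prune 62 (.node 54 218 2 (.prune 8 .nil) (.node 95 232 2 .nil (.node 116 236 2 .nil (.node 123 237 3 .nil .nil)))))))))))) (.node 5 131 3 (.node 7 142 4 (.prune 65 (.prune 62 (.prune 59 (.prune 24 .nil)))) (.node 7 144 2 (.prune 61 (.prune 57 (.prune 59 (.prune 24 .nil)))) (.node 22 184 4 (.prune 43 (.prune 59 (.prune 12 .nil))) (.node 22 188 2 (.prune 38 (.prune 59 (.prune 12 .nil))) (.node 35 199 4 (.prune 59 (.prune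 8 .nil)) (.node 35 203 2 (.prune 59 (.prune 8 .nil)) (.node 36 204 2 (.prune 59 (.prune 24 (.prune 12 .nil))) (.prune 59 (.node 51 217 2 (.prune 8 .nil) (.node 95 232 2 .nil (.node 112 235 2 .nil (.node 127 237 4 .nil .nil)))))))))))) (.node 5 132 2 (.node 7 142 4 (.prune 64 (.prune 62 (.prune 57 (.prune 24 .nil)))) (.node 7 143 3 (.prune 61 (.prune 59 (.prune 57 (.prune 24 .nil)))) (.node 23 185 4 (.prune 41 (.prune 57 (.prune 12 .nil))) (.node 23 188 3 (.prune 38 (.prune 57 (.prune 12 .nil))) (.node 35 199 4 (.prune 57 (.prune 8 .nil)) (.node 35 202 3 (.prune 57 (.prune 8 .nil)) (.node 37 204 3 (.prune 57 (.prune 24 (.prune 12 .nil))) (.prune 57 (.node 51 216 3 (.prune 8 .nil) (.node 96 232 3 .nil (.node 113 235 3 .nil (.node 126 236 4 .nil .nil)))))))))))) (.node 7 141 5 (.node 21 184 3 (.prune 66 (.prune 33 (.prune 12 .nil))) (.node 21 185 2 (.prune 66 (.prune 31 (.prune 12 .nil))) (.node 22 188 2 (.prune 66 (.prune 28 (.prune 12 .nil)))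 (.prune 66 (.node 51 216 3 (.prune 6 .nil) (.node 51 217 2 (.prune 6 .nil) (.node 54 218 2 (.prune 6 .nil) (.node 112 235 2 .nil (.node 116 236 2 .nil (.node 123 237 3 .nil .nil)))))))))) (.node 7 142 4 (.node 21 184 3 (.prune 62 (.prune 33 (.prune 12 .nil))) (.node 21 185 2 (.prune 62 (.prune 31 (.prune 12 .nil))) (.node 26 194 2 (.prune 62 (.prune 24 (.prune 12 .nil))) (.prune 62 (.node 45 212 3 (.prune 6 .nil) (.node 45 213 2 (.prune 6 .nil) (.node 54 218 2 (.prune 6 .nil) (.node 107 234 2 .nil (.node 116 236 2 .nil (.node 123 237 3 .nil .nil)))))))))) (.node 7 143 3 (.node 22 184 4 (.prune 59 (.prune 33 (.prune 12 .nil))) (.node 22 188 2 (.prune 59 (.prune 28 (.prune 12 .nil))) (.node 26 194 2 (.prune 59 (.prune 24 (.prune 12 .nil))) (.prune 59 (.node 45 209 4 (.prune 6 .nil) (.node 45 213 2 (.prune 6 .nil) (.node 51 217 2 (.prune 6 .nil) (.node 107 234 2 .nil (.node 112 235 2 .nil (.node 127 237 4 .nil .nil)))))))))) (.node 7 144 2 (.node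 23 185 4 (.prune 57 (.prune 31 (.prune 12 .nil))) (.node 23 188 3 (.prune 57 (.prune 28 (.prune 12 .nil))) (.node 27 194 3 (.prune 57 (.prune 24 (.prune 12 .nil))) (.prune 57 (.node 45 209 4 (.prune 6 .nil) (.node 45 212 3 (.prune 6 .nil) (.node 51 216 3 (.prune 6 .nil) (.node 108 234 3 .nil (.node 113 235 3 .nil (.node 126 236 4 .nil .nil)))))))))) (.node 21 184 3 (.node 96 193 27 (.prune 11 (.prune 12 .nil)) (.node 96 199 23 (.prune 11 (.prune 12 .nil)) (.node 97 202 23 (.prune 11 (.prune 12 .nil)) (.node 108 209 23 (.prune 12 .nil) (.node 109 212 23 (.prune 12 .nil) (.node 130 216 27 (.prune 12 .nil) (.prune 12 .nil))))))) (.node 21 185 2 (.node 95 193 26 (.prune 10 (.prune 12 .nil)) (.node 95 199 22 (.prune 10 (.prune 12 .nil)) (.node 97 203 22 (.prune 10 (.prune 12 .nil)) (.node 107 209 22 (.prune 12 .nil) (.node 109 213 22 (.prune 12 .nil) (.node 130 217 26 (.prune 12 .nil) (.prune 12 .nil))))))) (.node 22 188 2 (.node 95 193 26 (.prune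 9 (.prune 12 .nil)) (.node 95 202 21 (.prune 9 (.prune 12 .nil)) (.node 96 203 21 (.prune 9 (.prune 12 .nil)) (.node 107 212 21 (.prune 12 .nil) (.node 108 213 21 (.prune 12 .nil) (.node 131 218 26 (.prune 12 .nil) (.prune 12 .nil))))))) (.node 35 193 5 (.node 51 216 3 (.prune 0 .nil) (.node 51 217 2 (.prune 0 .nil) (.node 54 218 2 (.prune 0 .nil) (.node 112 235 2 .nil (.node 116 236 2 .nil (.node 123 237 3 .nil .nil)))))) (.node 26 194 2 (.node 95 199 22 (.prune 8 (.prune 12 .nil)) (.node 95 202 21 (.prune 8 (.prune 12 .nil)) (.node 96 203 21 (.prune 8 (.prune 12 .nil)) (.node 112 216 21 (.prune 12 .nil) (.node 113 217 21 (.prune 12 .nil) (.node 126 218 22 (.prune 12 .nil) (.prune 12 .nil))))))) (.node 35 199 4 (.node 45 212 3 (.prune 0 .nil) (.node 45 213 2 (.prune 0 .nil) (.node 54 218 2 (.prune 0 .nil) (.node 107 234 2 .nil (.node 116 236 2 .nil (.node 123 237 3 .nil .nil)))))) (.node 35 202 3 (.node 45 209 4 (.prune 0 .nil) (.node 45 213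 2 (.prune 0 .nil) (.node 51 217 2 (.prune 0 .nil) (.node 107 234 2 .nil (.node 112 235 2 .nil (.node 127 237 4 .nil .nil)))))) (.node 35 203 2 (.node 45 209 4 (.prune 0 .nil) (.node 45 212 3 (.prune 0 .nil) (.node 51 216 3 (.prune 0 .nil) (.node 108 234 3 .nil (.node 113 235 3 .nil (.node 126 236 4 .nil .nil)))))) (.node 36 204 2 (.node 107 209 22 (.prune 6 (.prune 12 .nil)) (.node 107 212 21 (.prune 6 (.prune 12 .nil)) (.node 108 213 21 (.prune 6 (.prune 12 .nil)) (.node 112 216 21 (.prune 12 .nil) (.node 113 217 21 (.prune 12 .nil) (.node 126 218 22 (.prune 12 .nil) (.prune 12 .nil))))))) (.node 45 209 4 (.node 54 218 2 (.prune 0 .nil) (.node 95 232 2 .nil (.node 116 236 2 .nil (.node 123 237 3 .nil .nil)))) (.node 45 212 3 (.node 51 217 2 (.prune 0 .nil) (.node 95 232 2 .nil (.node 112 235 2 .nil (.node 127 237 4 .nil .nil)))) (.node 45 213 2 (.node 51 216 3 (.prune 0 .nil) (.node 96 232 3 .nil (.node 113 235 3 .nil (.node 126 236 4 .nil .nil))))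 (.node 51 216 3 (.node 95 232 2 .nil (.node 107 234 2 .nil (.node 132 237 5 .nil .nil))) (.node 51 217 2 (.node 96 232 3 .nil (.node 108 234 3 .nil (.node 131 236 5 .nil .nil))) (.node 54 218 2 (.node 97 232 4 .nil (.node 109 234 4 .nil (.node 130 235 5 .nil .nil))) (.node 95 232 2 .nil (.node 107 234 2 .nil (.node 112 235 2 .nil (.node 116 236 2 .nil (.node 123 237 3 .nil .nil))))))))))))))))))))))))))))))

/-- Children of candidate 1. -/
def kids1 : Tr :=
  (.node 3 125 0 (.node 5 130 4 (.prune 62 (.prune 63 (.prune 56 (.prune 40 .nil)))) (.node 7 141 5 (.prune 66 (.prune 67 (.prune 56 (.prune 30 .nil)))) (.node 7 142 4 (.prune 62 (.prune 63 (.prune 56 (.prune 30 .nil)))) (.node 32 190 5 (.prune 46 (.prune 56 (.prune 11 .nil))) (.node 33 191 5 (.prune 56 (.prune 10 .nil)) (.node 32 196 4 (.prune 40 (.prune 56 (.prune 11 .nil))) (.node 33 197 4 (.prune 56 (.prune 10 .nil)) (.node 42 206 4 (.prune 30 (.prune 56 (.prune 11 .nil))) (.node 43 207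 4 (.prune 56 (.prune 10 .nil)) (.prune 56 (.node 97 232 4 .nil (.node 109 234 4 .nil (.node 130 235 5 .nil .nil))))))))))))) (.node 4 126 3 (.node 5 134 0 (.prune 59 (.prune 56 (.prune 60 (.prune 37 .nil)))) (.node 7 141 5 (.prune 69 (.prune 67 (.prune 60 (.prune 27 .nil)))) (.node 7 146 0 (.prune 59 (.prune 56 (.prune 60 (.prune 27 .nil)))) (.node 26 184 5 (.prune 50 (.prune 60 (.prune 11 .nil))) (.node 33 191 5 (.prune 60 (.prune 9 .nil)) (.node 26 196 0 (.prune 37 (.prune 60 (.prune 11 .nil))) (.node 33 203 0 (.prune 60 (.prune 9 .nil)) (.node 36 206 0 (.prune 27 (.prune 60 (.prune 11 .nil))) (.node 43 213 0 (.prune 60 (.prune 9 .nil)) (.prune 60 (.node 93 232 0 .nil (.node 105 234 0 .nil (.node 134 239 5 .nil .nil))))))))))))) (.node 4 129 0 (.node 5 131 3 (.prune 59 (.prune 60 (.prune 56 (.prune 37 .nil)))) (.node 7 141 5 (.prune 66 (.prune 67 (.prune 56 (.prune 27 .nil)))) (.node 7 143 3 (.prune 59 (.prune 60 (.prune 56 (.prune 27 .nil))))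 (.node 29 187 5 (.prune 46 (.prune 56 (.prune 11 .nil))) (.node 33 191 5 (.prune 56 (.prune 9 .nil)) (.node 29 196 3 (.prune 37 (.prune 56 (.prune 11 .nil))) (.node 33 200 3 (.prune 56 (.prune 9 .nil)) (.node 39 206 3 (.prune 27 (.prune 56 (.prune 11 .nil))) (.node 43 210 3 (.prune 56 (.prune 9 .nil)) (.prune 56 (.node 96 232 3 .nil (.node 108 234 3 .nil (.node 131 236 5 .nil .nil))))))))))))) (.node 5 130 4 (.node 7 143 3 (.prune 65 (.prune 60 (.prune 63 (.prune 23 .nil)))) (.node 7 146 0 (.prune 62 (.prune 56 (.prune 63 (.prune 23 .nil)))) (.node 21 184 3 (.prune 44 (.prune 63 (.prune 11 .nil))) (.node 21 187 0 (.prune 40 (.prune 63 (.prune 11 .nil))) (.node 33 200 3 (.prune 63 (.prune 8 .nil)) (.node 33 203 0 (.prune 63 (.prune 8 .nil)) (.node 36 206 0 (.prune 63 (.prune 23 (.prune 11 .nil))) (.prune 63 (.node 52 218 0 (.prune 8 .nil) (.node 93 232 0 .nil (.node 114 236 0 .nil (.node 125 239 3 .nil .nil)))))))))))) (.node 5 131 3 (.node 7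 142 4 (.prune 65 (.prune 63 (.prune 60 (.prune 23 .nil)))) (.node 7 146 0 (.prune 59 (.prune 56 (.prune 60 (.prune 23 .nil)))) (.node 22 184 4 (.prune 44 (.prune 60 (.prune 11 .nil))) (.node 22 190 0 (.prune 37 (.prune 60 (.prune 11 .nil))) (.node 33 197 4 (.prune 60 (.prune 8 .nil)) (.node 33 203 0 (.prune 60 (.prune 8 .nil)) (.node 36 206 0 (.prune 60 (.prune 23 (.prune 11 .nil))) (.prune 60 (.node 49 217 0 (.prune 8 .nil) (.node 93 232 0 .nil (.node 110 235 0 .nil (.node 129 239 4 .nil .nil)))))))))))) (.node 5 134 0 (.node 7 142 4 (.prune 62 (.prune 63 (.prune 56 (.prune 23 .nil)))) (.node 7 143 3 (.prune 59 (.prune 60 (.prune 56 (.prune 23 .nil)))) (.node 25 187 4 (.prune 40 (.prune 56 (.prune 11 .nil))) (.node 25 190 3 (.prune 37 (.prune 56 (.prune 11 .nil))) (.node 33 197 4 (.prune 56 (.prune 8 .nil)) (.node 33 200 3 (.prune 56 (.prune 8 .nil)) (.node 39 206 3 (.prune 56 (.prune 23 (.prune 11 .nil))) (.prune 56 (.node 49 214 3 (.prune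 8 .nil) (.node 96 232 3 .nil (.node 113 235 3 .nil (.node 126 236 4 .nil .nil)))))))))))) (.node 7 141 5 (.node 21 184 3 (.prune 67 (.prune 34 (.prune 11 .nil))) (.node 21 187 0 (.prune 67 (.prune 30 (.prune 11 .nil))) (.node 22 190 0 (.prune 67 (.prune 27 (.prune 11 .nil))) (.prune 67 (.node 49 214 3 (.prune 6 .nil) (.node 49 217 0 (.prune 6 .nil) (.node 52 218 0 (.prune 6 .nil) (.node 110 235 0 .nil (.node 114 236 0 .nil (.node 125 239 3 .nil .nil)))))))))) (.node 7 142 4 (.node 21 184 3 (.prune 63 (.prune 34 (.prune 11 .nil))) (.node 21 187 0 (.prune 63 (.prune 30 (.prune 11 .nil))) (.node 26 196 0 (.prune 63 (.prune 23 (.prune 11 .nil))) (.prune 63 (.node 43 210 3 (.prune 6 .nil) (.node 43 213 0 (.prune 6 .nil) (.node 52 218 0 (.prune 6 .nil) (.node 105 234 0 .nil (.node 114 236 0 .nil (.node 125 239 3 .nil .nil)))))))))) (.node 7 143 3 (.node 22 184 4 (.prune 60 (.prune 34 (.prune 11 .nil))) (.node 22 190 0 (.prune 60 (.prune 27 (.prune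 11 .nil))) (.node 26 196 0 (.prune 60 (.prune 23 (.prune 11 .nil))) (.prune 60 (.node 43 207 4 (.prune 6 .nil) (.node 43 213 0 (.prune 6 .nil) (.node 49 217 0 (.prune 6 .nil) (.node 105 234 0 .nil (.node 110 235 0 .nil (.node 129 239 4 .nil .nil)))))))))) (.node 7 146 0 (.node 25 187 4 (.prune 56 (.prune 30 (.prune 11 .nil))) (.node 25 190 3 (.prune 56 (.prune 27 (.prune 11 .nil))) (.node 29 196 3 (.prune 56 (.prune 23 (.prune 11 .nil))) (.prune 56 (.node 43 207 4 (.prune 6 .nil) (.node 43 210 3 (.prune 6 .nil) (.node 49 214 3 (.prune 6 .nil) (.node 108 234 3 .nil (.node 113 235 3 .nil (.node 126 236 4 .nil .nil)))))))))) (.node 21 184 3 (.node 96 191 29 (.prune 13 (.prune 11 .nil)) (.node 96 197 25 (.prune 13 (.prune 11 .nil)) (.node 97 200 25 (.prune 13 (.prune 11 .nil)) (.node 108 207 25 (.prune 11 .nil) (.node 109 210 25 (.prune 11 .nil) (.node 130 214 29 (.prune 11 .nil) (.prune 11 .nil))))))) (.node 21 187 0 (.node 93 191 26 (.prune 10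 (.prune 11 .nil)) (.node 93 197 22 (.prune 10 (.prune 11 .nil)) (.node 97 203 22 (.prune 10 (.prune 11 .nil)) (.node 105 207 22 (.prune 11 .nil) (.node 109 213 22 (.prune 11 .nil) (.node 130 217 26 (.prune 11 .nil) (.prune 11 .nil))))))) (.node 22 190 0 (.node 93 191 26 (.prune 9 (.prune 11 .nil)) (.node 93 200 21 (.prune 9 (.prune 11 .nil)) (.node 96 203 21 (.prune 9 (.prune 11 .nil)) (.node 105 210 21 (.prune 11 .nil) (.node 108 213 21 (.prune 11 .nil) (.node 131 218 26 (.prune 11 .nil) (.prune 11 .nil))))))) (.node 33 191 5 (.node 49 214 3 (.prune 1 .nil) (.node 49 217 0 (.prune 1 .nil) (.node 52 218 0 (.prune 1 .nil) (.node 110 235 0 .nil (.node 114 236 0 .nil (.node 125 239 3 .nil .nil)))))) (.node 26 196 0 (.node 93 197 22 (.prune 8 (.prune 11 .nil)) (.node 93 200 21 (.prune 8 (.prune 11 .nil)) (.node 96 203 21 (.prune 8 (.prune 11 .nil)) (.node 110 214 21 (.prune 11 .nil) (.node 113 217 21 (.prune 11 .nil) (.node 126 218 22 (.prune 11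 .nil) (.prune 11 .nil))))))) (.node 33 197 4 (.node 43 210 3 (.prune 1 .nil) (.node 43 213 0 (.prune 1 .nil) (.node 52 218 0 (.prune 1 .nil) (.node 105 234 0 .nil (.node 114 236 0 .nil (.node 125 239 3 .nil .nil)))))) (.node 33 200 3 (.node 43 207 4 (.prune 1 .nil) (.node 43 213 0 (.prune 1 .nil) (.node 49 217 0 (.prune 1 .nil) (.node 105 234 0 .nil (.node 110 235 0 .nil (.node 129 239 4 .nil .nil)))))) (.node 33 203 0 (.node 43 207 4 (.prune 1 .nil) (.node 43 210 3 (.prune 1 .nil) (.node 49 214 3 (.prune 1 .nil) (.node 108 234 3 .nil (.node 113 235 3 .nil (.node 126 236 4 .nil .nil)))))) (.node 36 206 0 (.node 105 207 22 (.prune 6 (.prune 11 .nil)) (.node 105 210 21 (.prune 6 (.prune 11 .nil)) (.node 108 213 21 (.prune 6 (.prune 11 .nil)) (.node 110 214 21 (.prune 11 .nil) (.node 113 217 21 (.prune 11 .nil) (.node 126 218 22 (.prune 11 .nil) (.prune 11 .nil))))))) (.node 43 207 4 (.node 52 218 0 (.prune 1 .nil) (.node 93 232 0 .nil (.node 114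 236 0 .nil (.node 125 239 3 .nil .nil)))) (.node 43 210 3 (.node 49 217 0 (.prune 1 .nil) (.node 93 232 0 .nil (.node 110 235 0 .nil (.node 129 239 4 .nil .nil)))) (.node 43 213 0 (.node 49 214 3 (.prune 1 .nil) (.node 96 232 3 .nil (.node 113 235 3 .nil (.node 126 236 4 .nil .nil)))) (.node 49 214 3 (.node 93 232 0 .nil (.node 105 234 0 .nil (.node 134 239 5 .nil .nil))) (.node 49 217 0 (.node 96 232 3 .nil (.node 108 234 3 .nil (.node 131 236 5 .nil .nil))) (.node 52 218 0 (.node 97 232 4 .nil (.node 109 234 4 .nil (.node 130 235 5 .nil .nil))) (.node 93 232 0 .nil (.node 105 234 0 .nil (.node 110 235 0 .nil (.node 114 236 0 .nil (.node 125 239 3 .nil .nil))))))))))))))))))))))))))))))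

/-- Children of candidate 2. -/
def kids2 : Tr :=
  (.node 3 124 1 (.node 5 130 4 (.prune 63 (.prune 62 (.prune 56 (.prune 40 .nil)))) (.node 7 141 5 (.prune 67 (.prune 66 (.prune 56 (.prune 30 .nil)))) (.node 7 142 4 (.prune 63 (.prune 62 (.prune 56 (.prune 30 .nil)))) (.node 31 189 5 (.prune 46 (.prune 56 (.prune 11 .nil))) (.node 34 192 5 (.prune 56 (.prune 10 .nil)) (.node 31 195 4 (.prune 40 (.prune 56 (.prune 11 .nil))) (.node 34 198 4 (.prune 56 (.prune 10 .nil)) (.node 41 205 4 (.prune 30 (.prune 56 (.prune 11 .nil))) (.node 44 208 4 (.prune 56 (.prune 10 .nil)) (.prune 56 (.node 97 232 4 .nil (.node 109 234 4 .nil (.node 130 235 5 .nil .nil))))))))))))) (.node 4 126 3 (.node 5 133 1 (.prune 60 (.prune 56 (.prune 59 (.prune 37 .nil)))) (.node 7 141 5 (.prune 69 (.prune 66 (.prune 59 (.prune 27 .nil)))) (.node 7 145 1 (.prune 60 (.prune 56 (.prune 59 (.prune 27 .nil)))) (.node 26 184 5 (.prune 49 (.prune 59 (.prune 11 .nil))) (.node 34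 192 5 (.prune 59 (.prune 9 .nil)) (.node 26 195 1 (.prune 37 (.prune 59 (.prune 11 .nil))) (.node 34 203 1 (.prune 59 (.prune 9 .nil)) (.node 36 205 1 (.prune 27 (.prune 59 (.prune 11 .nil))) (.node 44 213 1 (.prune 59 (.prune 9 .nil)) (.prune 59 (.node 94 232 1 .nil (.node 106 234 1 .nil (.node 133 238 5 .nil .nil))))))))))))) (.node 4 128 1 (.node 5 131 3 (.prune 60 (.prune 59 (.prune 56 (.prune 37 .nil)))) (.node 7 141 5 (.prune 67 (.prune 66 (.prune 56 (.prune 27 .nil)))) (.node 7 143 3 (.prune 60 (.prune 59 (.prune 56 (.prune 27 .nil)))) (.node 28 186 5 (.prune 46 (.prune 56 (.prune 11 .nil))) (.node 34 192 5 (.prune 56 (.prune 9 .nil)) (.node 28 195 3 (.prune 37 (.prune 56 (.prune 11 .nil))) (.node 34 201 3 (.prune 56 (.prune 9 .nil)) (.node 38 205 3 (.prune 27 (.prune 56 (.prune 11 .nil))) (.node 44 211 3 (.prune 56 (.prune 9 .nil)) (.prune 56 (.node 96 232 3 .nil (.node 108 234 3 .nil (.node 131 236 5 .nil .nil))))))))))))) (.node 5 130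 4 (.node 7 143 3 (.prune 65 (.prune 59 (.prune 62 (.prune 23 .nil)))) (.node 7 145 1 (.prune 63 (.prune 56 (.prune 62 (.prune 23 .nil)))) (.node 21 184 3 (.prune 43 (.prune 62 (.prune 11 .nil))) (.node 21 186 1 (.prune 40 (.prune 62 (.prune 11 .nil))) (.node 34 201 3 (.prune 62 (.prune 8 .nil)) (.node 34 203 1 (.prune 62 (.prune 8 .nil)) (.node 36 205 1 (.prune 62 (.prune 23 (.prune 11 .nil))) (.prune 62 (.node 53 218 1 (.prune 8 .nil) (.node 94 232 1 .nil (.node 115 236 1 .nil (.node 124 238 3 .nil .nil)))))))))))) (.node 5 131 3 (.node 7 142 4 (.prune 65 (.prune 62 (.prune 59 (.prune 23 .nil)))) (.node 7 145 1 (.prune 60 (.prune 56 (.prune 59 (.prune 23 .nil)))) (.node 22 184 4 (.prune 43 (.prune 59 (.prune 11 .nil))) (.node 22 189 1 (.prune 37 (.prune 59 (.prune 11 .nil))) (.node 34 198 4 (.prune 59 (.prune 8 .nil)) (.node 34 203 1 (.prune 59 (.prune 8 .nil)) (.node 36 205 1 (.prune 59 (.prune 23 (.prune 11 .nil))) (.prune 59 (.node 50 217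 1 (.prune 8 .nil) (.node 94 232 1 .nil (.node 111 235 1 .nil (.node 128 238 4 .nil .nil)))))))))))) (.node 5 133 1 (.node 7 142 4 (.prune 63 (.prune 62 (.prune 56 (.prune 23 .nil)))) (.node 7 143 3 (.prune 60 (.prune 59 (.prune 56 (.prune 23 .nil)))) (.node 24 186 4 (.prune 40 (.prune 56 (.prune 11 .nil))) (.node 24 189 3 (.prune 37 (.prune 56 (.prune 11 .nil))) (.node 34 198 4 (.prune 56 (.prune 8 .nil)) (.node 34 201 3 (.prune 56 (.prune 8 .nil)) (.node 38 205 3 (.prune 56 (.prune 23 (.prune 11 .nil))) (.prune 56 (.node 50 215 3 (.prune 8 .nil) (.node 96 232 3 .nil (.node 113 235 3 .nil (.node 126 236 4 .nil .nil)))))))))))) (.node 7 141 5 (.node 21 184 3 (.prune 66 (.prune 33 (.prune 11 .nil))) (.node 21 186 1 (.prune 66 (.prune 30 (.prune 11 .nil))) (.node 22 189 1 (.prune 66 (.prune 27 (.prune 11 .nil))) (.prune 66 (.node 50 215 3 (.prune 6 .nil) (.node 50 217 1 (.prune 6 .nil) (.node 53 218 1 (.prune 6 .nil) (.node 111 235 1 .nil (.node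 115 236 1 .nil (.node 124 238 3 .nil .nil)))))))))) (.node 7 142 4 (.node 21 184 3 (.prune 62 (.prune 33 (.prune 11 .nil))) (.node 21 186 1 (.prune 62 (.prune 30 (.prune 11 .nil))) (.node 26 195 1 (.prune 62 (.prune 23 (.prune 11 .nil))) (.prune 62 (.node 44 211 3 (.prune 6 .nil) (.node 44 213 1 (.prune 6 .nil) (.node 53 218 1 (.prune 6 .nil) (.node 106 234 1 .nil (.node 115 236 1 .nil (.node 124 238 3 .nil .nil)))))))))) (.node 7 143 3 (.node 22 184 4 (.prune 59 (.prune 33 (.prune 11 .nil))) (.node 22 189 1 (.prune 59 (.prune 27 (.prune 11 .nil))) (.node 26 195 1 (.prune 59 (.prune 23 (.prune 11 .nil))) (.prune 59 (.node 44 208 4 (.prune 6 .nil) (.node 44 213 1 (.prune 6 .nil) (.node 50 217 1 (.prune 6 .nil) (.node 106 234 1 .nil (.node 111 235 1 .nil (.node 128 238 4 .nil .nil)))))))))) (.node 7 145 1 (.node 24 186 4 (.prune 56 (.prune 30 (.prune 11 .nil))) (.node 24 189 3 (.prune 56 (.prune 27 (.prune 11 .nil))) (.node 28 195 3 (.prune 56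 (.prune 23 (.prune 11 .nil))) (.prune 56 (.node 44 208 4 (.prune 6 .nil) (.node 44 211 3 (.prune 6 .nil) (.node 50 215 3 (.prune 6 .nil) (.node 108 234 3 .nil (.node 113 235 3 .nil (.node 126 236 4 .nil .nil)))))))))) (.node 21 184 3 (.node 96 192 28 (.prune 12 (.prune 11 .nil)) (.node 96 198 24 (.prune 12 (.prune 11 .nil)) (.node 97 201 24 (.prune 12 (.prune 11 .nil)) (.node 108 208 24 (.prune 11 .nil) (.node 109 211 24 (.prune 11 .nil) (.node 130 215 28 (.prune 11 .nil) (.prune 11 .nil))))))) (.node 21 186 1 (.node 94 192 26 (.prune 10 (.prune 11 .nil)) (.node 94 198 22 (.prune 10 (.prune 11 .nil)) (.node 97 203 22 (.prune 10 (.prune 11 .nil)) (.node 106 208 22 (.prune 11 .nil) (.node 109 213 22 (.prune 11 .nil) (.node 130 217 26 (.prune 11 .nil) (.prune 11 .nil))))))) (.node 22 189 1 (.node 94 192 26 (.prune 9 (.prune 11 .nil)) (.node 94 201 21 (.prune 9 (.prune 11 .nil)) (.node 96 203 21 (.prune 9 (.prune 11 .nil)) (.node 106 211 21 (.prune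 11 .nil) (.node 108 213 21 (.prune 11 .nil) (.node 131 218 26 (.prune 11 .nil) (.prune 11 .nil))))))) (.node 34 192 5 (.node 50 215 3 (.prune 0 .nil) (.node 50 217 1 (.prune 0 .nil) (.node 53 218 1 (.prune 0 .nil) (.node 111 235 1 .nil (.node 115 236 1 .nil (.node 124 238 3 .nil .nil)))))) (.node 26 195 1 (.node 94 198 22 (.prune 8 (.prune 11 .nil)) (.node 94 201 21 (.prune 8 (.prune 11 .nil)) (.node 96 203 21 (.prune 8 (.prune 11 .nil)) (.node 111 215 21 (.prune 11 .nil) (.node 113 217 21 (.prune 11 .nil) (.node 126 218 22 (.prune 11 .nil) (.prune 11 .nil))))))) (.node 34 198 4 (.node 44 211 3 (.prune 0 .nil) (.node 44 213 1 (.prune 0 .nil) (.node 53 218 1 (.prune 0 .nil) (.node 106 234 1 .nil (.node 115 236 1 .nil (.node 124 238 3 .nil .nil)))))) (.node 34 201 3 (.node 44 208 4 (.prune 0 .nil) (.node 44 213 1 (.prune 0 .nil) (.node 50 217 1 (.prune 0 .nil) (.node 106 234 1 .nil (.node 111 235 1 .nil (.node 128 238 4 .nil .nil)))))) (.node 34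 203 1 (.node 44 208 4 (.prune 0 .nil) (.node 44 211 3 (.prune 0 .nil) (.node 50 215 3 (.prune 0 .nil) (.node 108 234 3 .nil (.node 113 235 3 .nil (.node 126 236 4 .nil .nil)))))) (.node 36 205 1 (.node 106 208 22 (.prune 6 (.prune 11 .nil)) (.node 106 211 21 (.prune 6 (.prune 11 .nil)) (.node 108 213 21 (.prune 6 (.prune 11 .nil)) (.node 111 215 21 (.prune 11 .nil) (.node 113 217 21 (.prune 11 .nil) (.node 126 218 22 (.prune 11 .nil) (.prune 11 .nil))))))) (.node 44 208 4 (.node 53 218 1 (.prune 0 .nil) (.node 94 232 1 .nil (.node 115 236 1 .nil (.node 124 238 3 .nil .nil)))) (.node 44 211 3 (.node 50 217 1 (.prune 0 .nil) (.node 94 232 1 .nil (.node 111 235 1 .nil (.node 128 238 4 .nil .nil)))) (.node 44 213 1 (.node 50 215 3 (.prune 0 .nil) (.node 96 232 3 .nil (.node 113 235 3 .nil (.node 126 236 4 .nil .nil)))) (.node 50 215 3 (.node 94 232 1 .nil (.node 106 234 1 .nil (.node 133 238 5 .nil .nil))) (.node 50 217 1 (.node 96 232 3 .nil (.node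 108 234 3 .nil (.node 131 236 5 .nil .nil))) (.node 53 218 1 (.node 97 232 4 .nil (.node 109 234 4 .nil (.node 130 235 5 .nil .nil))) (.node 94 232 1 .nil (.node 106 234 1 .nil (.node 111 235 1 .nil (.node 115 236 1 .nil (.node 124 238 3 .nil .nil))))))))))))))))))))))))))))))

/-- Children of candidate 3. -/
def kids3 : Tr :=
  (.node 4 128 1 (.node 5 134 0 (.prune 56 (.prune 57 (.prune 58 (.prune 36 .nil)))) (.node 7 141 5 (.prune 67 (.prune 68 (.prune 58 (.prune 26 .nil)))) (.node 7 146 0 (.prune 56 (.prune 57 (.prune 58 (.prune 26 .nil)))) (.node 28 186 5 (.prune 48 (.prune 58 (.prune 10 .nil))) (.node 30 188 5 (.prune 58 (.prune 9 .nil)) (.node 28 199 0 (.prune 36 (.prune 58 (.prune 10 .nil))) (.node 30 201 0 (.prune 58 (.prune 9 .nil)) (.node 38 209 0 (.prune 26 (.prune 58 (.prune 10 .nil))) (.node 40 211 0 (.prune 58 (.prune 9 .nil)) (.prune 58 (.node 93 232 0 .nil (.node 105 234 0 .nil (.node 134 239 5 .nil .nil))))))))))))) (.node 4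 129 0 (.node 5 133 1 (.prune 56 (.prune 58 (.prune 57 (.prune 36 .nil)))) (.node 7 141 5 (.prune 66 (.prune 68 (.prune 57 (.prune 26 .nil)))) (.node 7 145 1 (.prune 56 (.prune 58 (.prune 57 (.prune 26 .nil)))) (.node 29 187 5 (.prune 47 (.prune 57 (.prune 10 .nil))) (.node 30 188 5 (.prune 57 (.prune 9 .nil)) (.node 29 199 1 (.prune 36 (.prune 57 (.prune 10 .nil))) (.node 30 200 1 (.prune 57 (.prune 9 .nil)) (.node 39 209 1 (.prune 26 (.prune 57 (.prune 10 .nil))) (.node 40 210 1 (.prune 57 (.prune 9 .nil)) (.prune 57 (.node 94 232 1 .nil (.node 106 234 1 .nil (.node 133 238 5 .nil .nil))))))))))))) (.node 5 130 4 (.node 7 145 1 (.prune 63 (.prune 58 (.prune 64 (.prune 22 .nil)))) (.node 7 146 0 (.prune 62 (.prune 57 (.prune 64 (.prune 22 .nil)))) (.node 21 186 1 (.prune 42 (.prune 64 (.prune 10 .nil))) (.node 21 187 0 (.prune 41 (.prune 64 (.prune 10 .nil))) (.node 30 200 1 (.prune 64 (.prune 8 .nil)) (.node 30 201 0 (.prune 64 (.prune 8 .nil))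 (.prune 64 (.node 38 209 0 (.prune 22 (.prune 10 .nil)) (.node 52 218 0 (.prune 8 .nil) (.node 93 232 0 .nil (.node 119 238 0 .nil (.node 120 239 1 .nil .nil)))))))))))) (.node 5 133 1 (.node 7 142 4 (.prune 63 (.prune 64 (.prune 58 (.prune 22 .nil)))) (.node 7 146 0 (.prune 56 (.prune 57 (.prune 58 (.prune 22 .nil)))) (.node 24 186 4 (.prune 42 (.prune 58 (.prune 10 .nil))) (.node 24 193 0 (.prune 36 (.prune 58 (.prune 10 .nil))) (.node 30 194 4 (.prune 58 (.prune 8 .nil)) (.node 30 201 0 (.prune 58 (.prune 8 .nil)) (.node 38 209 0 (.prune 58 (.prune 22 (.prune 10 .nil))) (.prune 58 (.node 46 215 0 (.prune 8 .nil) (.node 93 232 0 .nil (.node 110 235 0 .nil (.node 129 239 4 .nil .nil)))))))))))) (.node 5 134 0 (.node 7 142 4 (.prune 62 (.prune 64 (.prune 57 (.prune 22 .nil)))) (.node 7 145 1 (.prune 56 (.prune 58 (.prune 57 (.prune 22 .nil)))) (.node 25 187 4 (.prune 41 (.prune 57 (.prune 10 .nil))) (.node 25 193 1 (.prune 36 (.prune 57 (.prune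 10 .nil))) (.node 30 194 4 (.prune 57 (.prune 8 .nil)) (.node 30 200 1 (.prune 57 (.prune 8 .nil)) (.node 39 209 1 (.prune 57 (.prune 22 (.prune 10 .nil))) (.prune 57 (.node 46 214 1 (.prune 8 .nil) (.node 94 232 1 .nil (.node 111 235 1 .nil (.node 128 238 4 .nil .nil)))))))))))) (.node 7 141 5 (.node 21 186 1 (.prune 68 (.prune 32 (.prune 10 .nil))) (.node 21 187 0 (.prune 68 (.prune 31 (.prune 10 .nil))) (.prune 68 (.node 24 193 0 (.prune 26 (.prune 10 .nil)) (.node 46 214 1 (.prune 6 .nil) (.node 46 215 0 (.prune 6 .nil) (.node 52 218 0 (.prune 6 .nil) (.node 110 235 0 .nil (.node 119 238 0 .nil (.node 120 239 1 .nil .nil)))))))))) (.node 7 142 4 (.node 21 186 1 (.prune 64 (.prune 32 (.prune 10 .nil))) (.node 21 187 0 (.prune 64 (.prune 31 (.prune 10 .nil))) (.prune 64 (.node 28 199 0 (.prune 22 (.prune 10 .nil)) (.node 40 210 1 (.prune 6 .nil) (.node 40 211 0 (.prune 6 .nil) (.node 52 218 0 (.prune 6 .nil) (.node 105 234 0 .nil (.node 119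 238 0 .nil (.node 120 239 1 .nil .nil)))))))))) (.node 7 145 1 (.node 24 186 4 (.prune 58 (.prune 32 (.prune 10 .nil))) (.node 24 193 0 (.prune 58 (.prune 26 (.prune 10 .nil))) (.node 28 199 0 (.prune 58 (.prune 22 (.prune 10 .nil))) (.prune 58 (.node 40 204 4 (.prune 6 .nil) (.node 40 211 0 (.prune 6 .nil) (.node 46 215 0 (.prune 6 .nil) (.node 105 234 0 .nil (.node 110 235 0 .nil (.node 129 239 4 .nil .nil)))))))))) (.node 7 146 0 (.node 25 187 4 (.prune 57 (.prune 31 (.prune 10 .nil))) (.node 25 193 1 (.prune 57 (.prune 26 (.prune 10 .nil))) (.node 29 199 1 (.prune 57 (.prune 22 (.prune 10 .nil))) (.prune 57 (.node 40 204 4 (.prune 6 .nil) (.node 40 210 1 (.prune 6 .nil) (.node 46 214 1 (.prune 6 .nil) (.node 106 234 1 .nil (.node 111 235 1 .nil (.node 128 238 4 .nil .nil)))))))))) (.node 21 186 1 (.node 94 188 29 (.prune 13 (.prune 10 .nil)) (.node 94 194 25 (.prune 13 (.prune 10 .nil)) (.node 97 200 25 (.prune 13 (.prune 10 .nil)) (.node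 106 204 25 (.prune 10 .nil) (.node 109 210 25 (.prune 10 .nil) (.node 130 214 29 (.prune 10 .nil) (.prune 10 .nil))))))) (.node 21 187 0 (.node 93 188 28 (.prune 12 (.prune 10 .nil)) (.node 93 194 24 (.prune 12 (.prune 10 .nil)) (.node 97 201 24 (.prune 12 (.prune 10 .nil)) (.node 105 204 24 (.prune 10 .nil) (.node 109 211 24 (.prune 10 .nil) (.node 130 215 28 (.prune 10 .nil) (.prune 10 .nil))))))) (.node 30 188 5 (.node 24 193 0 (.prune 9 (.prune 10 .nil)) (.node 46 214 1 (.prune 2 .nil) (.node 46 215 0 (.prune 2 .nil) (.node 52 218 0 (.prune 2 .nil) (.node 110 235 0 .nil (.node 119 238 0 .nil (.node 120 239 1 .nil .nil))))))) (.node 24 193 0 (.node 93 200 21 (.prune 9 (.prune 10 .nil)) (.node 94 201 21 (.prune 9 (.prune 10 .nil)) (.node 105 210 21 (.prune 10 .nil) (.node 106 211 21 (.prune 10 .nil) (.node 133 218 28 (.prune 10 .nil) (.prune 10 .nil)))))) (.node 30 194 4 (.node 28 199 0 (.prune 8 (.prune 10 .nil)) (.node 40 210 1 (.prune 2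 .nil) (.node 40 211 0 (.prune 2 .nil) (.node 52 218 0 (.prune 2 .nil) (.node 105 234 0 .nil (.node 119 238 0 .nil (.node 120 239 1 .nil .nil))))))) (.node 28 199 0 (.node 93 200 21 (.prune 8 (.prune 10 .nil)) (.node 94 201 21 (.prune 8 (.prune 10 .nil)) (.node 110 214 21 (.prune 10 .nil) (.node 111 215 21 (.prune 10 .nil) (.node 128 218 24 (.prune 10 .nil) (.prune 10 .nil)))))) (.node 30 200 1 (.node 40 204 4 (.prune 2 .nil) (.node 40 211 0 (.prune 2 .nil) (.node 46 215 0 (.prune 2 .nil) (.node 105 234 0 .nil (.node 110 235 0 .nil (.node 129 239 4 .nil .nil)))))) (.node 30 201 0 (.node 40 204 4 (.prune 2 .nil) (.node 40 210 1 (.prune 2 .nil) (.node 46 214 1 (.prune 2 .nil) (.node 106 234 1 .nil (.node 111 235 1 .nil (.node 128 238 4 .nil .nil)))))) (.node 40 204 4 (.node 38 209 0 (.prune 6 (.prune 10 .nil)) (.node 52 218 0 (.prune 2 .nil) (.node 93 232 0 .nil (.node 119 238 0 .nil (.node 120 239 1 .nil .nil))))) (.node 38 209 0 (.node 105 210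 21 (.prune 6 (.prune 10 .nil)) (.node 106 211 21 (.prune 6 (.prune 10 .nil)) (.node 110 214 21 (.prune 10 .nil) (.node 111 215 21 (.prune 10 .nil) (.node 128 218 24 (.prune 10 .nil) (.prune 10 .nil)))))) (.node 40 210 1 (.node 46 215 0 (.prune 2 .nil) (.node 93 232 0 .nil (.node 110 235 0 .nil (.node 129 239 4 .nil .nil)))) (.node 40 211 0 (.node 46 214 1 (.prune 2 .nil) (.node 94 232 1 .nil (.node 111 235 1 .nil (.node 128 238 4 .nil .nil)))) (.node 46 214 1 (.node 93 232 0 .nil (.node 105 234 0 .nil (.node 134 239 5 .nil .nil))) (.node 46 215 0 (.node 94 232 1 .nil (.node 106 234 1 .nil (.node 133 238 5 .nil .nil))) (.node 52 218 0 (.node 97 232 4 .nil (.node 109 234 4 .nil (.node 130 235 5 .nil .nil))) (.node 93 232 0 .nil (.node 105 234 0 .nil (.node 110 235 0 .nil (.node 119 238 0 .nil (.node 120 239 1 .nil .nil)))))))))))))))))))))))))))))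

/-- Children of candidate 4. -/
def kids4 : Tr :=
  (.node 4 127 2 (.node 5 134 0 (.prune 57 (.prune 56 (.prune 58 (.prune 36 .nil)))) (.node 7 141 5 (.prune 68 (.prune 67 (.prune 58 (.prune 26 .nil)))) (.node 7 146 0 (.prune 57 (.prune 56 (.prune 58 (.prune 26 .nil)))) (.node 27 185 5 (.prune 48 (.prune 58 (.prune 10 .nil))) (.node 31 189 5 (.prune 58 (.prune 9 .nil)) (.node 27 198 0 (.prune 36 (.prune 58 (.prune 10 .nil))) (.node 31 202 0 (.prune 58 (.prune 9 .nil)) (.node 37 208 0 (.prune 26 (.prune 58 (.prune 10 .nil))) (.node 41 212 0 (.prune 58 (.prune 9 .nil)) (.prune 58 (.node 93 232 0 .nil (.node 105 234 0 .nil (.node 134 239 5 .nil .nil))))))))))))) (.node 4 129 0 (.node 5 132 2 (.prune 57 (.prune 58 (.prune 56 (.prune 36 .nil)))) (.node 7 141 5 (.prune 66 (.prune 67 (.prune 56 (.prune 26 .nil)))) (.node 7 144 2 (.prune 57 (.prune 58 (.prune 56 (.prune 26 .nil)))) (.node 29 187 5 (.prune 46 (.prune 56 (.prune 10 .nil))) (.node 31 189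 5 (.prune 56 (.prune 9 .nil)) (.node 29 198 2 (.prune 36 (.prune 56 (.prune 10 .nil))) (.node 31 200 2 (.prune 56 (.prune 9 .nil)) (.node 39 208 2 (.prune 26 (.prune 56 (.prune 10 .nil))) (.node 41 210 2 (.prune 56 (.prune 9 .nil)) (.prune 56 (.node 95 232 2 .nil (.node 107 234 2 .nil (.node 132 237 5 .nil .nil))))))))))))) (.node 5 130 4 (.node 7 144 2 (.prune 64 (.prune 58 (.prune 63 (.prune 22 .nil)))) (.node 7 146 0 (.prune 62 (.prune 56 (.prune 63 (.prune 22 .nil)))) (.node 21 185 2 (.prune 42 (.prune 63 (.prune 10 .nil))) (.node 21 187 0 (.prune 40 (.prune 63 (.prune 10 .nil))) (.node 31 200 2 (.prune 63 (.prune 8 .nil)) (.node 31 202 0 (.prune 63 (.prune 8 .nil)) (.prune 63 (.node 37 208 0 (.prune 22 (.prune 10 .nil)) (.node 52 218 0 (.prune 8 .nil) (.node 93 232 0 .nil (.node 117 237 0 .nil (.node 122 239 2 .nil .nil)))))))))))) (.node 5 132 2 (.node 7 142 4 (.prune 64 (.prune 63 (.prune 58 (.prune 22 .nil)))) (.node 7 146 0 (.prune 57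 (.prune 56 (.prune 58 (.prune 22 .nil)))) (.node 23 185 4 (.prune 42 (.prune 58 (.prune 10 .nil))) (.node 23 192 0 (.prune 36 (.prune 58 (.prune 10 .nil))) (.node 31 195 4 (.prune 58 (.prune 8 .nil)) (.node 31 202 0 (.prune 58 (.prune 8 .nil)) (.node 37 208 0 (.prune 58 (.prune 22 (.prune 10 .nil))) (.prune 58 (.node 47 216 0 (.prune 8 .nil) (.node 93 232 0 .nil (.node 110 235 0 .nil (.node 129 239 4 .nil .nil)))))))))))) (.node 5 134 0 (.node 7 142 4 (.prune 62 (.prune 63 (.prune 56 (.prune 22 .nil)))) (.node 7 144 2 (.prune 57 (.prune 58 (.prune 56 (.prune 22 .nil)))) (.node 25 187 4 (.prune 40 (.prune 56 (.prune 10 .nil))) (.node 25 192 2 (.prune 36 (.prune 56 (.prune 10 .nil))) (.node 31 195 4 (.prune 56 (.prune 8 .nil)) (.node 31 200 2 (.prune 56 (.prune 8 .nil)) (.node 39 208 2 (.prune 56 (.prune 22 (.prune 10 .nil))) (.prune 56 (.node 47 214 2 (.prune 8 .nil) (.node 95 232 2 .nil (.node 112 235 2 .nil (.node 127 237 4 .nil .nil))))))))))))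 (.node 7 141 5 (.node 21 185 2 (.prune 67 (.prune 32 (.prune 10 .nil))) (.node 21 187 0 (.prune 67 (.prune 30 (.prune 10 .nil))) (.prune 67 (.node 23 192 0 (.prune 26 (.prune 10 .nil)) (.node 47 214 2 (.prune 6 .nil) (.node 47 216 0 (.prune 6 .nil) (.node 52 218 0 (.prune 6 .nil) (.node 110 235 0 .nil (.node 117 237 0 .nil (.node 122 239 2 .nil .nil)))))))))) (.node 7 142 4 (.node 21 185 2 (.prune 63 (.prune 32 (.prune 10 .nil))) (.node 21 187 0 (.prune 63 (.prune 30 (.prune 10 .nil))) (.prune 63 (.node 27 198 0 (.prune 22 (.prune 10 .nil)) (.node 41 210 2 (.prune 6 .nil) (.node 41 212 0 (.prune 6 .nil) (.node 52 218 0 (.prune 6 .nil) (.node 105 234 0 .nil (.node 117 237 0 .nil (.node 122 239 2 .nil .nil)))))))))) (.node 7 144 2 (.node 23 185 4 (.prune 58 (.prune 32 (.prune 10 .nil))) (.node 23 192 0 (.prune 58 (.prune 26 (.prune 10 .nil))) (.node 27 198 0 (.prune 58 (.prune 22 (.prune 10 .nil))) (.prune 58 (.node 41 205 4 (.prune 6 .nil) (.node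 41 212 0 (.prune 6 .nil) (.node 47 216 0 (.prune 6 .nil) (.node 105 234 0 .nil (.node 110 235 0 .nil (.node 129 239 4 .nil .nil)))))))))) (.node 7 146 0 (.node 25 187 4 (.prune 56 (.prune 30 (.prune 10 .nil))) (.node 25 192 2 (.prune 56 (.prune 26 (.prune 10 .nil))) (.node 29 198 2 (.prune 56 (.prune 22 (.prune 10 .nil))) (.prune 56 (.node 41 205 4 (.prune 6 .nil) (.node 41 210 2 (.prune 6 .nil) (.node 47 214 2 (.prune 6 .nil) (.node 107 234 2 .nil (.node 112 235 2 .nil (.node 127 237 4 .nil .nil)))))))))) (.node 21 185 2 (.node 95 189 29 (.prune 13 (.prune 10 .nil)) (.node 95 195 25 (.prune 13 (.prune 10 .nil)) (.node 97 200 25 (.prune 13 (.prune 10 .nil)) (.node 107 205 25 (.prune 10 .nil) (.node 109 210 25 (.prune 10 .nil) (.node 130 214 29 (.prune 10 .nil) (.prune 10 .nil))))))) (.node 21 187 0 (.node 93 189 27 (.prune 11 (.prune 10 .nil)) (.node 93 195 23 (.prune 11 (.prune 10 .nil)) (.node 97 202 23 (.prune 11 (.prune 10 .nil)) (.node 105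 205 23 (.prune 10 .nil) (.node 109 212 23 (.prune 10 .nil) (.node 130 216 27 (.prune 10 .nil) (.prune 10 .nil))))))) (.node 31 189 5 (.node 23 192 0 (.prune 9 (.prune 10 .nil)) (.node 47 214 2 (.prune 1 .nil) (.node 47 216 0 (.prune 1 .nil) (.node 52 218 0 (.prune 1 .nil) (.node 110 235 0 .nil (.node 117 237 0 .nil (.node 122 239 2 .nil .nil))))))) (.node 23 192 0 (.node 93 200 21 (.prune 9 (.prune 10 .nil)) (.node 95 202 21 (.prune 9 (.prune 10 .nil)) (.node 105 210 21 (.prune 10 .nil) (.node 107 212 21 (.prune 10 .nil) (.node 132 218 27 (.prune 10 .nil) (.prune 10 .nil)))))) (.node 31 195 4 (.node 27 198 0 (.prune 8 (.prune 10 .nil)) (.node 41 210 2 (.prune 1 .nil) (.node 41 212 0 (.prune 1 .nil) (.node 52 218 0 (.prune 1 .nil) (.node 105 234 0 .nil (.node 117 237 0 .nil (.node 122 239 2 .nil .nil))))))) (.node 27 198 0 (.node 93 200 21 (.prune 8 (.prune 10 .nil)) (.node 95 202 21 (.prune 8 (.prune 10 .nil)) (.node 110 214 21 (.prune 10 .nil)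 (.node 112 216 21 (.prune 10 .nil) (.node 127 218 23 (.prune 10 .nil) (.prune 10 .nil)))))) (.node 31 200 2 (.node 41 205 4 (.prune 1 .nil) (.node 41 212 0 (.prune 1 .nil) (.node 47 216 0 (.prune 1 .nil) (.node 105 234 0 .nil (.node 110 235 0 .nil (.node 129 239 4 .nil .nil)))))) (.node 31 202 0 (.node 41 205 4 (.prune 1 .nil) (.node 41 210 2 (.prune 1 .nil) (.node 47 214 2 (.prune 1 .nil) (.node 107 234 2 .nil (.node 112 235 2 .nil (.node 127 237 4 .nil .nil)))))) (.node 41 205 4 (.node 37 208 0 (.prune 6 (.prune 10 .nil)) (.node 52 218 0 (.prune 1 .nil) (.node 93 232 0 .nil (.node 117 237 0 .nil (.node 122 239 2 .nil .nil))))) (.node 37 208 0 (.node 105 210 21 (.prune 6 (.prune 10 .nil)) (.node 107 212 21 (.prune 6 (.prune 10 .nil)) (.node 110 214 21 (.prune 10 .nil) (.node 112 216 21 (.prune 10 .nil) (.node 127 218 23 (.prune 10 .nil) (.prune 10 .nil)))))) (.node 41 210 2 (.node 47 216 0 (.prune 1 .nil) (.node 93 232 0 .nil (.node 110 235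 0 .nil (.node 129 239 4 .nil .nil)))) (.node 41 212 0 (.node 47 214 2 (.prune 1 .nil) (.node 95 232 2 .nil (.node 112 235 2 .nil (.node 127 237 4 .nil .nil)))) (.node 47 214 2 (.node 93 232 0 .nil (.node 105 234 0 .nil (.node 134 239 5 .nil .nil))) (.node 47 216 0 (.node 95 232 2 .nil (.node 107 234 2 .nil (.node 132 237 5 .nil .nil))) (.node 52 218 0 (.node 97 232 4 .nil (.node 109 234 4 .nil (.node 130 235 5 .nil .nil))) (.node 93 232 0 .nil (.node 105 234 0 .nil (.node 110 235 0 .nil (.node 117 237 0 .nil (.node 122 239 2 .nil .nil)))))))))))))))))))))))))))))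

/-- Children of candidate 5. -/
def kids5 : Tr :=
  (.node 4 127 2 (.node 5 133 1 (.prune 58 (.prune 56 (.prune 57 (.prune 36 .nil)))) (.node 7 141 5 (.prune 68 (.prune 66 (.prune 57 (.prune 26 .nil)))) (.node 7 145 1 (.prune 58 (.prune 56 (.prune 57 (.prune 26 .nil)))) (.node 27 185 5 (.prune 47 (.prune 57 (.prune 10 .nil))) (.node 32 190 5 (.prune 57 (.prune 9 .nil)) (.node 27 197 1 (.prune 36 (.prune 57 (.prune 10 .nil))) (.node 32 202 1 (.prune 57 (.prune 9 .nil)) (.node 37 207 1 (.prune 26 (.prune 57 (.prune 10 .nil))) (.node 42 212 1 (.prune 57 (.prune 9 .nil)) (.prune 57 (.node 94 232 1 .nil (.node 106 234 1 .nil (.node 133 238 5 .nil .nil))))))))))))) (.node 4 128 1 (.node 5 132 2 (.prune 58 (.prune 57 (.prune 56 (.prune 36 .nil)))) (.node 7 141 5 (.prune 67 (.prune 66 (.prune 56 (.prune 26 .nil)))) (.node 7 144 2 (.prune 58 (.prune 57 (.prune 56 (.prune 26 .nil)))) (.node 28 186 5 (.prune 46 (.prune 56 (.prune 10 .nil))) (.node 32 190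 5 (.prune 56 (.prune 9 .nil)) (.node 28 197 2 (.prune 36 (.prune 56 (.prune 10 .nil))) (.node 32 201 2 (.prune 56 (.prune 9 .nil)) (.node 38 207 2 (.prune 26 (.prune 56 (.prune 10 .nil))) (.node 42 211 2 (.prune 56 (.prune 9 .nil)) (.prune 56 (.node 95 232 2 .nil (.node 107 234 2 .nil (.node 132 237 5 .nil .nil))))))))))))) (.node 5 130 4 (.node 7 144 2 (.prune 64 (.prune 57 (.prune 62 (.prune 22 .nil)))) (.node 7 145 1 (.prune 63 (.prune 56 (.prune 62 (.prune 22 .nil)))) (.node 21 185 2 (.prune 41 (.prune 62 (.prune 10 .nil))) (.node 21 186 1 (.prune 40 (.prune 62 (.prune 10 .nil))) (.node 32 201 2 (.prune 62 (.prune 8 .nil)) (.node 32 202 1 (.prune 62 (.prune 8 .nil)) (.prune 62 (.node 37 207 1 (.prune 22 (.prune 10 .nil)) (.node 53 218 1 (.prune 8 .nil) (.node 94 232 1 .nil (.node 118 237 1 .nil (.node 121 238 2 .nil .nil)))))))))))) (.node 5 132 2 (.node 7 142 4 (.prune 64 (.prune 62 (.prune 57 (.prune 22 .nil)))) (.node 7 145 1 (.prune 58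 (.prune 56 (.prune 57 (.prune 22 .nil)))) (.node 23 185 4 (.prune 41 (.prune 57 (.prune 10 .nil))) (.node 23 191 1 (.prune 36 (.prune 57 (.prune 10 .nil))) (.node 32 196 4 (.prune 57 (.prune 8 .nil)) (.node 32 202 1 (.prune 57 (.prune 8 .nil)) (.node 37 207 1 (.prune 57 (.prune 22 (.prune 10 .nil))) (.prune 57 (.node 48 216 1 (.prune 8 .nil) (.node 94 232 1 .nil (.node 111 235 1 .nil (.node 128 238 4 .nil .nil)))))))))))) (.node 5 133 1 (.node 7 142 4 (.prune 63 (.prune 62 (.prune 56 (.prune 22 .nil)))) (.node 7 144 2 (.prune 58 (.prune 57 (.prune 56 (.prune 22 .nil)))) (.node 24 186 4 (.prune 40 (.prune 56 (.prune 10 .nil))) (.node 24 191 2 (.prune 36 (.prune 56 (.prune 10 .nil))) (.node 32 196 4 (.prune 56 (.prune 8 .nil)) (.node 32 201 2 (.prune 56 (.prune 8 .nil)) (.node 38 207 2 (.prune 56 (.prune 22 (.prune 10 .nil))) (.prune 56 (.node 48 215 2 (.prune 8 .nil) (.node 95 232 2 .nil (.node 112 235 2 .nil (.node 127 237 4 .nil .nil))))))))))))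 (.node 7 141 5 (.node 21 185 2 (.prune 66 (.prune 31 (.prune 10 .nil))) (.node 21 186 1 (.prune 66 (.prune 30 (.prune 10 .nil))) (.prune 66 (.node 23 191 1 (.prune 26 (.prune 10 .nil)) (.node 48 215 2 (.prune 6 .nil) (.node 48 216 1 (.prune 6 .nil) (.node 53 218 1 (.prune 6 .nil) (.node 111 235 1 .nil (.node 118 237 1 .nil (.node 121 238 2 .nil .nil)))))))))) (.node 7 142 4 (.node 21 185 2 (.prune 62 (.prune 31 (.prune 10 .nil))) (.node 21 186 1 (.prune 62 (.prune 30 (.prune 10 .nil))) (.prune 62 (.node 27 197 1 (.prune 22 (.prune 10 .nil)) (.node 42 211 2 (.prune 6 .nil) (.node 42 212 1 (.prune 6 .nil) (.node 53 218 1 (.prune 6 .nil) (.node 106 234 1 .nil (.node 118 237 1 .nil (.node 121 238 2 .nil .nil)))))))))) (.node 7 144 2 (.node 23 185 4 (.prune 57 (.prune 31 (.prune 10 .nil))) (.node 23 191 1 (.prune 57 (.prune 26 (.prune 10 .nil))) (.node 27 197 1 (.prune 57 (.prune 22 (.prune 10 .nil))) (.prune 57 (.node 42 206 4 (.prune 6 .nil) (.node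 42 212 1 (.prune 6 .nil) (.node 48 216 1 (.prune 6 .nil) (.node 106 234 1 .nil (.node 111 235 1 .nil (.node 128 238 4 .nil .nil)))))))))) (.node 7 145 1 (.node 24 186 4 (.prune 56 (.prune 30 (.prune 10 .nil))) (.node 24 191 2 (.prune 56 (.prune 26 (.prune 10 .nil))) (.node 28 197 2 (.prune 56 (.prune 22 (.prune 10 .nil))) (.prune 56 (.node 42 206 4 (.prune 6 .nil) (.node 42 211 2 (.prune 6 .nil) (.node 48 215 2 (.prune 6 .nil) (.node 107 234 2 .nil (.node 112 235 2 .nil (.node 127 237 4 .nil .nil)))))))))) (.node 21 185 2 (.node 95 190 28 (.prune 12 (.prune 10 .nil)) (.node 95 196 24 (.prune 12 (.prune 10 .nil)) (.node 97 201 24 (.prune 12 (.prune 10 .nil)) (.node 107 206 24 (.prune 10 .nil) (.node 109 211 24 (.prune 10 .nil) (.node 130 215 28 (.prune 10 .nil) (.prune 10 .nil))))))) (.node 21 186 1 (.node 94 190 27 (.prune 11 (.prune 10 .nil)) (.node 94 196 23 (.prune 11 (.prune 10 .nil)) (.node 97 202 23 (.prune 11 (.prune 10 .nil)) (.node 106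 206 23 (.prune 10 .nil) (.node 109 212 23 (.prune 10 .nil) (.node 130 216 27 (.prune 10 .nil) (.prune 10 .nil))))))) (.node 32 190 5 (.node 23 191 1 (.prune 9 (.prune 10 .nil)) (.node 48 215 2 (.prune 0 .nil) (.node 48 216 1 (.prune 0 .nil) (.node 53 218 1 (.prune 0 .nil) (.node 111 235 1 .nil (.node 118 237 1 .nil (.node 121 238 2 .nil .nil))))))) (.node 23 191 1 (.node 94 201 21 (.prune 9 (.prune 10 .nil)) (.node 95 202 21 (.prune 9 (.prune 10 .nil)) (.node 106 211 21 (.prune 10 .nil) (.node 107 212 21 (.prune 10 .nil) (.node 132 218 27 (.prune 10 .nil) (.prune 10 .nil)))))) (.node 32 196 4 (.node 27 197 1 (.prune 8 (.prune 10 .nil)) (.node 42 211 2 (.prune 0 .nil) (.node 42 212 1 (.prune 0 .nil) (.node 53 218 1 (.prune 0 .nil) (.node 106 234 1 .nil (.node 118 237 1 .nil (.node 121 238 2 .nil .nil))))))) (.node 27 197 1 (.node 94 201 21 (.prune 8 (.prune 10 .nil)) (.node 95 202 21 (.prune 8 (.prune 10 .nil)) (.node 111 215 21 (.prune 10 .nil)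 (.node 112 216 21 (.prune 10 .nil) (.node 127 218 23 (.prune 10 .nil) (.prune 10 .nil)))))) (.node 32 201 2 (.node 42 206 4 (.prune 0 .nil) (.node 42 212 1 (.prune 0 .nil) (.node 48 216 1 (.prune 0 .nil) (.node 106 234 1 .nil (.node 111 235 1 .nil (.node 128 238 4 .nil .nil)))))) (.node 32 202 1 (.node 42 206 4 (.prune 0 .nil) (.node 42 211 2 (.prune 0 .nil) (.node 48 215 2 (.prune 0 .nil) (.node 107 234 2 .nil (.node 112 235 2 .nil (.node 127 237 4 .nil .nil)))))) (.node 42 206 4 (.node 37 207 1 (.prune 6 (.prune 10 .nil)) (.node 53 218 1 (.prune 0 .nil) (.node 94 232 1 .nil (.node 118 237 1 .nil (.node 121 238 2 .nil .nil))))) (.node 37 207 1 (.node 106 211 21 (.prune 6 (.prune 10 .nil)) (.node 107 212 21 (.prune 6 (.prune 10 .nil)) (.node 111 215 21 (.prune 10 .nil) (.node 112 216 21 (.prune 10 .nil) (.node 127 218 23 (.prune 10 .nil) (.prune 10 .nil)))))) (.node 42 211 2 (.node 48 216 1 (.prune 0 .nil) (.node 94 232 1 .nil (.node 111 235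 1 .nil (.node 128 238 4 .nil .nil)))) (.node 42 212 1 (.node 48 215 2 (.prune 0 .nil) (.node 95 232 2 .nil (.node 112 235 2 .nil (.node 127 237 4 .nil .nil)))) (.node 48 215 2 (.node 94 232 1 .nil (.node 106 234 1 .nil (.node 133 238 5 .nil .nil))) (.node 48 216 1 (.node 95 232 2 .nil (.node 107 234 2 .nil (.node 132 237 5 .nil .nil))) (.node 53 218 1 (.node 97 232 4 .nil (.node 109 234 4 .nil (.node 130 235 5 .nil .nil))) (.node 94 232 1 .nil (.node 106 234 1 .nil (.node 111 235 1 .nil (.node 118 237 1 .nil (.node 121 238 2 .nil .nil)))))))))))))))))))))))))))))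

/-- Children of candidate 6. -/
def kids6 : Tr :=
  (.node 5 132 2 (.node 7 145 1 (.prune 58 (.prune 60 (.prune 61 (.prune 21 .nil)))) (.node 7 146 0 (.prune 57 (.prune 59 (.prune 61 (.prune 21 .nil)))) (.node 23 191 1 (.prune 39 (.prune 61 (.prune 9 .nil))) (.node 23 192 0 (.prune 38 (.prune 61 (.prune 9 .nil))) (.node 26 195 1 (.prune 61 (.prune 8 .nil)) (.node 26 196 0 (.prune 61 (.prune 8 .nil)) (.prune 61 (.node 43 213 0 (.prune 21 (.prune 9 .nil)) (.node 47 216 0 (.prune 8 .nil) (.node 93 232 0 .nil (.node 119 238 0 .nil (.node 120 239 1 .nil .nil)))))))))))) (.node 5 133 1 (.node 7 144 2 (.prune 58 (.prune 61 (.prune 60 (.prune 21 .nil)))) (.node 7 146 0 (.prune 56 (.prune 59 (.prune 60 (.prune 21 .nil)))) (.node 24 191 2 (.prune 39 (.prune 60 (.prune 9 .nil))) (.node 24 193 0 (.prune 37 (.prune 60 (.prune 9 .nil))) (.node 26 194 2 (.prune 60 (.prune 8 .nil)) (.node 26 196 0 (.prune 60 (.prune 8 .nil)) (.prune 60 (.node 43 213 0 (.prune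 21 (.prune 9 .nil)) (.node 46 215 0 (.prune 8 .nil) (.node 93 232 0 .nil (.node 117 237 0 .nil (.node 122 239 2 .nil .nil)))))))))))) (.node 5 134 0 (.node 7 144 2 (.prune 57 (.prune 61 (.prune 59 (.prune 21 .nil)))) (.node 7 145 1 (.prune 56 (.prune 60 (.prune 59 (.prune 21 .nil)))) (.node 25 192 2 (.prune 38 (.prune 59 (.prune 9 .nil))) (.node 25 193 1 (.prune 37 (.prune 59 (.prune 9 .nil))) (.node 26 194 2 (.prune 59 (.prune 8 .nil)) (.node 26 195 1 (.prune 59 (.prune 8 .nil)) (.prune 59 (.node 44 213 1 (.prune 21 (.prune 9 .nil)) (.node 46 214 1 (.prune 8 .nil) (.node 94 232 1 .nil (.node 118 237 1 .nil (.node 121 238 2 .nil .nil)))))))))))) (.node 7 141 5 (.prune 69 (.node 23 191 1 (.prune 29 (.prune 9 .nil)) (.node 23 192 0 (.prune 28 (.prune 9 .nil)) (.node 24 193 0 (.prune 27 (.prune 9 .nil)) (.node 46 214 1 (.prune 6 .nil) (.node 46 215 0 (.prune 6 .nil) (.node 47 216 0 (.prune 6 .nil) (.node 117 237 0 .nil (.node 119 238 0 .nil (.node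 120 239 1 .nil .nil)))))))))) (.node 7 144 2 (.node 23 191 1 (.prune 61 (.prune 29 (.prune 9 .nil))) (.node 23 192 0 (.prune 61 (.prune 28 (.prune 9 .nil))) (.prune 61 (.node 33 203 0 (.prune 21 (.prune 9 .nil)) (.node 36 205 1 (.prune 6 .nil) (.node 36 206 0 (.prune 6 .nil) (.node 47 216 0 (.prune 6 .nil) (.node 105 234 0 .nil (.node 119 238 0 .nil (.node 120 239 1 .nil .nil)))))))))) (.node 7 145 1 (.node 24 191 2 (.prune 60 (.prune 29 (.prune 9 .nil))) (.node 24 193 0 (.prune 60 (.prune 27 (.prune 9 .nil))) (.prune 60 (.node 33 203 0 (.prune 21 (.prune 9 .nil)) (.node 36 204 2 (.prune 6 .nil) (.node 36 206 0 (.prune 6 .nil) (.node 46 215 0 (.prune 6 .nil) (.node 105 234 0 .nil (.node 117 237 0 .nil (.node 122 239 2 .nil .nil)))))))))) (.node 7 146 0 (.node 25 192 2 (.prune 59 (.prune 28 (.prune 9 .nil))) (.node 25 193 1 (.prune 59 (.prune 27 (.prune 9 .nil))) (.prune 59 (.node 34 203 1 (.prune 21 (.prune 9 .nil)) (.node 36 204 2 (.prune 6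 .nil) (.node 36 205 1 (.prune 6 .nil) (.node 46 214 1 (.prune 6 .nil) (.node 106 234 1 .nil (.node 118 237 1 .nil (.node 121 238 2 .nil .nil)))))))))) (.node 26 184 5 (.node 23 191 1 (.prune 13 (.prune 9 .nil)) (.node 23 192 0 (.prune 12 (.prune 9 .nil)) (.node 24 193 0 (.prune 11 (.prune 9 .nil)) (.node 46 214 1 (.prune 3 .nil) (.node 46 215 0 (.prune 3 .nil) (.node 47 216 0 (.prune 3 .nil) (.node 117 237 0 .nil (.node 119 238 0 .nil (.node 120 239 1 .nil .nil))))))))) (.node 23 191 1 (.node 94 194 25 (.prune 13 (.prune 9 .nil)) (.node 95 195 25 (.prune 13 (.prune 9 .nil)) (.node 106 204 25 (.prune 9 .nil) (.node 107 205 25 (.prune 9 .nil) (.node 132 214 34 (.prune 9 .nil) (.prune 9 .nil)))))) (.node 23 192 0 (.node 93 194 24 (.prune 12 (.prune 9 .nil)) (.node 95 196 24 (.prune 12 (.prune 9 .nil)) (.node 105 204 24 (.prune 9 .nil) (.node 107 206 24 (.prune 9 .nil) (.node 132 215 33 (.prune 9 .nil) (.prune 9 .nil)))))) (.node 24 193 0 (.node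 93 195 23 (.prune 11 (.prune 9 .nil)) (.node 94 196 23 (.prune 11 (.prune 9 .nil)) (.node 105 205 23 (.prune 9 .nil) (.node 106 206 23 (.prune 9 .nil) (.node 133 216 33 (.prune 9 .nil) (.prune 9 .nil)))))) (.node 26 194 2 (.node 33 203 0 (.prune 8 (.prune 9 .nil)) (.node 36 205 1 (.prune 3 .nil) (.node 36 206 0 (.prune 3 .nil) (.node 47 216 0 (.prune 3 .nil) (.node 105 234 0 .nil (.node 119 238 0 .nil (.node 120 239 1 .nil .nil))))))) (.node 26 195 1 (.node 33 203 0 (.prune 8 (.prune 9 .nil)) (.node 36 204 2 (.prune 3 .nil) (.node 36 206 0 (.prune 3 .nil) (.node 46 215 0 (.prune 3 .nil) (.node 105 234 0 .nil (.node 117 237 0 .nil (.node 122 239 2 .nil .nil))))))) (.node 26 196 0 (.node 34 203 1 (.prune 8 (.prune 9 .nil)) (.node 36 204 2 (.prune 3 .nil) (.node 36 205 1 (.prune 3 .nil) (.node 46 214 1 (.prune 3 .nil) (.node 106 234 1 .nil (.node 118 237 1 .nil (.node 121 238 2 .nil .nil))))))) (.node 33 203 0 (.node 117 214 23 (.prune 9 .nil) (.node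 118 215 23 (.prune 9 .nil) (.node 121 216 24 (.prune 9 .nil) (.prune 9 .nil)))) (.node 36 204 2 (.node 43 213 0 (.prune 6 (.prune 9 .nil)) (.node 47 216 0 (.prune 3 .nil) (.node 93 232 0 .nil (.node 119 238 0 .nil (.node 120 239 1 .nil .nil))))) (.node 36 205 1 (.node 43 213 0 (.prune 6 (.prune 9 .nil)) (.node 46 215 0 (.prune 3 .nil) (.node 93 232 0 .nil (.node 117 237 0 .nil (.node 122 239 2 .nil .nil))))) (.node 36 206 0 (.node 44 213 1 (.prune 6 (.prune 9 .nil)) (.node 46 214 1 (.prune 3 .nil) (.node 94 232 1 .nil (.node 118 237 1 .nil (.node 121 238 2 .nil .nil))))) (.node 43 213 0 (.node 117 214 23 (.prune 9 .nil) (.node 118 215 23 (.prune 9 .nil) (.node 121 216 24 (.prune 9 .nil) (.prune 9 .nil)))) (.node 46 214 1 (.node 93 232 0 .nil (.node 105 234 0 .nil (.node 134 239 5 .nil .nil))) (.node 46 215 0 (.node 94 232 1 .nil (.node 106 234 1 .nil (.node 133 238 5 .nil .nil))) (.node 47 216 0 (.node 95 232 2 .nil (.node 107 234 2 .nil (.node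 132 237 5 .nil .nil))) (.node 93 232 0 .nil (.node 105 234 0 .nil (.node 117 237 0 .nil (.node 119 238 0 .nil (.node 120 239 1 .nil .nil)))))))))))))))))))))))))))

/-- Children of candidate 7. -/
def kids7 : Tr :=
  (.node 5 131 3 (.node 7 145 1 (.prune 60 (.prune 58 (.prune 61 (.prune 21 .nil)))) (.node 7 146 0 (.prune 59 (.prune 57 (.prune 61 (.prune 21 .nil)))) (.node 22 189 1 (.prune 39 (.prune 61 (.prune 9 .nil))) (.node 22 190 0 (.prune 38 (.prune 61 (.prune 9 .nil))) (.node 27 197 1 (.prune 61 (.prune 8 .nil)) (.node 27 198 0 (.prune 61 (.prune 8 .nil)) (.prune 61 (.node 41 212 0 (.prune 21 (.prune 9 .nil)) (.node 49 217 0 (.prune 8 .nil) (.node 93 232 0 .nil (.node 119 238 0 .nil (.node 120 239 1 .nil .nil)))))))))))) (.node 5 133 1 (.node 7 143 3 (.prune 60 (.prune 61 (.prune 58 (.prune 21 .nil)))) (.node 7 146 0 (.prune 56 (.prune 57 (.prune 58 (.prune 21 .nil)))) (.node 24 189 3 (.prune 39 (.prune 58 (.prune 9 .nil))) (.node 24 193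 0 (.prune 36 (.prune 58 (.prune 9 .nil))) (.node 27 194 3 (.prune 58 (.prune 8 .nil)) (.node 27 198 0 (.prune 58 (.prune 8 .nil)) (.prune 58 (.node 41 212 0 (.prune 21 (.prune 9 .nil)) (.node 46 215 0 (.prune 8 .nil) (.node 93 232 0 .nil (.node 114 236 0 .nil (.node 125 239 3 .nil .nil)))))))))))) (.node 5 134 0 (.node 7 143 3 (.prune 59 (.prune 61 (.prune 57 (.prune 21 .nil)))) (.node 7 145 1 (.prune 56 (.prune 58 (.prune 57 (.prune 21 .nil)))) (.node 25 190 3 (.prune 38 (.prune 57 (.prune 9 .nil))) (.node 25 193 1 (.prune 36 (.prune 57 (.prune 9 .nil))) (.node 27 194 3 (.prune 57 (.prune 8 .nil)) (.node 27 197 1 (.prune 57 (.prune 8 .nil)) (.prune 57 (.node 42 212 1 (.prune 21 (.prune 9 .nil)) (.node 46 214 1 (.prune 8 .nil) (.node 94 232 1 .nil (.node 115 236 1 .nil (.node 124 238 3 .nil .nil)))))))))))) (.node 7 141 5 (.prune 68 (.node 22 189 1 (.prune 29 (.prune 9 .nil)) (.node 22 190 0 (.prune 28 (.prune 9 .nil)) (.node 24 193 0 (.prune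 26 (.prune 9 .nil)) (.node 46 214 1 (.prune 6 .nil) (.node 46 215 0 (.prune 6 .nil) (.node 49 217 0 (.prune 6 .nil) (.node 114 236 0 .nil (.node 119 238 0 .nil (.node 120 239 1 .nil .nil)))))))))) (.node 7 143 3 (.node 22 189 1 (.prune 61 (.prune 29 (.prune 9 .nil))) (.node 22 190 0 (.prune 61 (.prune 28 (.prune 9 .nil))) (.prune 61 (.node 31 202 0 (.prune 21 (.prune 9 .nil)) (.node 37 207 1 (.prune 6 .nil) (.node 37 208 0 (.prune 6 .nil) (.node 49 217 0 (.prune 6 .nil) (.node 105 234 0 .nil (.node 119 238 0 .nil (.node 120 239 1 .nil .nil)))))))))) (.node 7 145 1 (.node 24 189 3 (.prune 58 (.prune 29 (.prune 9 .nil))) (.node 24 193 0 (.prune 58 (.prune 26 (.prune 9 .nil))) (.prune 58 (.node 31 202 0 (.prune 21 (.prune 9 .nil)) (.node 37 204 3 (.prune 6 .nil) (.node 37 208 0 (.prune 6 .nil) (.node 46 215 0 (.prune 6 .nil) (.node 105 234 0 .nil (.node 114 236 0 .nil (.node 125 239 3 .nil .nil)))))))))) (.node 7 146 0 (.node 25 190 3 (.prune 57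 (.prune 28 (.prune 9 .nil))) (.node 25 193 1 (.prune 57 (.prune 26 (.prune 9 .nil))) (.prune 57 (.node 32 202 1 (.prune 21 (.prune 9 .nil)) (.node 37 204 3 (.prune 6 .nil) (.node 37 207 1 (.prune 6 .nil) (.node 46 214 1 (.prune 6 .nil) (.node 106 234 1 .nil (.node 115 236 1 .nil (.node 124 238 3 .nil .nil)))))))))) (.node 27 185 5 (.node 22 189 1 (.prune 13 (.prune 9 .nil)) (.node 22 190 0 (.prune 12 (.prune 9 .nil)) (.node 24 193 0 (.prune 10 (.prune 9 .nil)) (.node 46 214 1 (.prune 2 .nil) (.node 46 215 0 (.prune 2 .nil) (.node 49 217 0 (.prune 2 .nil) (.node 114 236 0 .nil (.node 119 238 0 .nil (.node 120 239 1 .nil .nil))))))))) (.node 22 189 1 (.node 94 194 25 (.prune 13 (.prune 9 .nil)) (.node 96 197 25 (.prune 13 (.prune 9 .nil)) (.node 106 204 25 (.prune 9 .nil) (.node 108 207 25 (.prune 9 .nil) (.node 131 214 32 (.prune 9 .nil) (.prune 9 .nil)))))) (.node 22 190 0 (.node 93 194 24 (.prune 12 (.prune 9 .nil)) (.node 96 198 24 (.prune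 12 (.prune 9 .nil)) (.node 105 204 24 (.prune 9 .nil) (.node 108 208 24 (.prune 9 .nil) (.node 131 215 31 (.prune 9 .nil) (.prune 9 .nil)))))) (.node 24 193 0 (.node 93 197 22 (.prune 10 (.prune 9 .nil)) (.node 94 198 22 (.prune 10 (.prune 9 .nil)) (.node 105 207 22 (.prune 9 .nil) (.node 106 208 22 (.prune 9 .nil) (.node 133 217 31 (.prune 9 .nil) (.prune 9 .nil)))))) (.node 27 194 3 (.node 31 202 0 (.prune 8 (.prune 9 .nil)) (.node 37 207 1 (.prune 2 .nil) (.node 37 208 0 (.prune 2 .nil) (.node 49 217 0 (.prune 2 .nil) (.node 105 234 0 .nil (.node 119 238 0 .nil (.node 120 239 1 .nil .nil))))))) (.node 27 197 1 (.node 31 202 0 (.prune 8 (.prune 9 .nil)) (.node 37 204 3 (.prune 2 .nil) (.node 37 208 0 (.prune 2 .nil) (.node 46 215 0 (.prune 2 .nil) (.node 105 234 0 .nil (.node 114 236 0 .nil (.node 125 239 3 .nil .nil))))))) (.node 27 198 0 (.node 32 202 1 (.prune 8 (.prune 9 .nil)) (.node 37 204 3 (.prune 2 .nil) (.node 37 207 1 (.prune 2 .nil)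 (.node 46 214 1 (.prune 2 .nil) (.node 106 234 1 .nil (.node 115 236 1 .nil (.node 124 238 3 .nil .nil))))))) (.node 31 202 0 (.node 114 214 22 (.prune 9 .nil) (.node 115 215 22 (.prune 9 .nil) (.node 124 217 24 (.prune 9 .nil) (.prune 9 .nil)))) (.node 37 204 3 (.node 41 212 0 (.prune 6 (.prune 9 .nil)) (.node 49 217 0 (.prune 2 .nil) (.node 93 232 0 .nil (.node 119 238 0 .nil (.node 120 239 1 .nil .nil))))) (.node 37 207 1 (.node 41 212 0 (.prune 6 (.prune 9 .nil)) (.node 46 215 0 (.prune 2 .nil) (.node 93 232 0 .nil (.node 114 236 0 .nil (.node 125 239 3 .nil .nil))))) (.node 37 208 0 (.node 42 212 1 (.prune 6 (.prune 9 .nil)) (.node 46 214 1 (.prune 2 .nil) (.node 94 232 1 .nil (.node 115 236 1 .nil (.node 124 238 3 .nil .nil))))) (.node 41 212 0 (.node 114 214 22 (.prune 9 .nil) (.node 115 215 22 (.prune 9 .nil) (.node 124 217 24 (.prune 9 .nil) (.prune 9 .nil)))) (.node 46 214 1 (.node 93 232 0 .nil (.node 105 234 0 .nil (.node 134 239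 5 .nil .nil))) (.node 46 215 0 (.node 94 232 1 .nil (.node 106 234 1 .nil (.node 133 238 5 .nil .nil))) (.node 49 217 0 (.node 96 232 3 .nil (.node 108 234 3 .nil (.node 131 236 5 .nil .nil))) (.node 93 232 0 .nil (.node 105 234 0 .nil (.node 114 236 0 .nil (.node 119 238 0 .nil (.node 120 239 1 .nil .nil)))))))))))))))))))))))))))

/-- Children of candidate 8. -/
def kids8 : Tr :=
  (.node 5 131 3 (.node 7 144 2 (.prune 61 (.prune 58 (.prune 60 (.prune 21 .nil)))) (.node 7 146 0 (.prune 59 (.prune 56 (.prune 60 (.prune 21 .nil)))) (.node 22 188 2 (.prune 39 (.prune 60 (.prune 9 .nil))) (.node 22 190 0 (.prune 37 (.prune 60 (.prune 9 .nil))) (.node 28 197 2 (.prune 60 (.prune 8 .nil)) (.node 28 199 0 (.prune 60 (.prune 8 .nil)) (.prune 60 (.node 40 211 0 (.prune 21 (.prune 9 .nil)) (.node 49 217 0 (.prune 8 .nil) (.node 93 232 0 .nil (.node 117 237 0 .nil (.node 122 239 2 .nil .nil)))))))))))) (.node 5 132 2 (.node 7 143 3 (.prune 61 (.prune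 60 (.prune 58 (.prune 21 .nil)))) (.node 7 146 0 (.prune 57 (.prune 56 (.prune 58 (.prune 21 .nil)))) (.node 23 188 3 (.prune 39 (.prune 58 (.prune 9 .nil))) (.node 23 192 0 (.prune 36 (.prune 58 (.prune 9 .nil))) (.node 28 195 3 (.prune 58 (.prune 8 .nil)) (.node 28 199 0 (.prune 58 (.prune 8 .nil)) (.prune 58 (.node 40 211 0 (.prune 21 (.prune 9 .nil)) (.node 47 216 0 (.prune 8 .nil) (.node 93 232 0 .nil (.node 114 236 0 .nil (.node 125 239 3 .nil .nil)))))))))))) (.node 5 134 0 (.node 7 143 3 (.prune 59 (.prune 60 (.prune 56 (.prune 21 .nil)))) (.node 7 144 2 (.prune 57 (.prune 58 (.prune 56 (.prune 21 .nil)))) (.node 25 190 3 (.prune 37 (.prune 56 (.prune 9 .nil))) (.node 25 192 2 (.prune 36 (.prune 56 (.prune 9 .nil))) (.node 28 195 3 (.prune 56 (.prune 8 .nil)) (.node 28 197 2 (.prune 56 (.prune 8 .nil)) (.prune 56 (.node 42 211 2 (.prune 21 (.prune 9 .nil)) (.node 47 214 2 (.prune 8 .nil) (.node 95 232 2 .nil (.node 116 236 2 .nil (.node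 123 237 3 .nil .nil)))))))))))) (.node 7 141 5 (.prune 67 (.node 22 188 2 (.prune 29 (.prune 9 .nil)) (.node 22 190 0 (.prune 27 (.prune 9 .nil)) (.node 23 192 0 (.prune 26 (.prune 9 .nil)) (.node 47 214 2 (.prune 6 .nil) (.node 47 216 0 (.prune 6 .nil) (.node 49 217 0 (.prune 6 .nil) (.node 114 236 0 .nil (.node 117 237 0 .nil (.node 122 239 2 .nil .nil)))))))))) (.node 7 143 3 (.node 22 188 2 (.prune 60 (.prune 29 (.prune 9 .nil))) (.node 22 190 0 (.prune 60 (.prune 27 (.prune 9 .nil))) (.prune 60 (.node 30 201 0 (.prune 21 (.prune 9 .nil)) (.node 38 207 2 (.prune 6 .nil) (.node 38 209 0 (.prune 6 .nil) (.node 49 217 0 (.prune 6 .nil) (.node 105 234 0 .nil (.node 117 237 0 .nil (.node 122 239 2 .nil .nil)))))))))) (.node 7 144 2 (.node 23 188 3 (.prune 58 (.prune 29 (.prune 9 .nil))) (.node 23 192 0 (.prune 58 (.prune 26 (.prune 9 .nil))) (.prune 58 (.node 30 201 0 (.prune 21 (.prune 9 .nil)) (.node 38 205 3 (.prune 6 .nil) (.node 38 209 0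 (.prune 6 .nil) (.node 47 216 0 (.prune 6 .nil) (.node 105 234 0 .nil (.node 114 236 0 .nil (.node 125 239 3 .nil .nil)))))))))) (.node 7 146 0 (.node 25 190 3 (.prune 56 (.prune 27 (.prune 9 .nil))) (.node 25 192 2 (.prune 56 (.prune 26 (.prune 9 .nil))) (.prune 56 (.node 32 201 2 (.prune 21 (.prune 9 .nil)) (.node 38 205 3 (.prune 6 .nil) (.node 38 207 2 (.prune 6 .nil) (.node 47 214 2 (.prune 6 .nil) (.node 107 234 2 .nil (.node 116 236 2 .nil (.node 123 237 3 .nil .nil)))))))))) (.node 28 186 5 (.node 22 188 2 (.prune 13 (.prune 9 .nil)) (.node 22 190 0 (.prune 11 (.prune 9 .nil)) (.node 23 192 0 (.prune 10 (.prune 9 .nil)) (.node 47 214 2 (.prune 1 .nil) (.node 47 216 0 (.prune 1 .nil) (.node 49 217 0 (.prune 1 .nil) (.node 114 236 0 .nil (.node 117 237 0 .nil (.node 122 239 2 .nil .nil))))))))) (.node 22 188 2 (.node 95 195 25 (.prune 13 (.prune 9 .nil)) (.node 96 197 25 (.prune 13 (.prune 9 .nil)) (.node 107 205 25 (.prune 9 .nil) (.node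 108 207 25 (.prune 9 .nil) (.node 131 214 32 (.prune 9 .nil) (.prune 9 .nil)))))) (.node 22 190 0 (.node 93 195 23 (.prune 11 (.prune 9 .nil)) (.node 96 199 23 (.prune 11 (.prune 9 .nil)) (.node 105 205 23 (.prune 9 .nil) (.node 108 209 23 (.prune 9 .nil) (.node 131 216 30 (.prune 9 .nil) (.prune 9 .nil)))))) (.node 23 192 0 (.node 93 197 22 (.prune 10 (.prune 9 .nil)) (.node 95 199 22 (.prune 10 (.prune 9 .nil)) (.node 105 207 22 (.prune 9 .nil) (.node 107 209 22 (.prune 9 .nil) (.node 132 217 30 (.prune 9 .nil) (.prune 9 .nil)))))) (.node 28 195 3 (.node 30 201 0 (.prune 8 (.prune 9 .nil)) (.node 38 207 2 (.prune 1 .nil) (.node 38 209 0 (.prune 1 .nil) (.node 49 217 0 (.prune 1 .nil) (.node 105 234 0 .nil (.node 117 237 0 .nil (.node 122 239 2 .nil .nil))))))) (.node 28 197 2 (.node 30 201 0 (.prune 8 (.prune 9 .nil)) (.node 38 205 3 (.prune 1 .nil) (.node 38 209 0 (.prune 1 .nil) (.node 47 216 0 (.prune 1 .nil) (.node 105 234 0 .nil (.node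 114 236 0 .nil (.node 125 239 3 .nil .nil))))))) (.node 28 199 0 (.node 32 201 2 (.prune 8 (.prune 9 .nil)) (.node 38 205 3 (.prune 1 .nil) (.node 38 207 2 (.prune 1 .nil) (.node 47 214 2 (.prune 1 .nil) (.node 107 234 2 .nil (.node 116 236 2 .nil (.node 123 237 3 .nil .nil))))))) (.node 30 201 0 (.node 114 214 22 (.prune 9 .nil) (.node 116 216 22 (.prune 9 .nil) (.node 123 217 23 (.prune 9 .nil) (.prune 9 .nil)))) (.node 38 205 3 (.node 40 211 0 (.prune 6 (.prune 9 .nil)) (.node 49 217 0 (.prune 1 .nil) (.node 93 232 0 .nil (.node 117 237 0 .nil (.node 122 239 2 .nil .nil))))) (.node 38 207 2 (.node 40 211 0 (.prune 6 (.prune 9 .nil)) (.node 47 216 0 (.prune 1 .nil) (.node 93 232 0 .nil (.node 114 236 0 .nil (.node 125 239 3 .nil .nil))))) (.node 38 209 0 (.node 42 211 2 (.prune 6 (.prune 9 .nil)) (.node 47 214 2 (.prune 1 .nil) (.node 95 232 2 .nil (.node 116 236 2 .nil (.node 123 237 3 .nil .nil))))) (.node 40 211 0 (.node 114 214 22 (.prune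 9 .nil) (.node 116 216 22 (.prune 9 .nil) (.node 123 217 23 (.prune 9 .nil) (.prune 9 .nil)))) (.node 47 214 2 (.node 93 232 0 .nil (.node 105 234 0 .nil (.node 134 239 5 .nil .nil))) (.node 47 216 0 (.node 95 232 2 .nil (.node 107 234 2 .nil (.node 132 237 5 .nil .nil))) (.node 49 217 0 (.node 96 232 3 .nil (.node 108 234 3 .nil (.node 131 236 5 .nil .nil))) (.node 93 232 0 .nil (.node 105 234 0 .nil (.node 114 236 0 .nil (.node 117 237 0 .nil (.node 122 239 2 .nil .nil)))))))))))))))))))))))))))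

/-- Children of candidate 9. -/
def kids9 : Tr :=
  (.node 5 131 3 (.node 7 144 2 (.prune 61 (.prune 57 (.prune 59 (.prune 21 .nil)))) (.node 7 145 1 (.prune 60 (.prune 56 (.prune 59 (.prune 21 .nil)))) (.node 22 188 2 (.prune 38 (.prune 59 (.prune 9 .nil))) (.node 22 189 1 (.prune 37 (.prune 59 (.prune 9 .nil))) (.node 29 198 2 (.prune 59 (.prune 8 .nil)) (.node 29 199 1 (.prune 59 (.prune 8 .nil)) (.prune 59 (.node 40 210 1 (.prune 21 (.prune 9 .nil)) (.node 50 217 1 (.prune 8 .nil) (.node 94 232 1 .nil (.node 118 237 1 .nil (.node 121 238 2 .nil .nil)))))))))))) (.node 5 132 2 (.node 7 143 3 (.prune 61 (.prune 59 (.prune 57 (.prune 21 .nil)))) (.node 7 145 1 (.prune 58 (.prune 56 (.prune 57 (.prune 21 .nil)))) (.node 23 188 3 (.prune 38 (.prune 57 (.prune 9 .nil))) (.node 23 191 1 (.prune 36 (.prune 57 (.prune 9 .nil))) (.node 29 196 3 (.prune 57 (.prune 8 .nil)) (.node 29 199 1 (.prune 57 (.prune 8 .nil)) (.prune 57 (.node 40 210 1 (.prune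 21 (.prune 9 .nil)) (.node 48 216 1 (.prune 8 .nil) (.node 94 232 1 .nil (.node 115 236 1 .nil (.node 124 238 3 .nil .nil)))))))))))) (.node 5 133 1 (.node 7 143 3 (.prune 60 (.prune 59 (.prune 56 (.prune 21 .nil)))) (.node 7 144 2 (.prune 58 (.prune 57 (.prune 56 (.prune 21 .nil)))) (.node 24 189 3 (.prune 37 (.prune 56 (.prune 9 .nil))) (.node 24 191 2 (.prune 36 (.prune 56 (.prune 9 .nil))) (.node 29 196 3 (.prune 56 (.prune 8 .nil)) (.node 29 198 2 (.prune 56 (.prune 8 .nil)) (.prune 56 (.node 41 210 2 (.prune 21 (.prune 9 .nil)) (.node 48 215 2 (.prune 8 .nil) (.node 95 232 2 .nil (.node 116 236 2 .nil (.node 123 237 3 .nil .nil)))))))))))) (.node 7 141 5 (.prune 66 (.node 22 188 2 (.prune 28 (.prune 9 .nil)) (.node 22 189 1 (.prune 27 (.prune 9 .nil)) (.node 23 191 1 (.prune 26 (.prune 9 .nil)) (.node 48 215 2 (.prune 6 .nil) (.node 48 216 1 (.prune 6 .nil) (.node 50 217 1 (.prune 6 .nil) (.node 115 236 1 .nil (.node 118 237 1 .nil (.node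 121 238 2 .nil .nil)))))))))) (.node 7 143 3 (.node 22 188 2 (.prune 59 (.prune 28 (.prune 9 .nil))) (.node 22 189 1 (.prune 59 (.prune 27 (.prune 9 .nil))) (.prune 59 (.node 30 200 1 (.prune 21 (.prune 9 .nil)) (.node 39 208 2 (.prune 6 .nil) (.node 39 209 1 (.prune 6 .nil) (.node 50 217 1 (.prune 6 .nil) (.node 106 234 1 .nil (.node 118 237 1 .nil (.node 121 238 2 .nil .nil)))))))))) (.node 7 144 2 (.node 23 188 3 (.prune 57 (.prune 28 (.prune 9 .nil))) (.node 23 191 1 (.prune 57 (.prune 26 (.prune 9 .nil))) (.prune 57 (.node 30 200 1 (.prune 21 (.prune 9 .nil)) (.node 39 206 3 (.prune 6 .nil) (.node 39 209 1 (.prune 6 .nil) (.node 48 216 1 (.prune 6 .nil) (.node 106 234 1 .nil (.node 115 236 1 .nil (.node 124 238 3 .nil .nil)))))))))) (.node 7 145 1 (.node 24 189 3 (.prune 56 (.prune 27 (.prune 9 .nil))) (.node 24 191 2 (.prune 56 (.prune 26 (.prune 9 .nil))) (.prune 56 (.node 31 200 2 (.prune 21 (.prune 9 .nil)) (.node 39 206 3 (.prune 6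 .nil) (.node 39 208 2 (.prune 6 .nil) (.node 48 215 2 (.prune 6 .nil) (.node 107 234 2 .nil (.node 116 236 2 .nil (.node 123 237 3 .nil .nil)))))))))) (.node 29 187 5 (.node 22 188 2 (.prune 12 (.prune 9 .nil)) (.node 22 189 1 (.prune 11 (.prune 9 .nil)) (.node 23 191 1 (.prune 10 (.prune 9 .nil)) (.node 48 215 2 (.prune 0 .nil) (.node 48 216 1 (.prune 0 .nil) (.node 50 217 1 (.prune 0 .nil) (.node 115 236 1 .nil (.node 118 237 1 .nil (.node 121 238 2 .nil .nil))))))))) (.node 22 188 2 (.node 95 196 24 (.prune 12 (.prune 9 .nil)) (.node 96 198 24 (.prune 12 (.prune 9 .nil)) (.node 107 206 24 (.prune 9 .nil) (.node 108 208 24 (.prune 9 .nil) (.node 131 215 31 (.prune 9 .nil) (.prune 9 .nil)))))) (.node 22 189 1 (.node 94 196 23 (.prune 11 (.prune 9 .nil)) (.node 96 199 23 (.prune 11 (.prune 9 .nil)) (.node 106 206 23 (.prune 9 .nil) (.node 108 209 23 (.prune 9 .nil) (.node 131 216 30 (.prune 9 .nil) (.prune 9 .nil)))))) (.node 23 191 1 (.node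 94 198 22 (.prune 10 (.prune 9 .nil)) (.node 95 199 22 (.prune 10 (.prune 9 .nil)) (.node 106 208 22 (.prune 9 .nil) (.node 107 209 22 (.prune 9 .nil) (.node 132 217 30 (.prune 9 .nil) (.prune 9 .nil)))))) (.node 29 196 3 (.node 30 200 1 (.prune 8 (.prune 9 .nil)) (.node 39 208 2 (.prune 0 .nil) (.node 39 209 1 (.prune 0 .nil) (.node 50 217 1 (.prune 0 .nil) (.node 106 234 1 .nil (.node 118 237 1 .nil (.node 121 238 2 .nil .nil))))))) (.node 29 198 2 (.node 30 200 1 (.prune 8 (.prune 9 .nil)) (.node 39 206 3 (.prune 0 .nil) (.node 39 209 1 (.prune 0 .nil) (.node 48 216 1 (.prune 0 .nil) (.node 106 234 1 .nil (.node 115 236 1 .nil (.node 124 238 3 .nil .nil))))))) (.node 29 199 1 (.node 31 200 2 (.prune 8 (.prune 9 .nil)) (.node 39 206 3 (.prune 0 .nil) (.node 39 208 2 (.prune 0 .nil) (.node 48 215 2 (.prune 0 .nil) (.node 107 234 2 .nil (.node 116 236 2 .nil (.node 123 237 3 .nil .nil))))))) (.node 30 200 1 (.node 115 215 22 (.prune 9 .nil) (.node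 116 216 22 (.prune 9 .nil) (.node 123 217 23 (.prune 9 .nil) (.prune 9 .nil)))) (.node 39 206 3 (.node 40 210 1 (.prune 6 (.prune 9 .nil)) (.node 50 217 1 (.prune 0 .nil) (.node 94 232 1 .nil (.node 118 237 1 .nil (.node 121 238 2 .nil .nil))))) (.node 39 208 2 (.node 40 210 1 (.prune 6 (.prune 9 .nil)) (.node 48 216 1 (.prune 0 .nil) (.node 94 232 1 .nil (.node 115 236 1 .nil (.node 124 238 3 .nil .nil))))) (.node 39 209 1 (.node 41 210 2 (.prune 6 (.prune 9 .nil)) (.node 48 215 2 (.prune 0 .nil) (.node 95 232 2 .nil (.node 116 236 2 .nil (.node 123 237 3 .nil .nil))))) (.node 40 210 1 (.node 115 215 22 (.prune 9 .nil) (.node 116 216 22 (.prune 9 .nil) (.node 123 217 23 (.prune 9 .nil) (.prune 9 .nil)))) (.node 48 215 2 (.node 94 232 1 .nil (.node 106 234 1 .nil (.node 133 238 5 .nil .nil))) (.node 48 216 1 (.node 95 232 2 .nil (.node 107 234 2 .nil (.node 132 237 5 .nil .nil))) (.node 50 217 1 (.node 96 232 3 .nil (.node 108 234 3 .nil (.node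 131 236 5 .nil .nil))) (.node 94 232 1 .nil (.node 106 234 1 .nil (.node 115 236 1 .nil (.node 118 237 1 .nil (.node 121 238 2 .nil .nil)))))))))))))))))))))))))))

/-- Children of candidate 10. -/
def kids10 : Tr :=
  (.node 7 143 3 (.prune 65 (.node 30 200 1 (.prune 25 (.prune 8 .nil)) (.node 30 201 0 (.prune 24 (.prune 8 .nil)) (.node 31 202 0 (.prune 23 (.prune 8 .nil)) (.node 37 207 1 (.prune 6 .nil) (.node 37 208 0 (.prune 6 .nil) (.node 38 209 0 (.prune 6 .nil) (.node 117 237 0 .nil (.node 119 238 0 .nil (.node 120 239 1 .nil .nil)))))))))) (.node 7 144 2 (.prune 64 (.node 30 200 1 (.prune 25 (.prune 8 .nil)) (.node 30 201 0 (.prune 24 (.prune 8 .nil)) (.node 33 203 0 (.prune 22 (.prune 8 .nil)) (.node 36 205 1 (.prune 6 .nil) (.node 36 206 0 (.prune 6 .nil) (.node 38 209 0 (.prune 6 .nil) (.node 114 236 0 .nil (.node 119 238 0 .nil (.node 120 239 1 .nil .nil)))))))))) (.node 7 145 1 (.prune 63 (.node 31 200 2 (.prune 25 (.prune 8 .nil))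 (.node 31 202 0 (.prune 23 (.prune 8 .nil)) (.node 33 203 0 (.prune 22 (.prune 8 .nil)) (.node 36 204 2 (.prune 6 .nil) (.node 36 206 0 (.prune 6 .nil) (.node 37 208 0 (.prune 6 .nil) (.node 114 236 0 .nil (.node 117 237 0 .nil (.node 122 239 2 .nil .nil)))))))))) (.node 7 146 0 (.prune 62 (.node 32 201 2 (.prune 24 (.prune 8 .nil)) (.node 32 202 1 (.prune 23 (.prune 8 .nil)) (.node 34 203 1 (.prune 22 (.prune 8 .nil)) (.node 36 204 2 (.prune 6 .nil) (.node 36 205 1 (.prune 6 .nil) (.node 37 207 1 (.prune 6 .nil) (.node 115 236 1 .nil (.node 118 237 1 .nil (.node 121 238 2 .nil .nil)))))))))) (.node 21 184 3 (.node 30 200 1 (.prune 13 (.prune 8 .nil)) (.node 30 201 0 (.prune 12 (.prune 8 .nil)) (.node 31 202 0 (.prune 11 (.prune 8 .nil)) (.node 37 207 1 (.prune 4 .nil) (.node 37 208 0 (.prune 4 .nil) (.node 38 209 0 (.prune 4 .nil) (.node 117 237 0 .nil (.node 119 238 0 .nil (.node 120 239 1 .nil .nil))))))))) (.node 21 185 2 (.node 30 200 1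 (.prune 13 (.prune 8 .nil)) (.node 30 201 0 (.prune 12 (.prune 8 .nil)) (.node 33 203 0 (.prune 10 (.prune 8 .nil)) (.node 36 205 1 (.prune 4 .nil) (.node 36 206 0 (.prune 4 .nil) (.node 38 209 0 (.prune 4 .nil) (.node 114 236 0 .nil (.node 119 238 0 .nil (.node 120 239 1 .nil .nil))))))))) (.node 21 186 1 (.node 31 200 2 (.prune 13 (.prune 8 .nil)) (.node 31 202 0 (.prune 11 (.prune 8 .nil)) (.node 33 203 0 (.prune 10 (.prune 8 .nil)) (.node 36 204 2 (.prune 4 .nil) (.node 36 206 0 (.prune 4 .nil) (.node 37 208 0 (.prune 4 .nil) (.node 114 236 0 .nil (.node 117 237 0 .nil (.node 122 239 2 .nil .nil))))))))) (.node 21 187 0 (.node 32 201 2 (.prune 12 (.prune 8 .nil)) (.node 32 202 1 (.prune 11 (.prune 8 .nil)) (.node 34 203 1 (.prune 10 (.prune 8 .nil)) (.node 36 204 2 (.prune 4 .nil) (.node 36 205 1 (.prune 4 .nil) (.node 37 207 1 (.prune 4 .nil) (.node 115 236 1 .nil (.node 118 237 1 .nil (.node 121 238 2 .nil .nil))))))))) (.node 30 200 1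 (.node 115 204 32 (.prune 8 .nil) (.node 116 205 32 (.prune 8 .nil) (.node 123 207 34 (.prune 8 .nil) (.prune 8 .nil)))) (.node 30 201 0 (.node 114 204 31 (.prune 8 .nil) (.node 116 206 31 (.prune 8 .nil) (.node 123 208 33 (.prune 8 .nil) (.prune 8 .nil)))) (.node 31 202 0 (.node 114 205 30 (.prune 8 .nil) (.node 115 206 30 (.prune 8 .nil) (.node 124 209 33 (.prune 8 .nil) (.prune 8 .nil)))) (.node 33 203 0 (.node 117 207 30 (.prune 8 .nil) (.node 118 208 30 (.prune 8 .nil) (.node 121 209 31 (.prune 8 .nil) (.prune 8 .nil)))) (.node 36 204 2 (.node 38 209 0 (.prune 6 (.prune 4 .nil)) (.node 52 218 0 (.prune 8 .nil) (.node 93 232 0 .nil (.node 119 238 0 .nil (.node 120 239 1 .nil .nil))))) (.node 36 205 1 (.node 37 208 0 (.prune 6 (.prune 4 .nil)) (.node 52 218 0 (.prune 8 .nil) (.node 93 232 0 .nil (.node 117 237 0 .nil (.node 122 239 2 .nil .nil))))) (.node 36 206 0 (.node 37 207 1 (.prune 6 (.prune 4 .nil)) (.node 53 218 1 (.prune 8 .nil) (.node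 94 232 1 .nil (.node 118 237 1 .nil (.node 121 238 2 .nil .nil))))) (.node 37 207 1 (.node 52 218 0 (.prune 8 .nil) (.node 93 232 0 .nil (.node 114 236 0 .nil (.node 125 239 3 .nil .nil)))) (.node 37 208 0 (.node 53 218 1 (.prune 8 .nil) (.node 94 232 1 .nil (.node 115 236 1 .nil (.node 124 238 3 .nil .nil)))) (.node 38 209 0 (.node 54 218 2 (.prune 8 .nil) (.node 95 232 2 .nil (.node 116 236 2 .nil (.node 123 237 3 .nil .nil)))) (.node 52 218 0 (.prune 8 .nil) (.node 93 232 0 .nil (.node 114 236 0 .nil (.node 117 237 0 .nil (.node 119 238 0 .nil (.node 120 239 1 .nil .nil))))))))))))))))))))))))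

/-- Children of candidate 11. -/
def kids11 : Tr :=
  (.node 7 142 4 (.prune 65 (.node 27 197 1 (.prune 25 (.prune 8 .nil)) (.node 27 198 0 (.prune 24 (.prune 8 .nil)) (.node 28 199 0 (.prune 23 (.prune 8 .nil)) (.node 40 210 1 (.prune 6 .nil) (.node 40 211 0 (.prune 6 .nil) (.node 41 212 0 (.prune 6 .nil) (.node 117 237 0 .nil (.node 119 238 0 .nil (.node 120 239 1 .nil .nil)))))))))) (.node 7 144 2 (.prune 61 (.node 27 197 1 (.prune 25 (.prune 8 .nil)) (.node 27 198 0 (.prune 24 (.prune 8 .nil)) (.node 33 203 0 (.prune 21 (.prune 8 .nil)) (.node 36 205 1 (.prune 6 .nil) (.node 36 206 0 (.prune 6 .nil) (.node 41 212 0 (.prune 6 .nil) (.node 110 235 0 .nil (.node 119 238 0 .nil (.node 120 239 1 .nil .nil)))))))))) (.node 7 145 1 (.prune 60 (.node 28 197 2 (.prune 25 (.prune 8 .nil)) (.node 28 199 0 (.prune 23 (.prune 8 .nil)) (.node 33 203 0 (.prune 21 (.prune 8 .nil)) (.node 36 204 2 (.prune 6 .nil) (.node 36 206 0 (.prune 6 .nil) (.node 40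 211 0 (.prune 6 .nil) (.node 110 235 0 .nil (.node 117 237 0 .nil (.node 122 239 2 .nil .nil)))))))))) (.node 7 146 0 (.prune 59 (.node 29 198 2 (.prune 24 (.prune 8 .nil)) (.node 29 199 1 (.prune 23 (.prune 8 .nil)) (.node 34 203 1 (.prune 21 (.prune 8 .nil)) (.node 36 204 2 (.prune 6 .nil) (.node 36 205 1 (.prune 6 .nil) (.node 40 210 1 (.prune 6 .nil) (.node 111 235 1 .nil (.node 118 237 1 .nil (.node 121 238 2 .nil .nil)))))))))) (.node 22 184 4 (.node 27 197 1 (.prune 13 (.prune 8 .nil)) (.node 27 198 0 (.prune 12 (.prune 8 .nil)) (.node 28 199 0 (.prune 11 (.prune 8 .nil)) (.node 40 210 1 (.prune 3 .nil) (.node 40 211 0 (.prune 3 .nil) (.node 41 212 0 (.prune 3 .nil) (.node 117 237 0 .nil (.node 119 238 0 .nil (.node 120 239 1 .nil .nil))))))))) (.node 22 188 2 (.node 27 197 1 (.prune 13 (.prune 8 .nil)) (.node 27 198 0 (.prune 12 (.prune 8 .nil)) (.node 33 203 0 (.prune 9 (.prune 8 .nil)) (.node 36 205 1 (.prune 3 .nil) (.node 36 206 0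 (.prune 3 .nil) (.node 41 212 0 (.prune 3 .nil) (.node 110 235 0 .nil (.node 119 238 0 .nil (.node 120 239 1 .nil .nil))))))))) (.node 22 189 1 (.node 28 197 2 (.prune 13 (.prune 8 .nil)) (.node 28 199 0 (.prune 11 (.prune 8 .nil)) (.node 33 203 0 (.prune 9 (.prune 8 .nil)) (.node 36 204 2 (.prune 3 .nil) (.node 36 206 0 (.prune 3 .nil) (.node 40 211 0 (.prune 3 .nil) (.node 110 235 0 .nil (.node 117 237 0 .nil (.node 122 239 2 .nil .nil))))))))) (.node 22 190 0 (.node 29 198 2 (.prune 12 (.prune 8 .nil)) (.node 29 199 1 (.prune 11 (.prune 8 .nil)) (.node 34 203 1 (.prune 9 (.prune 8 .nil)) (.node 36 204 2 (.prune 3 .nil) (.node 36 205 1 (.prune 3 .nil) (.node 40 210 1 (.prune 3 .nil) (.node 111 235 1 .nil (.node 118 237 1 .nil (.node 121 238 2 .nil .nil))))))))) (.node 27 197 1 (.node 111 204 29 (.prune 8 .nil) (.node 112 205 29 (.prune 8 .nil) (.node 127 210 34 (.prune 8 .nil) (.prune 8 .nil)))) (.node 27 198 0 (.node 110 204 28 (.prune 8 .nil)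 (.node 112 206 28 (.prune 8 .nil) (.node 127 211 33 (.prune 8 .nil) (.prune 8 .nil)))) (.node 28 199 0 (.node 110 205 27 (.prune 8 .nil) (.node 111 206 27 (.prune 8 .nil) (.node 128 212 33 (.prune 8 .nil) (.prune 8 .nil)))) (.node 33 203 0 (.node 117 210 27 (.prune 8 .nil) (.node 118 211 27 (.prune 8 .nil) (.node 121 212 28 (.prune 8 .nil) (.prune 8 .nil)))) (.node 36 204 2 (.node 41 212 0 (.prune 6 (.prune 3 .nil)) (.node 49 217 0 (.prune 8 .nil) (.node 93 232 0 .nil (.node 119 238 0 .nil (.node 120 239 1 .nil .nil))))) (.node 36 205 1 (.node 40 211 0 (.prune 6 (.prune 3 .nil)) (.node 49 217 0 (.prune 8 .nil) (.node 93 232 0 .nil (.node 117 237 0 .nil (.node 122 239 2 .nil .nil))))) (.node 36 206 0 (.node 40 210 1 (.prune 6 (.prune 3 .nil)) (.node 50 217 1 (.prune 8 .nil) (.node 94 232 1 .nil (.node 118 237 1 .nil (.node 121 238 2 .nil .nil))))) (.node 40 210 1 (.node 49 217 0 (.prune 8 .nil) (.node 93 232 0 .nil (.node 110 235 0 .nil (.node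 129 239 4 .nil .nil)))) (.node 40 211 0 (.node 50 217 1 (.prune 8 .nil) (.node 94 232 1 .nil (.node 111 235 1 .nil (.node 128 238 4 .nil .nil)))) (.node 41 212 0 (.node 51 217 2 (.prune 8 .nil) (.node 95 232 2 .nil (.node 112 235 2 .nil (.node 127 237 4 .nil .nil)))) (.node 49 217 0 (.prune 8 .nil) (.node 93 232 0 .nil (.node 110 235 0 .nil (.node 117 237 0 .nil (.node 119 238 0 .nil (.node 120 239 1 .nil .nil))))))))))))))))))))))))

/-- Children of candidate 12. -/
def kids12 : Tr :=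
  (.node 7 142 4 (.prune 64 (.node 26 195 1 (.prune 25 (.prune 8 .nil)) (.node 26 196 0 (.prune 24 (.prune 8 .nil)) (.node 28 199 0 (.prune 22 (.prune 8 .nil)) (.node 40 210 1 (.prune 6 .nil) (.node 40 211 0 (.prune 6 .nil) (.node 43 213 0 (.prune 6 .nil) (.node 114 236 0 .nil (.node 119 238 0 .nil (.node 120 239 1 .nil .nil)))))))))) (.node 7 143 3 (.prune 61 (.node 26 195 1 (.prune 25 (.prune 8 .nil)) (.node 26 196 0 (.prune 24 (.prune 8 .nil)) (.node 31 202 0 (.prune 21 (.prune 8 .nil)) (.node 37 207 1 (.prune 6 .nil) (.node 37 208 0 (.prune 6 .nil) (.node 43 213 0 (.prune 6 .nil) (.node 110 235 0 .nil (.node 119 238 0 .nil (.node 120 239 1 .nil .nil)))))))))) (.node 7 145 1 (.prune 58 (.node 28 195 3 (.prune 25 (.prune 8 .nil)) (.node 28 199 0 (.prune 22 (.prune 8 .nil)) (.node 31 202 0 (.prune 21 (.prune 8 .nil)) (.node 37 204 3 (.prune 6 .nil) (.node 37 208 0 (.prune 6 .nil) (.node 40 211 0 (.prune 6 .nil) (.node 110 235 0 .nil (.node 114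 236 0 .nil (.node 125 239 3 .nil .nil)))))))))) (.node 7 146 0 (.prune 57 (.node 29 196 3 (.prune 24 (.prune 8 .nil)) (.node 29 199 1 (.prune 22 (.prune 8 .nil)) (.node 32 202 1 (.prune 21 (.prune 8 .nil)) (.node 37 204 3 (.prune 6 .nil) (.node 37 207 1 (.prune 6 .nil) (.node 40 210 1 (.prune 6 .nil) (.node 111 235 1 .nil (.node 115 236 1 .nil (.node 124 238 3 .nil .nil)))))))))) (.node 23 185 4 (.node 26 195 1 (.prune 13 (.prune 8 .nil)) (.node 26 196 0 (.prune 12 (.prune 8 .nil)) (.node 28 199 0 (.prune 10 (.prune 8 .nil)) (.node 40 210 1 (.prune 2 .nil) (.node 40 211 0 (.prune 2 .nil) (.node 43 213 0 (.prune 2 .nil) (.node 114 236 0 .nil (.node 119 238 0 .nil (.node 120 239 1 .nil .nil))))))))) (.node 23 188 3 (.node 26 195 1 (.prune 13 (.prune 8 .nil)) (.node 26 196 0 (.prune 12 (.prune 8 .nil)) (.node 31 202 0 (.prune 9 (.prune 8 .nil)) (.node 37 207 1 (.prune 2 .nil) (.node 37 208 0 (.prune 2 .nil) (.node 43 213 0 (.prune 2 .nil) (.node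 110 235 0 .nil (.node 119 238 0 .nil (.node 120 239 1 .nil .nil))))))))) (.node 23 191 1 (.node 28 195 3 (.prune 13 (.prune 8 .nil)) (.node 28 199 0 (.prune 10 (.prune 8 .nil)) (.node 31 202 0 (.prune 9 (.prune 8 .nil)) (.node 37 204 3 (.prune 2 .nil) (.node 37 208 0 (.prune 2 .nil) (.node 40 211 0 (.prune 2 .nil) (.node 110 235 0 .nil (.node 114 236 0 .nil (.node 125 239 3 .nil .nil))))))))) (.node 23 192 0 (.node 29 196 3 (.prune 12 (.prune 8 .nil)) (.node 29 199 1 (.prune 10 (.prune 8 .nil)) (.node 32 202 1 (.prune 9 (.prune 8 .nil)) (.node 37 204 3 (.prune 2 .nil) (.node 37 207 1 (.prune 2 .nil) (.node 40 210 1 (.prune 2 .nil) (.node 111 235 1 .nil (.node 115 236 1 .nil (.node 124 238 3 .nil .nil))))))))) (.node 26 195 1 (.node 111 204 29 (.prune 8 .nil) (.node 113 207 29 (.prune 8 .nil) (.node 126 210 32 (.prune 8 .nil) (.prune 8 .nil)))) (.node 26 196 0 (.node 110 204 28 (.prune 8 .nil) (.node 113 208 28 (.prune 8 .nil) (.node 126 211 31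 (.prune 8 .nil) (.prune 8 .nil)))) (.node 28 199 0 (.node 110 207 26 (.prune 8 .nil) (.node 111 208 26 (.prune 8 .nil) (.node 128 213 31 (.prune 8 .nil) (.prune 8 .nil)))) (.node 31 202 0 (.node 114 210 26 (.prune 8 .nil) (.node 115 211 26 (.prune 8 .nil) (.node 124 213 28 (.prune 8 .nil) (.prune 8 .nil)))) (.node 37 204 3 (.node 43 213 0 (.prune 6 (.prune 2 .nil)) (.node 47 216 0 (.prune 8 .nil) (.node 93 232 0 .nil (.node 119 238 0 .nil (.node 120 239 1 .nil .nil))))) (.node 37 207 1 (.node 40 211 0 (.prune 6 (.prune 2 .nil)) (.node 47 216 0 (.prune 8 .nil) (.node 93 232 0 .nil (.node 114 236 0 .nil (.node 125 239 3 .nil .nil))))) (.node 37 208 0 (.node 40 210 1 (.prune 6 (.prune 2 .nil)) (.node 48 216 1 (.prune 8 .nil) (.node 94 232 1 .nil (.node 115 236 1 .nil (.node 124 238 3 .nil .nil))))) (.node 40 210 1 (.node 47 216 0 (.prune 8 .nil) (.node 93 232 0 .nil (.node 110 235 0 .nil (.node 129 239 4 .nil .nil)))) (.node 40 211 0 (.node 48 216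 1 (.prune 8 .nil) (.node 94 232 1 .nil (.node 111 235 1 .nil (.node 128 238 4 .nil .nil)))) (.node 43 213 0 (.node 51 216 3 (.prune 8 .nil) (.node 96 232 3 .nil (.node 113 235 3 .nil (.node 126 236 4 .nil .nil)))) (.node 47 216 0 (.prune 8 .nil) (.node 93 232 0 .nil (.node 110 235 0 .nil (.node 114 236 0 .nil (.node 119 238 0 .nil (.node 120 239 1 .nil .nil))))))))))))))))))))))))

/-- Children of candidate 13. -/
def kids13 : Tr :=
  (.node 7 142 4 (.prune 63 (.node 26 194 2 (.prune 25 (.prune 8 .nil)) (.node 26 196 0 (.prune 23 (.prune 8 .nil)) (.node 27 198 0 (.prune 22 (.prune 8 .nil)) (.node 41 210 2 (.prune 6 .nil) (.node 41 212 0 (.prune 6 .nil) (.node 43 213 0 (.prune 6 .nil) (.node 114 236 0 .nil (.node 117 237 0 .nil (.node 122 239 2 .nil .nil)))))))))) (.node 7 143 3 (.prune 60 (.node 26 194 2 (.prune 25 (.prune 8 .nil)) (.node 26 196 0 (.prune 23 (.prune 8 .nil)) (.node 30 201 0 (.prune 21 (.prune 8 .nil)) (.node 38 207 2 (.prune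 6 .nil) (.node 38 209 0 (.prune 6 .nil) (.node 43 213 0 (.prune 6 .nil) (.node 110 235 0 .nil (.node 117 237 0 .nil (.node 122 239 2 .nil .nil)))))))))) (.node 7 144 2 (.prune 58 (.node 27 194 3 (.prune 25 (.prune 8 .nil)) (.node 27 198 0 (.prune 22 (.prune 8 .nil)) (.node 30 201 0 (.prune 21 (.prune 8 .nil)) (.node 38 205 3 (.prune 6 .nil) (.node 38 209 0 (.prune 6 .nil) (.node 41 212 0 (.prune 6 .nil) (.node 110 235 0 .nil (.node 114 236 0 .nil (.node 125 239 3 .nil .nil)))))))))) (.node 7 146 0 (.prune 56 (.node 29 196 3 (.prune 23 (.prune 8 .nil)) (.node 29 198 2 (.prune 22 (.prune 8 .nil)) (.node 32 201 2 (.prune 21 (.prune 8 .nil)) (.node 38 205 3 (.prune 6 .nil) (.node 38 207 2 (.prune 6 .nil) (.node 41 210 2 (.prune 6 .nil) (.node 112 235 2 .nil (.node 116 236 2 .nil (.node 123 237 3 .nil .nil)))))))))) (.node 24 186 4 (.node 26 194 2 (.prune 13 (.prune 8 .nil)) (.node 26 196 0 (.prune 11 (.prune 8 .nil)) (.node 27 198 0 (.prune 10 (.prune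 8 .nil)) (.node 41 210 2 (.prune 1 .nil) (.node 41 212 0 (.prune 1 .nil) (.node 43 213 0 (.prune 1 .nil) (.node 114 236 0 .nil (.node 117 237 0 .nil (.node 122 239 2 .nil .nil))))))))) (.node 24 189 3 (.node 26 194 2 (.prune 13 (.prune 8 .nil)) (.node 26 196 0 (.prune 11 (.prune 8 .nil)) (.node 30 201 0 (.prune 9 (.prune 8 .nil)) (.node 38 207 2 (.prune 1 .nil) (.node 38 209 0 (.prune 1 .nil) (.node 43 213 0 (.prune 1 .nil) (.node 110 235 0 .nil (.node 117 237 0 .nil (.node 122 239 2 .nil .nil))))))))) (.node 24 191 2 (.node 27 194 3 (.prune 13 (.prune 8 .nil)) (.node 27 198 0 (.prune 10 (.prune 8 .nil)) (.node 30 201 0 (.prune 9 (.prune 8 .nil)) (.node 38 205 3 (.prune 1 .nil) (.node 38 209 0 (.prune 1 .nil) (.node 41 212 0 (.prune 1 .nil) (.node 110 235 0 .nil (.node 114 236 0 .nil (.node 125 239 3 .nil .nil))))))))) (.node 24 193 0 (.node 29 196 3 (.prune 11 (.prune 8 .nil)) (.node 29 198 2 (.prune 10 (.prune 8 .nil)) (.node 32 201 2 (.prune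 9 (.prune 8 .nil)) (.node 38 205 3 (.prune 1 .nil) (.node 38 207 2 (.prune 1 .nil) (.node 41 210 2 (.prune 1 .nil) (.node 112 235 2 .nil (.node 116 236 2 .nil (.node 123 237 3 .nil .nil))))))))) (.node 26 194 2 (.node 112 205 29 (.prune 8 .nil) (.node 113 207 29 (.prune 8 .nil) (.node 126 210 32 (.prune 8 .nil) (.prune 8 .nil)))) (.node 26 196 0 (.node 110 205 27 (.prune 8 .nil) (.node 113 209 27 (.prune 8 .nil) (.node 126 212 30 (.prune 8 .nil) (.prune 8 .nil)))) (.node 27 198 0 (.node 110 207 26 (.prune 8 .nil) (.node 112 209 26 (.prune 8 .nil) (.node 127 213 30 (.prune 8 .nil) (.prune 8 .nil)))) (.node 30 201 0 (.node 114 210 26 (.prune 8 .nil) (.node 116 212 26 (.prune 8 .nil) (.node 123 213 27 (.prune 8 .nil) (.prune 8 .nil)))) (.node 38 205 3 (.node 43 213 0 (.prune 6 (.prune 1 .nil)) (.node 46 215 0 (.prune 8 .nil) (.node 93 232 0 .nil (.node 117 237 0 .nil (.node 122 239 2 .nil .nil))))) (.node 38 207 2 (.node 41 212 0 (.prune 6 (.prune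 1 .nil)) (.node 46 215 0 (.prune 8 .nil) (.node 93 232 0 .nil (.node 114 236 0 .nil (.node 125 239 3 .nil .nil))))) (.node 38 209 0 (.node 41 210 2 (.prune 6 (.prune 1 .nil)) (.node 48 215 2 (.prune 8 .nil) (.node 95 232 2 .nil (.node 116 236 2 .nil (.node 123 237 3 .nil .nil))))) (.node 41 210 2 (.node 46 215 0 (.prune 8 .nil) (.node 93 232 0 .nil (.node 110 235 0 .nil (.node 129 239 4 .nil .nil)))) (.node 41 212 0 (.node 48 215 2 (.prune 8 .nil) (.node 95 232 2 .nil (.node 112 235 2 .nil (.node 127 237 4 .nil .nil)))) (.node 43 213 0 (.node 50 215 3 (.prune 8 .nil) (.node 96 232 3 .nil (.node 113 235 3 .nil (.node 126 236 4 .nil .nil)))) (.node 46 215 0 (.prune 8 .nil) (.node 93 232 0 .nil (.node 110 235 0 .nil (.node 114 236 0 .nil (.node 117 237 0 .nil (.node 122 239 2 .nil .nil))))))))))))))))))))))))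

/-- Children of candidate 14. -/
def kids14 : Tr :=
  (.node 7 142 4 (.prune 62 (.node 26 194 2 (.prune 24 (.prune 8 .nil)) (.node 26 195 1 (.prune 23 (.prune 8 .nil)) (.node 27 197 1 (.prune 22 (.prune 8 .nil)) (.node 42 211 2 (.prune 6 .nil) (.node 42 212 1 (.prune 6 .nil) (.node 44 213 1 (.prune 6 .nil) (.node 115 236 1 .nil (.node 118 237 1 .nil (.node 121 238 2 .nil .nil)))))))))) (.node 7 143 3 (.prune 59 (.node 26 194 2 (.prune 24 (.prune 8 .nil)) (.node 26 195 1 (.prune 23 (.prune 8 .nil)) (.node 30 200 1 (.prune 21 (.prune 8 .nil)) (.node 39 208 2 (.prune 6 .nil) (.node 39 209 1 (.prune 6 .nil) (.node 44 213 1 (.prune 6 .nil) (.node 111 235 1 .nil (.node 118 237 1 .nil (.node 121 238 2 .nil .nil)))))))))) (.node 7 144 2 (.prune 57 (.node 27 194 3 (.prune 24 (.prune 8 .nil)) (.node 27 197 1 (.prune 22 (.prune 8 .nil)) (.node 30 200 1 (.prune 21 (.prune 8 .nil)) (.node 39 206 3 (.prune 6 .nil) (.node 39 209 1 (.prune 6 .nil) (.node 42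 212 1 (.prune 6 .nil) (.node 111 235 1 .nil (.node 115 236 1 .nil (.node 124 238 3 .nil .nil)))))))))) (.node 7 145 1 (.prune 56 (.node 28 195 3 (.prune 23 (.prune 8 .nil)) (.node 28 197 2 (.prune 22 (.prune 8 .nil)) (.node 31 200 2 (.prune 21 (.prune 8 .nil)) (.node 39 206 3 (.prune 6 .nil) (.node 39 208 2 (.prune 6 .nil) (.node 42 211 2 (.prune 6 .nil) (.node 112 235 2 .nil (.node 116 236 2 .nil (.node 123 237 3 .nil .nil)))))))))) (.node 25 187 4 (.node 26 194 2 (.prune 12 (.prune 8 .nil)) (.node 26 195 1 (.prune 11 (.prune 8 .nil)) (.node 27 197 1 (.prune 10 (.prune 8 .nil)) (.node 42 211 2 (.prune 0 .nil) (.node 42 212 1 (.prune 0 .nil) (.node 44 213 1 (.prune 0 .nil) (.node 115 236 1 .nil (.node 118 237 1 .nil (.node 121 238 2 .nil .nil))))))))) (.node 25 190 3 (.node 26 194 2 (.prune 12 (.prune 8 .nil)) (.node 26 195 1 (.prune 11 (.prune 8 .nil)) (.node 30 200 1 (.prune 9 (.prune 8 .nil)) (.node 39 208 2 (.prune 0 .nil) (.node 39 209 1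 (.prune 0 .nil) (.node 44 213 1 (.prune 0 .nil) (.node 111 235 1 .nil (.node 118 237 1 .nil (.node 121 238 2 .nil .nil))))))))) (.node 25 192 2 (.node 27 194 3 (.prune 12 (.prune 8 .nil)) (.node 27 197 1 (.prune 10 (.prune 8 .nil)) (.node 30 200 1 (.prune 9 (.prune 8 .nil)) (.node 39 206 3 (.prune 0 .nil) (.node 39 209 1 (.prune 0 .nil) (.node 42 212 1 (.prune 0 .nil) (.node 111 235 1 .nil (.node 115 236 1 .nil (.node 124 238 3 .nil .nil))))))))) (.node 25 193 1 (.node 28 195 3 (.prune 11 (.prune 8 .nil)) (.node 28 197 2 (.prune 10 (.prune 8 .nil)) (.node 31 200 2 (.prune 9 (.prune 8 .nil)) (.node 39 206 3 (.prune 0 .nil) (.node 39 208 2 (.prune 0 .nil) (.node 42 211 2 (.prune 0 .nil) (.node 112 235 2 .nil (.node 116 236 2 .nil (.node 123 237 3 .nil .nil))))))))) (.node 26 194 2 (.node 112 206 28 (.prune 8 .nil) (.node 113 208 28 (.prune 8 .nil) (.node 126 211 31 (.prune 8 .nil) (.prune 8 .nil)))) (.node 26 195 1 (.node 111 206 27 (.prune 8 .nil)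 (.node 113 209 27 (.prune 8 .nil) (.node 126 212 30 (.prune 8 .nil) (.prune 8 .nil)))) (.node 27 197 1 (.node 111 208 26 (.prune 8 .nil) (.node 112 209 26 (.prune 8 .nil) (.node 127 213 30 (.prune 8 .nil) (.prune 8 .nil)))) (.node 30 200 1 (.node 115 211 26 (.prune 8 .nil) (.node 116 212 26 (.prune 8 .nil) (.node 123 213 27 (.prune 8 .nil) (.prune 8 .nil)))) (.node 39 206 3 (.node 44 213 1 (.prune 6 (.prune 0 .nil)) (.node 46 214 1 (.prune 8 .nil) (.node 94 232 1 .nil (.node 118 237 1 .nil (.node 121 238 2 .nil .nil))))) (.node 39 208 2 (.node 42 212 1 (.prune 6 (.prune 0 .nil)) (.node 46 214 1 (.prune 8 .nil) (.node 94 232 1 .nil (.node 115 236 1 .nil (.node 124 238 3 .nil .nil))))) (.node 39 209 1 (.node 42 211 2 (.prune 6 (.prune 0 .nil)) (.node 47 214 2 (.prune 8 .nil) (.node 95 232 2 .nil (.node 116 236 2 .nil (.node 123 237 3 .nil .nil))))) (.node 42 211 2 (.node 46 214 1 (.prune 8 .nil) (.node 94 232 1 .nil (.node 111 235 1 .nil (.node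 128 238 4 .nil .nil)))) (.node 42 212 1 (.node 47 214 2 (.prune 8 .nil) (.node 95 232 2 .nil (.node 112 235 2 .nil (.node 127 237 4 .nil .nil)))) (.node 44 213 1 (.node 49 214 3 (.prune 8 .nil) (.node 96 232 3 .nil (.node 113 235 3 .nil (.node 126 236 4 .nil .nil)))) (.node 46 214 1 (.prune 8 .nil) (.node 94 232 1 .nil (.node 111 235 1 .nil (.node 115 236 1 .nil (.node 118 237 1 .nil (.node 121 238 2 .nil .nil))))))))))))))))))))))))

/-- Children of candidate 15. -/
def kids15 : Tr :=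
  (.node 21 184 3 (.node 23 191 1 (.prune 13 (.prune 5 .nil)) (.node 23 192 0 (.prune 12 (.prune 5 .nil)) (.node 24 193 0 (.prune 11 (.prune 5 .nil)) (.node 46 214 1 (.prune 6 .nil) (.node 46 215 0 (.prune 6 .nil) (.node 47 216 0 (.prune 6 .nil) (.node 117 237 0 .nil (.node 119 238 0 .nil (.node 120 239 1 .nil .nil))))))))) (.node 21 185 2 (.node 22 189 1 (.prune 13 (.prune 5 .nil)) (.node 22 190 0 (.prune 12 (.prune 5 .nil)) (.node 24 193 0 (.prune 10 (.prune 5 .nil)) (.node 46 214 1 (.prune 6 .nil) (.node 46 215 0 (.prune 6 .nil) (.node 49 217 0 (.prune 6 .nil) (.node 114 236 0 .nil (.node 119 238 0 .nil (.node 120 239 1 .nil .nil))))))))) (.node 21 186 1 (.node 22 188 2 (.prune 13 (.prune 5 .nil)) (.node 22 190 0 (.prune 11 (.prune 5 .nil)) (.node 23 192 0 (.prune 10 (.prune 5 .nil)) (.node 47 214 2 (.prune 6 .nil) (.node 47 216 0 (.prune 6 .nil) (.node 49 217 0 (.prune 6 .nil) (.node 114 236 0 .nil (.node 117 237 0 .nil (.node 122 239 2 .nil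 .nil))))))))) (.node 21 187 0 (.node 22 188 2 (.prune 12 (.prune 5 .nil)) (.node 22 189 1 (.prune 11 (.prune 5 .nil)) (.node 23 191 1 (.prune 10 (.prune 5 .nil)) (.node 48 215 2 (.prune 6 .nil) (.node 48 216 1 (.prune 6 .nil) (.node 50 217 1 (.prune 6 .nil) (.node 115 236 1 .nil (.node 118 237 1 .nil (.node 121 238 2 .nil .nil))))))))) (.node 22 188 2 (.node 24 193 0 (.prune 9 (.prune 5 .nil)) (.node 46 214 1 (.prune 6 .nil) (.node 46 215 0 (.prune 6 .nil) (.node 52 218 0 (.prune 6 .nil) (.node 110 235 0 .nil (.node 119 238 0 .nil (.node 120 239 1 .nil .nil))))))) (.node 22 189 1 (.node 23 192 0 (.prune 9 (.prune 5 .nil)) (.node 47 214 2 (.prune 6 .nil) (.node 47 216 0 (.prune 6 .nil) (.node 52 218 0 (.prune 6 .nil) (.node 110 235 0 .nil (.node 117 237 0 .nil (.node 122 239 2 .nil .nil))))))) (.node 22 190 0 (.node 23 191 1 (.prune 9 (.prune 5 .nil)) (.node 48 215 2 (.prune 6 .nil) (.node 48 216 1 (.prune 6 .nil) (.node 53 218 1 (.prune 6 .nil)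 (.node 111 235 1 .nil (.node 118 237 1 .nil (.node 121 238 2 .nil .nil))))))) (.node 23 191 1 (.node 49 214 3 (.prune 6 .nil) (.node 49 217 0 (.prune 6 .nil) (.node 52 218 0 (.prune 6 .nil) (.node 110 235 0 .nil (.node 114 236 0 .nil (.node 125 239 3 .nil .nil)))))) (.node 23 192 0 (.node 50 215 3 (.prune 6 .nil) (.node 50 217 1 (.prune 6 .nil) (.node 53 218 1 (.prune 6 .nil) (.node 111 235 1 .nil (.node 115 236 1 .nil (.node 124 238 3 .nil .nil)))))) (.node 24 193 0 (.node 51 216 3 (.prune 6 .nil) (.node 51 217 2 (.prune 6 .nil) (.node 54 218 2 (.prune 6 .nil) (.node 112 235 2 .nil (.node 116 236 2 .nil (.node 123 237 3 .nil .nil)))))) (.node 46 214 1 (.prune 6 .nil) (.node 46 215 0 (.prune 6 .nil) (.node 47 216 0 (.prune 6 .nil) (.node 49 217 0 (.prune 6 .nil) (.node 52 218 0 (.prune 6 .nil) (.node 110 235 0 .nil (.node 114 236 0 .nil (.node 117 237 0 .nil (.node 119 238 0 .nil (.node 120 239 1 .nil .nil))))))))))))))))))))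

/-- Children of candidate 16. -/
def kids16 : Tr :=
  (.node 21 184 3 (.node 27 197 1 (.prune 13 (.prune 4 .nil)) (.node 27 198 0 (.prune 12 (.prune 4 .nil)) (.node 28 199 0 (.prune 11 (.prune 4 .nil)) (.node 40 210 1 (.prune 6 .nil) (.node 40 211 0 (.prune 6 .nil) (.node 41 212 0 (.prune 6 .nil) (.node 117 237 0 .nil (.node 119 238 0 .nil (.node 120 239 1 .nil .nil))))))))) (.node 21 185 2 (.node 26 195 1 (.prune 13 (.prune 4 .nil)) (.node 26 196 0 (.prune 12 (.prune 4 .nil)) (.node 28 199 0 (.prune 10 (.prune 4 .nil)) (.node 40 210 1 (.prune 6 .nil) (.node 40 211 0 (.prune 6 .nil) (.node 43 213 0 (.prune 6 .nil) (.node 114 236 0 .nil (.node 119 238 0 .nil (.node 120 239 1 .nil .nil))))))))) (.node 21 186 1 (.node 26 194 2 (.prune 13 (.prune 4 .nil)) (.node 26 196 0 (.prune 11 (.prune 4 .nil)) (.node 27 198 0 (.prune 10 (.prune 4 .nil)) (.node 41 210 2 (.prune 6 .nil) (.node 41 212 0 (.prune 6 .nil) (.node 43 213 0 (.prune 6 .nil) (.node 114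 236 0 .nil (.node 117 237 0 .nil (.node 122 239 2 .nil .nil))))))))) (.node 21 187 0 (.node 26 194 2 (.prune 12 (.prune 4 .nil)) (.node 26 195 1 (.prune 11 (.prune 4 .nil)) (.node 27 197 1 (.prune 10 (.prune 4 .nil)) (.node 42 211 2 (.prune 6 .nil) (.node 42 212 1 (.prune 6 .nil) (.node 44 213 1 (.prune 6 .nil) (.node 115 236 1 .nil (.node 118 237 1 .nil (.node 121 238 2 .nil .nil))))))))) (.node 26 194 2 (.node 28 199 0 (.prune 8 (.prune 4 .nil)) (.node 40 210 1 (.prune 6 .nil) (.node 40 211 0 (.prune 6 .nil) (.node 52 218 0 (.prune 6 .nil) (.node 105 234 0 .nil (.node 119 238 0 .nil (.node 120 239 1 .nil .nil))))))) (.node 26 195 1 (.node 27 198 0 (.prune 8 (.prune 4 .nil)) (.node 41 210 2 (.prune 6 .nil) (.node 41 212 0 (.prune 6 .nil) (.node 52 218 0 (.prune 6 .nil) (.node 105 234 0 .nil (.node 117 237 0 .nil (.node 122 239 2 .nil .nil))))))) (.node 26 196 0 (.node 27 197 1 (.prune 8 (.prune 4 .nil)) (.node 42 211 2 (.prune 6 .nil) (.node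 42 212 1 (.prune 6 .nil) (.node 53 218 1 (.prune 6 .nil) (.node 106 234 1 .nil (.node 118 237 1 .nil (.node 121 238 2 .nil .nil))))))) (.node 27 197 1 (.node 43 210 3 (.prune 6 .nil) (.node 43 213 0 (.prune 6 .nil) (.node 52 218 0 (.prune 6 .nil) (.node 105 234 0 .nil (.node 114 236 0 .nil (.node 125 239 3 .nil .nil)))))) (.node 27 198 0 (.node 44 211 3 (.prune 6 .nil) (.node 44 213 1 (.prune 6 .nil) (.node 53 218 1 (.prune 6 .nil) (.node 106 234 1 .nil (.node 115 236 1 .nil (.node 124 238 3 .nil .nil)))))) (.node 28 199 0 (.node 45 212 3 (.prune 6 .nil) (.node 45 213 2 (.prune 6 .nil) (.node 54 218 2 (.prune 6 .nil) (.node 107 234 2 .nil (.node 116 236 2 .nil (.node 123 237 3 .nil .nil)))))) (.node 40 210 1 (.prune 6 .nil) (.node 40 211 0 (.prune 6 .nil) (.node 41 212 0 (.prune 6 .nil) (.node 43 213 0 (.prune 6 .nil) (.node 52 218 0 (.prune 6 .nil) (.node 105 234 0 .nil (.node 114 236 0 .nil (.node 117 237 0 .nil (.node 119 238 0 .nil (.node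 120 239 1 .nil .nil))))))))))))))))))))

/-- Children of candidate 17. -/
def kids17 : Tr :=
  (.node 22 184 4 (.node 30 200 1 (.prune 13 (.prune 3 .nil)) (.node 30 201 0 (.prune 12 (.prune 3 .nil)) (.node 31 202 0 (.prune 11 (.prune 3 .nil)) (.node 37 207 1 (.prune 6 .nil) (.node 37 208 0 (.prune 6 .nil) (.node 38 209 0 (.prune 6 .nil) (.node 117 237 0 .nil (.node 119 238 0 .nil (.node 120 239 1 .nil .nil))))))))) (.node 22 188 2 (.node 26 195 1 (.prune 13 (.prune 3 .nil)) (.node 26 196 0 (.prune 12 (.prune 3 .nil)) (.node 31 202 0 (.prune 9 (.prune 3 .nil)) (.node 37 207 1 (.prune 6 .nil) (.node 37 208 0 (.prune 6 .nil) (.node 43 213 0 (.prune 6 .nil) (.node 110 235 0 .nil (.node 119 238 0 .nil (.node 120 239 1 .nil .nil))))))))) (.node 22 189 1 (.node 26 194 2 (.prune 13 (.prune 3 .nil)) (.node 26 196 0 (.prune 11 (.prune 3 .nil)) (.node 30 201 0 (.prune 9 (.prune 3 .nil)) (.node 38 207 2 (.prune 6 .nil) (.node 38 209 0 (.prune 6 .nil) (.node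 43 213 0 (.prune 6 .nil) (.node 110 235 0 .nil (.node 117 237 0 .nil (.node 122 239 2 .nil .nil))))))))) (.node 22 190 0 (.node 26 194 2 (.prune 12 (.prune 3 .nil)) (.node 26 195 1 (.prune 11 (.prune 3 .nil)) (.node 30 200 1 (.prune 9 (.prune 3 .nil)) (.node 39 208 2 (.prune 6 .nil) (.node 39 209 1 (.prune 6 .nil) (.node 44 213 1 (.prune 6 .nil) (.node 111 235 1 .nil (.node 118 237 1 .nil (.node 121 238 2 .nil .nil))))))))) (.node 26 194 2 (.node 31 202 0 (.prune 8 (.prune 3 .nil)) (.node 37 207 1 (.prune 6 .nil) (.node 37 208 0 (.prune 6 .nil) (.node 49 217 0 (.prune 6 .nil) (.node 105 234 0 .nil (.node 119 238 0 .nil (.node 120 239 1 .nil .nil))))))) (.node 26 195 1 (.node 30 201 0 (.prune 8 (.prune 3 .nil)) (.node 38 207 2 (.prune 6 .nil) (.node 38 209 0 (.prune 6 .nil) (.node 49 217 0 (.prune 6 .nil) (.node 105 234 0 .nil (.node 117 237 0 .nil (.node 122 239 2 .nil .nil))))))) (.node 26 196 0 (.node 30 200 1 (.prune 8 (.prune 3 .nil)) (.node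 39 208 2 (.prune 6 .nil) (.node 39 209 1 (.prune 6 .nil) (.node 50 217 1 (.prune 6 .nil) (.node 106 234 1 .nil (.node 118 237 1 .nil (.node 121 238 2 .nil .nil))))))) (.node 30 200 1 (.node 43 207 4 (.prune 6 .nil) (.node 43 213 0 (.prune 6 .nil) (.node 49 217 0 (.prune 6 .nil) (.node 105 234 0 .nil (.node 110 235 0 .nil (.node 129 239 4 .nil .nil)))))) (.node 30 201 0 (.node 44 208 4 (.prune 6 .nil) (.node 44 213 1 (.prune 6 .nil) (.node 50 217 1 (.prune 6 .nil) (.node 106 234 1 .nil (.node 111 235 1 .nil (.node 128 238 4 .nil .nil)))))) (.node 31 202 0 (.node 45 209 4 (.prune 6 .nil) (.node 45 213 2 (.prune 6 .nil) (.node 51 217 2 (.prune 6 .nil) (.node 107 234 2 .nil (.node 112 235 2 .nil (.node 127 237 4 .nil .nil)))))) (.node 37 207 1 (.prune 6 .nil) (.node 37 208 0 (.prune 6 .nil) (.node 38 209 0 (.prune 6 .nil) (.node 43 213 0 (.prune 6 .nil) (.node 49 217 0 (.prune 6 .nil) (.node 105 234 0 .nil (.node 110 235 0 .nil (.node 117 237 0 .nil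 (.node 119 238 0 .nil (.node 120 239 1 .nil .nil))))))))))))))))))))

/-- Children of candidate 18. -/
def kids18 : Tr :=
  (.node 23 185 4 (.node 30 200 1 (.prune 13 (.prune 2 .nil)) (.node 30 201 0 (.prune 12 (.prune 2 .nil)) (.node 33 203 0 (.prune 10 (.prune 2 .nil)) (.node 36 205 1 (.prune 6 .nil) (.node 36 206 0 (.prune 6 .nil) (.node 38 209 0 (.prune 6 .nil) (.node 114 236 0 .nil (.node 119 238 0 .nil (.node 120 239 1 .nil .nil))))))))) (.node 23 188 3 (.node 27 197 1 (.prune 13 (.prune 2 .nil)) (.node 27 198 0 (.prune 12 (.prune 2 .nil)) (.node 33 203 0 (.prune 9 (.prune 2 .nil)) (.node 36 205 1 (.prune 6 .nil) (.node 36 206 0 (.prune 6 .nil) (.node 41 212 0 (.prune 6 .nil) (.node 110 235 0 .nil (.node 119 238 0 .nil (.node 120 239 1 .nil .nil))))))))) (.node 23 191 1 (.node 27 194 3 (.prune 13 (.prune 2 .nil)) (.node 27 198 0 (.prune 10 (.prune 2 .nil)) (.node 30 201 0 (.prune 9 (.prune 2 .nil)) (.node 38 205 3 (.prune 6 .nil) (.node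 38 209 0 (.prune 6 .nil) (.node 41 212 0 (.prune 6 .nil) (.node 110 235 0 .nil (.node 114 236 0 .nil (.node 125 239 3 .nil .nil))))))))) (.node 23 192 0 (.node 27 194 3 (.prune 12 (.prune 2 .nil)) (.node 27 197 1 (.prune 10 (.prune 2 .nil)) (.node 30 200 1 (.prune 9 (.prune 2 .nil)) (.node 39 206 3 (.prune 6 .nil) (.node 39 209 1 (.prune 6 .nil) (.node 42 212 1 (.prune 6 .nil) (.node 111 235 1 .nil (.node 115 236 1 .nil (.node 124 238 3 .nil .nil))))))))) (.node 27 194 3 (.node 33 203 0 (.prune 8 (.prune 2 .nil)) (.node 36 205 1 (.prune 6 .nil) (.node 36 206 0 (.prune 6 .nil) (.node 47 216 0 (.prune 6 .nil) (.node 105 234 0 .nil (.node 119 238 0 .nil (.node 120 239 1 .nil .nil))))))) (.node 27 197 1 (.node 30 201 0 (.prune 8 (.prune 2 .nil)) (.node 38 205 3 (.prune 6 .nil) (.node 38 209 0 (.prune 6 .nil) (.node 47 216 0 (.prune 6 .nil) (.node 105 234 0 .nil (.node 114 236 0 .nil (.node 125 239 3 .nil .nil))))))) (.node 27 198 0 (.node 30 200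 1 (.prune 8 (.prune 2 .nil)) (.node 39 206 3 (.prune 6 .nil) (.node 39 209 1 (.prune 6 .nil) (.node 48 216 1 (.prune 6 .nil) (.node 106 234 1 .nil (.node 115 236 1 .nil (.node 124 238 3 .nil .nil))))))) (.node 30 200 1 (.node 41 205 4 (.prune 6 .nil) (.node 41 212 0 (.prune 6 .nil) (.node 47 216 0 (.prune 6 .nil) (.node 105 234 0 .nil (.node 110 235 0 .nil (.node 129 239 4 .nil .nil)))))) (.node 30 201 0 (.node 42 206 4 (.prune 6 .nil) (.node 42 212 1 (.prune 6 .nil) (.node 48 216 1 (.prune 6 .nil) (.node 106 234 1 .nil (.node 111 235 1 .nil (.node 128 238 4 .nil .nil)))))) (.node 33 203 0 (.node 45 209 4 (.prune 6 .nil) (.node 45 212 3 (.prune 6 .nil) (.node 51 216 3 (.prune 6 .nil) (.node 108 234 3 .nil (.node 113 235 3 .nil (.node 126 236 4 .nil .nil)))))) (.node 36 205 1 (.prune 6 .nil) (.node 36 206 0 (.prune 6 .nil) (.node 38 209 0 (.prune 6 .nil) (.node 41 212 0 (.prune 6 .nil) (.node 47 216 0 (.prune 6 .nil) (.node 105 234 0 .nil (.node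 110 235 0 .nil (.node 114 236 0 .nil (.node 119 238 0 .nil (.node 120 239 1 .nil .nil))))))))))))))))))))

/-- Children of candidate 19. -/
def kids19 : Tr :=
  (.node 24 186 4 (.node 31 200 2 (.prune 13 (.prune 1 .nil)) (.node 31 202 0 (.prune 11 (.prune 1 .nil)) (.node 33 203 0 (.prune 10 (.prune 1 .nil)) (.node 36 204 2 (.prune 6 .nil) (.node 36 206 0 (.prune 6 .nil) (.node 37 208 0 (.prune 6 .nil) (.node 114 236 0 .nil (.node 117 237 0 .nil (.node 122 239 2 .nil .nil))))))))) (.node 24 189 3 (.node 28 197 2 (.prune 13 (.prune 1 .nil)) (.node 28 199 0 (.prune 11 (.prune 1 .nil)) (.node 33 203 0 (.prune 9 (.prune 1 .nil)) (.node 36 204 2 (.prune 6 .nil) (.node 36 206 0 (.prune 6 .nil) (.node 40 211 0 (.prune 6 .nil) (.node 110 235 0 .nil (.node 117 237 0 .nil (.node 122 239 2 .nil .nil))))))))) (.node 24 191 2 (.node 28 195 3 (.prune 13 (.prune 1 .nil)) (.node 28 199 0 (.prune 10 (.prune 1 .nil)) (.node 31 202 0 (.prune 9 (.prune 1 .nil)) (.node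 37 204 3 (.prune 6 .nil) (.node 37 208 0 (.prune 6 .nil) (.node 40 211 0 (.prune 6 .nil) (.node 110 235 0 .nil (.node 114 236 0 .nil (.node 125 239 3 .nil .nil))))))))) (.node 24 193 0 (.node 28 195 3 (.prune 11 (.prune 1 .nil)) (.node 28 197 2 (.prune 10 (.prune 1 .nil)) (.node 31 200 2 (.prune 9 (.prune 1 .nil)) (.node 39 206 3 (.prune 6 .nil) (.node 39 208 2 (.prune 6 .nil) (.node 42 211 2 (.prune 6 .nil) (.node 112 235 2 .nil (.node 116 236 2 .nil (.node 123 237 3 .nil .nil))))))))) (.node 28 195 3 (.node 33 203 0 (.prune 8 (.prune 1 .nil)) (.node 36 204 2 (.prune 6 .nil) (.node 36 206 0 (.prune 6 .nil) (.node 46 215 0 (.prune 6 .nil) (.node 105 234 0 .nil (.node 117 237 0 .nil (.node 122 239 2 .nil .nil))))))) (.node 28 197 2 (.node 31 202 0 (.prune 8 (.prune 1 .nil)) (.node 37 204 3 (.prune 6 .nil) (.node 37 208 0 (.prune 6 .nil) (.node 46 215 0 (.prune 6 .nil) (.node 105 234 0 .nil (.node 114 236 0 .nil (.node 125 239 3 .nil .nil)))))))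 (.node 28 199 0 (.node 31 200 2 (.prune 8 (.prune 1 .nil)) (.node 39 206 3 (.prune 6 .nil) (.node 39 208 2 (.prune 6 .nil) (.node 48 215 2 (.prune 6 .nil) (.node 107 234 2 .nil (.node 116 236 2 .nil (.node 123 237 3 .nil .nil))))))) (.node 31 200 2 (.node 40 204 4 (.prune 6 .nil) (.node 40 211 0 (.prune 6 .nil) (.node 46 215 0 (.prune 6 .nil) (.node 105 234 0 .nil (.node 110 235 0 .nil (.node 129 239 4 .nil .nil)))))) (.node 31 202 0 (.node 42 206 4 (.prune 6 .nil) (.node 42 211 2 (.prune 6 .nil) (.node 48 215 2 (.prune 6 .nil) (.node 107 234 2 .nil (.node 112 235 2 .nil (.node 127 237 4 .nil .nil)))))) (.node 33 203 0 (.node 44 208 4 (.prune 6 .nil) (.node 44 211 3 (.prune 6 .nil) (.node 50 215 3 (.prune 6 .nil) (.node 108 234 3 .nil (.node 113 235 3 .nil (.node 126 236 4 .nil .nil)))))) (.node 36 204 2 (.prune 6 .nil) (.node 36 206 0 (.prune 6 .nil) (.node 37 208 0 (.prune 6 .nil) (.node 40 211 0 (.prune 6 .nil) (.node 46 215 0 (.prune 6 .nil)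 (.node 105 234 0 .nil (.node 110 235 0 .nil (.node 114 236 0 .nil (.node 117 237 0 .nil (.node 122 239 2 .nil .nil))))))))))))))))))))

/-- Children of candidate 20. -/
def kids20 : Tr :=
  (.node 25 187 4 (.node 32 201 2 (.prune 12 (.prune 0 .nil)) (.node 32 202 1 (.prune 11 (.prune 0 .nil)) (.node 34 203 1 (.prune 10 (.prune 0 .nil)) (.node 36 204 2 (.prune 6 .nil) (.node 36 205 1 (.prune 6 .nil) (.node 37 207 1 (.prune 6 .nil) (.node 115 236 1 .nil (.node 118 237 1 .nil (.node 121 238 2 .nil .nil))))))))) (.node 25 190 3 (.node 29 198 2 (.prune 12 (.prune 0 .nil)) (.node 29 199 1 (.prune 11 (.prune 0 .nil)) (.node 34 203 1 (.prune 9 (.prune 0 .nil)) (.node 36 204 2 (.prune 6 .nil) (.node 36 205 1 (.prune 6 .nil) (.node 40 210 1 (.prune 6 .nil) (.node 111 235 1 .nil (.node 118 237 1 .nil (.node 121 238 2 .nil .nil))))))))) (.node 25 192 2 (.node 29 196 3 (.prune 12 (.prune 0 .nil)) (.node 29 199 1 (.prune 10 (.prune 0 .nil)) (.node 32 202 1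 (.prune 9 (.prune 0 .nil)) (.node 37 204 3 (.prune 6 .nil) (.node 37 207 1 (.prune 6 .nil) (.node 40 210 1 (.prune 6 .nil) (.node 111 235 1 .nil (.node 115 236 1 .nil (.node 124 238 3 .nil .nil))))))))) (.node 25 193 1 (.node 29 196 3 (.prune 11 (.prune 0 .nil)) (.node 29 198 2 (.prune 10 (.prune 0 .nil)) (.node 32 201 2 (.prune 9 (.prune 0 .nil)) (.node 38 205 3 (.prune 6 .nil) (.node 38 207 2 (.prune 6 .nil) (.node 41 210 2 (.prune 6 .nil) (.node 112 235 2 .nil (.node 116 236 2 .nil (.node 123 237 3 .nil .nil))))))))) (.node 29 196 3 (.node 34 203 1 (.prune 8 (.prune 0 .nil)) (.node 36 204 2 (.prune 6 .nil) (.node 36 205 1 (.prune 6 .nil) (.node 46 214 1 (.prune 6 .nil) (.node 106 234 1 .nil (.node 118 237 1 .nil (.node 121 238 2 .nil .nil))))))) (.node 29 198 2 (.node 32 202 1 (.prune 8 (.prune 0 .nil)) (.node 37 204 3 (.prune 6 .nil) (.node 37 207 1 (.prune 6 .nil) (.node 46 214 1 (.prune 6 .nil) (.node 106 234 1 .nil (.node 115 236 1 .nil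 (.node 124 238 3 .nil .nil))))))) (.node 29 199 1 (.node 32 201 2 (.prune 8 (.prune 0 .nil)) (.node 38 205 3 (.prune 6 .nil) (.node 38 207 2 (.prune 6 .nil) (.node 47 214 2 (.prune 6 .nil) (.node 107 234 2 .nil (.node 116 236 2 .nil (.node 123 237 3 .nil .nil))))))) (.node 32 201 2 (.node 40 204 4 (.prune 6 .nil) (.node 40 210 1 (.prune 6 .nil) (.node 46 214 1 (.prune 6 .nil) (.node 106 234 1 .nil (.node 111 235 1 .nil (.node 128 238 4 .nil .nil)))))) (.node 32 202 1 (.node 41 205 4 (.prune 6 .nil) (.node 41 210 2 (.prune 6 .nil) (.node 47 214 2 (.prune 6 .nil) (.node 107 234 2 .nil (.node 112 235 2 .nil (.node 127 237 4 .nil .nil)))))) (.node 34 203 1 (.node 43 207 4 (.prune 6 .nil) (.node 43 210 3 (.prune 6 .nil) (.node 49 214 3 (.prune 6 .nil) (.node 108 234 3 .nil (.node 113 235 3 .nil (.node 126 236 4 .nil .nil)))))) (.node 36 204 2 (.prune 6 .nil) (.node 36 205 1 (.prune 6 .nil) (.node 37 207 1 (.prune 6 .nil) (.node 40 210 1 (.prune 6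 .nil) (.node 46 214 1 (.prune 6 .nil) (.node 106 234 1 .nil (.node 111 235 1 .nil (.node 115 236 1 .nil (.node 118 237 1 .nil (.node 121 238 2 .nil .nil))))))))))))))))))))

/-- Children of candidate 21. -/
def kids21 : Tr :=
  (.node 23 191 1 (.node 27 198 0 (.prune 7 (.prune 10 (.prune 12 (.prune 13 .nil)))) (.node 28 199 0 (.prune 7 (.prune 10 (.prune 11 (.prune 13 .nil)))) (.node 30 201 0 (.prune 12 (.prune 9 (.prune 13 .nil))) (.node 31 202 0 (.prune 11 (.prune 9 (.prune 13 .nil))) (.node 37 208 0 (.prune 5 (.prune 13 .nil)) (.node 38 209 0 (.prune 5 (.prune 13 .nil)) (.node 40 211 0 (.prune 13 .nil) (.node 41 212 0 (.prune 13 .nil) (.prune 13 (.node 198 239 27 .nil .nil)))))))))) (.node 23 192 0 (.node 27 197 1 (.prune 7 (.prune 10 (.prune 13 (.prune 12 .nil)))) (.node 29 199 1 (.prune 7 (.prune 10 (.prune 11 (.prune 12 .nil)))) (.node 30 200 1 (.prune 13 (.prune 9 (.prune 12 .nil))) (.node 32 202 1 (.prune 11 (.prune 9 (.prune 12 .nil)))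 (.node 37 207 1 (.prune 5 (.prune 12 .nil)) (.node 39 209 1 (.prune 5 (.prune 12 .nil)) (.node 40 210 1 (.prune 12 .nil) (.node 42 212 1 (.prune 12 .nil) (.prune 12 (.node 197 238 27 .nil .nil)))))))))) (.node 24 193 0 (.node 28 197 2 (.prune 7 (.prune 10 (.prune 13 (.prune 11 .nil)))) (.node 29 198 2 (.prune 7 (.prune 10 (.prune 12 (.prune 11 .nil)))) (.node 31 200 2 (.prune 13 (.prune 9 (.prune 11 .nil))) (.node 32 201 2 (.prune 12 (.prune 9 (.prune 11 .nil))) (.node 38 207 2 (.prune 5 (.prune 11 .nil)) (.node 39 208 2 (.prune 5 (.prune 11 .nil)) (.node 41 210 2 (.prune 11 .nil) (.node 42 211 2 (.prune 11 .nil) (.prune 11 (.node 197 237 28 .nil .nil)))))))))) (.node 27 197 1 (.node 30 201 0 (.prune 12 (.prune 13 (.prune 8 .nil))) (.node 31 202 0 (.prune 11 (.prune 13 (.prune 8 .nil))) (.node 37 208 0 (.prune 13 (.prune 4 .nil)) (.node 38 209 0 (.prune 13 (.prune 4 .nil)) (.prune 13 (.node 46 215 0 .nil (.node 47 216 0 .nil (.node 192 239 23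 .nil .nil)))))))) (.node 27 198 0 (.node 30 200 1 (.prune 13 (.prune 12 (.prune 8 .nil))) (.node 32 202 1 (.prune 11 (.prune 12 (.prune 8 .nil))) (.node 37 207 1 (.prune 12 (.prune 4 .nil)) (.node 39 209 1 (.prune 12 (.prune 4 .nil)) (.prune 12 (.node 46 214 1 .nil (.node 48 216 1 .nil (.node 191 238 23 .nil .nil)))))))) (.node 28 199 0 (.node 31 200 2 (.prune 13 (.prune 11 (.prune 8 .nil))) (.node 32 201 2 (.prune 12 (.prune 11 (.prune 8 .nil))) (.node 38 207 2 (.prune 11 (.prune 4 .nil)) (.node 39 208 2 (.prune 11 (.prune 4 .nil)) (.prune 11 (.node 47 214 2 .nil (.node 48 215 2 .nil (.node 191 237 24 .nil .nil)))))))) (.node 30 200 1 (.prune 13 (.node 40 211 0 (.prune 3 .nil) (.node 41 212 0 (.prune 3 .nil) (.node 46 215 0 .nil (.node 47 216 0 .nil (.node 192 239 23 .nil .nil)))))) (.node 30 201 0 (.prune 12 (.node 40 210 1 (.prune 3 .nil) (.node 42 212 1 (.prune 3 .nil) (.node 46 214 1 .nil (.node 48 216 1 .nil (.node 191 238 23 .nil .nil))))))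 (.node 31 202 0 (.prune 11 (.node 41 210 2 (.prune 3 .nil) (.node 42 211 2 (.prune 3 .nil) (.node 47 214 2 .nil (.node 48 215 2 .nil (.node 191 237 24 .nil .nil)))))) (.node 37 207 1 (.node 40 211 0 (.prune 6 .nil) (.node 41 212 0 (.prune 6 .nil) (.node 46 215 0 .nil (.node 47 216 0 .nil (.node 192 239 23 .nil .nil))))) (.node 37 208 0 (.node 40 210 1 (.prune 6 .nil) (.node 42 212 1 (.prune 6 .nil) (.node 46 214 1 .nil (.node 48 216 1 .nil (.node 191 238 23 .nil .nil))))) (.node 38 209 0 (.node 41 210 2 (.prune 6 .nil) (.node 42 211 2 (.prune 6 .nil) (.node 47 214 2 .nil (.node 48 215 2 .nil (.node 191 237 24 .nil .nil))))) (.node 40 210 1 (.node 46 215 0 .nil (.node 47 216 0 .nil (.node 192 239 23 .nil .nil))) (.node 40 211 0 (.node 46 214 1 .nil (.node 48 216 1 .nil (.node 191 238 23 .nil .nil))) (.node 41 212 0 (.node 47 214 2 .nil (.node 48 215 2 .nil (.node 191 237 24 .nil .nil))) (.node 46 214 1 (.node 198 239 27 .nil .nil) (.node 46 215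 0 (.node 197 238 27 .nil .nil) (.node 47 216 0 (.node 197 237 28 .nil .nil) (.node 117 237 0 .nil (.node 119 238 0 .nil (.node 120 239 1 .nil .nil)))))))))))))))))))))

/-- Children of candidate 22. -/
def kids22 : Tr :=
  (.node 22 189 1 (.node 26 196 0 (.prune 7 (.prune 11 (.prune 12 (.prune 13 .nil)))) (.node 28 199 0 (.prune 7 (.prune 11 (.prune 10 (.prune 13 .nil)))) (.node 30 201 0 (.prune 12 (.prune 9 (.prune 13 .nil))) (.node 33 203 0 (.prune 10 (.prune 9 (.prune 13 .nil))) (.node 36 206 0 (.prune 5 (.prune 13 .nil)) (.node 38 209 0 (.prune 5 (.prune 13 .nil)) (.node 40 211 0 (.prune 13 .nil) (.node 43 213 0 (.prune 13 .nil) (.prune 13 (.node 196 239 26 .nil .nil)))))))))) (.node 22 190 0 (.node 26 195 1 (.prune 7 (.prune 11 (.prune 13 (.prune 12 .nil)))) (.node 29 199 1 (.prune 7 (.prune 11 (.prune 10 (.prune 12 .nil)))) (.node 30 200 1 (.prune 13 (.prune 9 (.prune 12 .nil))) (.node 34 203 1 (.prune 10 (.prune 9 (.prune 12 .nil))) (.node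 36 205 1 (.prune 5 (.prune 12 .nil)) (.node 39 209 1 (.prune 5 (.prune 12 .nil)) (.node 40 210 1 (.prune 12 .nil) (.node 44 213 1 (.prune 12 .nil) (.prune 12 (.node 195 238 26 .nil .nil)))))))))) (.node 24 193 0 (.node 28 195 3 (.prune 7 (.prune 11 (.prune 13 (.prune 10 .nil)))) (.node 29 196 3 (.prune 7 (.prune 11 (.prune 12 (.prune 10 .nil)))) (.node 33 200 3 (.prune 13 (.prune 9 (.prune 10 .nil))) (.node 34 201 3 (.prune 12 (.prune 9 (.prune 10 .nil))) (.node 38 205 3 (.prune 5 (.prune 10 .nil)) (.node 39 206 3 (.prune 5 (.prune 10 .nil)) (.node 43 210 3 (.prune 10 .nil) (.node 44 211 3 (.prune 10 .nil) (.prune 10 (.node 195 236 28 .nil .nil)))))))))) (.node 26 195 1 (.node 30 201 0 (.prune 12 (.prune 13 (.prune 8 .nil))) (.node 33 203 0 (.prune 10 (.prune 13 (.prune 8 .nil))) (.node 36 206 0 (.prune 13 (.prune 4 .nil)) (.node 38 209 0 (.prune 13 (.prune 4 .nil)) (.prune 13 (.node 46 215 0 .nil (.node 49 217 0 .nil (.node 190 239 22 .nil .nil))))))))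 (.node 26 196 0 (.node 30 200 1 (.prune 13 (.prune 12 (.prune 8 .nil))) (.node 34 203 1 (.prune 10 (.prune 12 (.prune 8 .nil))) (.node 36 205 1 (.prune 12 (.prune 4 .nil)) (.node 39 209 1 (.prune 12 (.prune 4 .nil)) (.prune 12 (.node 46 214 1 .nil (.node 50 217 1 .nil (.node 189 238 22 .nil .nil)))))))) (.node 28 199 0 (.node 33 200 3 (.prune 13 (.prune 10 (.prune 8 .nil))) (.node 34 201 3 (.prune 12 (.prune 10 (.prune 8 .nil))) (.node 38 205 3 (.prune 10 (.prune 4 .nil)) (.node 39 206 3 (.prune 10 (.prune 4 .nil)) (.prune 10 (.node 49 214 3 .nil (.node 50 215 3 .nil (.node 189 236 24 .nil .nil)))))))) (.node 30 200 1 (.prune 13 (.node 40 211 0 (.prune 2 .nil) (.node 43 213 0 (.prune 2 .nil) (.node 46 215 0 .nil (.node 49 217 0 .nil (.node 190 239 22 .nil .nil)))))) (.node 30 201 0 (.prune 12 (.node 40 210 1 (.prune 2 .nil) (.node 44 213 1 (.prune 2 .nil) (.node 46 214 1 .nil (.node 50 217 1 .nil (.node 189 238 22 .nil .nil)))))) (.node 33 203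 0 (.prune 10 (.node 43 210 3 (.prune 2 .nil) (.node 44 211 3 (.prune 2 .nil) (.node 49 214 3 .nil (.node 50 215 3 .nil (.node 189 236 24 .nil .nil)))))) (.node 36 205 1 (.node 40 211 0 (.prune 6 .nil) (.node 43 213 0 (.prune 6 .nil) (.node 46 215 0 .nil (.node 49 217 0 .nil (.node 190 239 22 .nil .nil))))) (.node 36 206 0 (.node 40 210 1 (.prune 6 .nil) (.node 44 213 1 (.prune 6 .nil) (.node 46 214 1 .nil (.node 50 217 1 .nil (.node 189 238 22 .nil .nil))))) (.node 38 209 0 (.node 43 210 3 (.prune 6 .nil) (.node 44 211 3 (.prune 6 .nil) (.node 49 214 3 .nil (.node 50 215 3 .nil (.node 189 236 24 .nil .nil))))) (.node 40 210 1 (.node 46 215 0 .nil (.node 49 217 0 .nil (.node 190 239 22 .nil .nil))) (.node 40 211 0 (.node 46 214 1 .nil (.node 50 217 1 .nil (.node 189 238 22 .nil .nil))) (.node 43 213 0 (.node 49 214 3 .nil (.node 50 215 3 .nil (.node 189 236 24 .nil .nil))) (.node 46 214 1 (.node 196 239 26 .nil .nil) (.node 46 215 0 (.node 195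 238 26 .nil .nil) (.node 49 217 0 (.node 195 236 28 .nil .nil) (.node 114 236 0 .nil (.node 119 238 0 .nil (.node 120 239 1 .nil .nil)))))))))))))))))))))

/-- Children of candidate 23. -/
def kids23 : Tr :=
  (.node 22 188 2 (.node 26 196 0 (.prune 7 (.prune 12 (.prune 11 (.prune 13 .nil)))) (.node 27 198 0 (.prune 7 (.prune 12 (.prune 10 (.prune 13 .nil)))) (.node 31 202 0 (.prune 11 (.prune 9 (.prune 13 .nil))) (.node 33 203 0 (.prune 10 (.prune 9 (.prune 13 .nil))) (.node 36 206 0 (.prune 5 (.prune 13 .nil)) (.node 37 208 0 (.prune 5 (.prune 13 .nil)) (.node 41 212 0 (.prune 13 .nil) (.node 43 213 0 (.prune 13 .nil) (.prune 13 (.node 196 239 26 .nil .nil)))))))))) (.node 22 190 0 (.node 26 194 2 (.prune 7 (.prune 12 (.prune 13 (.prune 11 .nil)))) (.node 29 198 2 (.prune 7 (.prune 12 (.prune 10 (.prune 11 .nil)))) (.node 31 200 2 (.prune 13 (.prune 9 (.prune 11 .nil))) (.node 35 203 2 (.prune 10 (.prune 9 (.prune 11 .nil))) (.node 36 204 2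 (.prune 5 (.prune 11 .nil)) (.node 39 208 2 (.prune 5 (.prune 11 .nil)) (.node 41 210 2 (.prune 11 .nil) (.node 45 213 2 (.prune 11 .nil) (.prune 11 (.node 194 237 26 .nil .nil)))))))))) (.node 23 192 0 (.node 27 194 3 (.prune 7 (.prune 12 (.prune 13 (.prune 10 .nil)))) (.node 29 196 3 (.prune 7 (.prune 12 (.prune 11 (.prune 10 .nil)))) (.node 33 200 3 (.prune 13 (.prune 9 (.prune 10 .nil))) (.node 35 202 3 (.prune 11 (.prune 9 (.prune 10 .nil))) (.node 37 204 3 (.prune 5 (.prune 10 .nil)) (.node 39 206 3 (.prune 5 (.prune 10 .nil)) (.node 43 210 3 (.prune 10 .nil) (.node 45 212 3 (.prune 10 .nil) (.prune 10 (.node 194 236 27 .nil .nil)))))))))) (.node 26 194 2 (.node 31 202 0 (.prune 11 (.prune 13 (.prune 8 .nil))) (.node 33 203 0 (.prune 10 (.prune 13 (.prune 8 .nil))) (.node 36 206 0 (.prune 13 (.prune 4 .nil)) (.node 37 208 0 (.prune 13 (.prune 4 .nil)) (.prune 13 (.node 47 216 0 .nil (.node 49 217 0 .nil (.node 190 239 22 .nil .nil))))))))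 (.node 26 196 0 (.node 31 200 2 (.prune 13 (.prune 11 (.prune 8 .nil))) (.node 35 203 2 (.prune 10 (.prune 11 (.prune 8 .nil))) (.node 36 204 2 (.prune 11 (.prune 4 .nil)) (.node 39 208 2 (.prune 11 (.prune 4 .nil)) (.prune 11 (.node 47 214 2 .nil (.node 51 217 2 .nil (.node 188 237 22 .nil .nil)))))))) (.node 27 198 0 (.node 33 200 3 (.prune 13 (.prune 10 (.prune 8 .nil))) (.node 35 202 3 (.prune 11 (.prune 10 (.prune 8 .nil))) (.node 37 204 3 (.prune 10 (.prune 4 .nil)) (.node 39 206 3 (.prune 10 (.prune 4 .nil)) (.prune 10 (.node 49 214 3 .nil (.node 51 216 3 .nil (.node 188 236 23 .nil .nil)))))))) (.node 31 200 2 (.prune 13 (.node 41 212 0 (.prune 1 .nil) (.node 43 213 0 (.prune 1 .nil) (.node 47 216 0 .nil (.node 49 217 0 .nil (.node 190 239 22 .nil .nil)))))) (.node 31 202 0 (.prune 11 (.node 41 210 2 (.prune 1 .nil) (.node 45 213 2 (.prune 1 .nil) (.node 47 214 2 .nil (.node 51 217 2 .nil (.node 188 237 22 .nil .nil)))))) (.node 33 203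 0 (.prune 10 (.node 43 210 3 (.prune 1 .nil) (.node 45 212 3 (.prune 1 .nil) (.node 49 214 3 .nil (.node 51 216 3 .nil (.node 188 236 23 .nil .nil)))))) (.node 36 204 2 (.node 41 212 0 (.prune 6 .nil) (.node 43 213 0 (.prune 6 .nil) (.node 47 216 0 .nil (.node 49 217 0 .nil (.node 190 239 22 .nil .nil))))) (.node 36 206 0 (.node 41 210 2 (.prune 6 .nil) (.node 45 213 2 (.prune 6 .nil) (.node 47 214 2 .nil (.node 51 217 2 .nil (.node 188 237 22 .nil .nil))))) (.node 37 208 0 (.node 43 210 3 (.prune 6 .nil) (.node 45 212 3 (.prune 6 .nil) (.node 49 214 3 .nil (.node 51 216 3 .nil (.node 188 236 23 .nil .nil))))) (.node 41 210 2 (.node 47 216 0 .nil (.node 49 217 0 .nil (.node 190 239 22 .nil .nil))) (.node 41 212 0 (.node 47 214 2 .nil (.node 51 217 2 .nil (.node 188 237 22 .nil .nil))) (.node 43 213 0 (.node 49 214 3 .nil (.node 51 216 3 .nil (.node 188 236 23 .nil .nil))) (.node 47 214 2 (.node 196 239 26 .nil .nil) (.node 47 216 0 (.node 194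 237 26 .nil .nil) (.node 49 217 0 (.node 194 236 27 .nil .nil) (.node 114 236 0 .nil (.node 117 237 0 .nil (.node 122 239 2 .nil .nil)))))))))))))))))))))

/-- Children of candidate 24. -/
def kids24 : Tr :=
  (.node 22 188 2 (.node 26 195 1 (.prune 7 (.prune 13 (.prune 11 (.prune 12 .nil)))) (.node 27 197 1 (.prune 7 (.prune 13 (.prune 10 (.prune 12 .nil)))) (.node 32 202 1 (.prune 11 (.prune 9 (.prune 12 .nil))) (.node 34 203 1 (.prune 10 (.prune 9 (.prune 12 .nil))) (.node 36 205 1 (.prune 5 (.prune 12 .nil)) (.node 37 207 1 (.prune 5 (.prune 12 .nil)) (.node 42 212 1 (.prune 12 .nil) (.node 44 213 1 (.prune 12 .nil) (.prune 12 (.node 195 238 26 .nil .nil)))))))))) (.node 22 189 1 (.node 26 194 2 (.prune 7 (.prune 13 (.prune 12 (.prune 11 .nil)))) (.node 28 197 2 (.prune 7 (.prune 13 (.prune 10 (.prune 11 .nil)))) (.node 32 201 2 (.prune 12 (.prune 9 (.prune 11 .nil))) (.node 35 203 2 (.prune 10 (.prune 9 (.prune 11 .nil))) (.node 36 204 2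 (.prune 5 (.prune 11 .nil)) (.node 38 207 2 (.prune 5 (.prune 11 .nil)) (.node 42 211 2 (.prune 11 .nil) (.node 45 213 2 (.prune 11 .nil) (.prune 11 (.node 194 237 26 .nil .nil)))))))))) (.node 23 191 1 (.node 27 194 3 (.prune 7 (.prune 13 (.prune 12 (.prune 10 .nil)))) (.node 28 195 3 (.prune 7 (.prune 13 (.prune 11 (.prune 10 .nil)))) (.node 34 201 3 (.prune 12 (.prune 9 (.prune 10 .nil))) (.node 35 202 3 (.prune 11 (.prune 9 (.prune 10 .nil))) (.node 37 204 3 (.prune 5 (.prune 10 .nil)) (.node 38 205 3 (.prune 5 (.prune 10 .nil)) (.node 44 211 3 (.prune 10 .nil) (.node 45 212 3 (.prune 10 .nil) (.prune 10 (.node 194 236 27 .nil .nil)))))))))) (.node 26 194 2 (.node 32 202 1 (.prune 11 (.prune 12 (.prune 8 .nil))) (.node 34 203 1 (.prune 10 (.prune 12 (.prune 8 .nil))) (.node 36 205 1 (.prune 12 (.prune 4 .nil)) (.node 37 207 1 (.prune 12 (.prune 4 .nil)) (.prune 12 (.node 48 216 1 .nil (.node 50 217 1 .nil (.node 189 238 22 .nil .nil))))))))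 (.node 26 195 1 (.node 32 201 2 (.prune 12 (.prune 11 (.prune 8 .nil))) (.node 35 203 2 (.prune 10 (.prune 11 (.prune 8 .nil))) (.node 36 204 2 (.prune 11 (.prune 4 .nil)) (.node 38 207 2 (.prune 11 (.prune 4 .nil)) (.prune 11 (.node 48 215 2 .nil (.node 51 217 2 .nil (.node 188 237 22 .nil .nil)))))))) (.node 27 197 1 (.node 34 201 3 (.prune 12 (.prune 10 (.prune 8 .nil))) (.node 35 202 3 (.prune 11 (.prune 10 (.prune 8 .nil))) (.node 37 204 3 (.prune 10 (.prune 4 .nil)) (.node 38 205 3 (.prune 10 (.prune 4 .nil)) (.prune 10 (.node 50 215 3 .nil (.node 51 216 3 .nil (.node 188 236 23 .nil .nil)))))))) (.node 32 201 2 (.prune 12 (.node 42 212 1 (.prune 0 .nil) (.node 44 213 1 (.prune 0 .nil) (.node 48 216 1 .nil (.node 50 217 1 .nil (.node 189 238 22 .nil .nil)))))) (.node 32 202 1 (.prune 11 (.node 42 211 2 (.prune 0 .nil) (.node 45 213 2 (.prune 0 .nil) (.node 48 215 2 .nil (.node 51 217 2 .nil (.node 188 237 22 .nil .nil)))))) (.node 34 203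 1 (.prune 10 (.node 44 211 3 (.prune 0 .nil) (.node 45 212 3 (.prune 0 .nil) (.node 50 215 3 .nil (.node 51 216 3 .nil (.node 188 236 23 .nil .nil)))))) (.node 36 204 2 (.node 42 212 1 (.prune 6 .nil) (.node 44 213 1 (.prune 6 .nil) (.node 48 216 1 .nil (.node 50 217 1 .nil (.node 189 238 22 .nil .nil))))) (.node 36 205 1 (.node 42 211 2 (.prune 6 .nil) (.node 45 213 2 (.prune 6 .nil) (.node 48 215 2 .nil (.node 51 217 2 .nil (.node 188 237 22 .nil .nil))))) (.node 37 207 1 (.node 44 211 3 (.prune 6 .nil) (.node 45 212 3 (.prune 6 .nil) (.node 50 215 3 .nil (.node 51 216 3 .nil (.node 188 236 23 .nil .nil))))) (.node 42 211 2 (.node 48 216 1 .nil (.node 50 217 1 .nil (.node 189 238 22 .nil .nil))) (.node 42 212 1 (.node 48 215 2 .nil (.node 51 217 2 .nil (.node 188 237 22 .nil .nil))) (.node 44 213 1 (.node 50 215 3 .nil (.node 51 216 3 .nil (.node 188 236 23 .nil .nil))) (.node 48 215 2 (.node 195 238 26 .nil .nil) (.node 48 216 1 (.node 194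 237 26 .nil .nil) (.node 50 217 1 (.node 194 236 27 .nil .nil) (.node 115 236 1 .nil (.node 118 237 1 .nil (.node 121 238 2 .nil .nil)))))))))))))))))))))

/-- Children of candidate 25. -/
def kids25 : Tr :=
  (.node 24 193 0 (.node 31 195 4 (.prune 7 (.prune 11 (.prune 13 (.prune 9 .nil)))) (.node 32 196 4 (.prune 7 (.prune 11 (.prune 12 (.prune 9 .nil)))) (.node 33 197 4 (.prune 13 (.prune 10 (.prune 9 .nil))) (.node 34 198 4 (.prune 12 (.prune 10 (.prune 9 .nil))) (.node 41 205 4 (.prune 5 (.prune 9 .nil)) (.node 42 206 4 (.prune 5 (.prune 9 .nil)) (.node 43 207 4 (.prune 9 .nil) (.node 44 208 4 (.prune 9 .nil) (.prune 9 (.node 195 235 31 .nil .nil)))))))))) (.node 26 195 1 (.node 27 198 0 (.prune 12 (.prune 13 (.prune 8 .nil))) (.node 33 203 0 (.prune 13 (.prune 9 (.prune 8 .nil))) (.node 36 206 0 (.prune 13 (.prune 3 .nil)) (.prune 13 (.node 41 212 0 (.prune 3 .nil) (.node 46 215 0 .nil (.node 52 218 0 .nil (.node 187 239 21 .nil .nil))))))))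 (.node 26 196 0 (.node 27 197 1 (.prune 13 (.prune 12 (.prune 8 .nil))) (.node 34 203 1 (.prune 12 (.prune 9 (.prune 8 .nil))) (.node 36 205 1 (.prune 12 (.prune 3 .nil)) (.prune 12 (.node 42 212 1 (.prune 3 .nil) (.node 46 214 1 .nil (.node 53 218 1 .nil (.node 186 238 21 .nil .nil)))))))) (.node 27 197 1 (.node 31 202 0 (.prune 13 (.prune 9 (.prune 8 .nil))) (.prune 13 (.node 37 208 0 (.prune 2 .nil) (.node 43 213 0 (.prune 2 .nil) (.node 46 215 0 .nil (.node 52 218 0 .nil (.node 187 239 21 .nil .nil))))))) (.node 27 198 0 (.node 32 202 1 (.prune 12 (.prune 9 (.prune 8 .nil))) (.prune 12 (.node 37 207 1 (.prune 2 .nil) (.node 44 213 1 (.prune 2 .nil) (.node 46 214 1 .nil (.node 53 218 1 .nil (.node 186 238 21 .nil .nil))))))) (.node 31 202 0 (.node 41 205 4 (.prune 9 (.prune 3 .nil)) (.node 42 206 4 (.prune 9 (.prune 3 .nil)) (.prune 9 (.node 52 214 4 .nil (.node 53 215 4 .nil (.node 186 235 24 .nil .nil)))))) (.node 33 203 0 (.node 43 207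 4 (.prune 9 (.prune 2 .nil)) (.node 44 208 4 (.prune 9 (.prune 2 .nil)) (.prune 9 (.node 52 214 4 .nil (.node 53 215 4 .nil (.node 186 235 24 .nil .nil)))))) (.node 36 205 1 (.node 37 208 0 (.prune 6 .nil) (.node 43 213 0 (.prune 6 .nil) (.node 46 215 0 .nil (.node 52 218 0 .nil (.node 187 239 21 .nil .nil))))) (.node 36 206 0 (.node 37 207 1 (.prune 6 .nil) (.node 44 213 1 (.prune 6 .nil) (.node 46 214 1 .nil (.node 53 218 1 .nil (.node 186 238 21 .nil .nil))))) (.node 37 207 1 (.node 41 212 0 (.prune 6 .nil) (.node 46 215 0 .nil (.node 52 218 0 .nil (.node 187 239 21 .nil .nil)))) (.node 37 208 0 (.node 42 212 1 (.prune 6 .nil) (.node 46 214 1 .nil (.node 53 218 1 .nil (.node 186 238 21 .nil .nil)))) (.node 41 212 0 (.node 52 214 4 .nil (.node 53 215 4 .nil (.node 186 235 24 .nil .nil))) (.node 43 213 0 (.node 52 214 4 .nil (.node 53 215 4 .nil (.node 186 235 24 .nil .nil))) (.node 46 214 1 (.node 196 239 26 .nil .nil) (.node 46 215 0 (.node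 195 238 26 .nil .nil) (.node 52 218 0 (.node 195 235 31 .nil .nil) (.node 110 235 0 .nil (.node 119 238 0 .nil (.node 120 239 1 .nil .nil)))))))))))))))))))

/-- Children of candidate 26. -/
def kids26 : Tr :=
  (.node 23 192 0 (.node 30 194 4 (.prune 7 (.prune 12 (.prune 13 (.prune 9 .nil)))) (.node 32 196 4 (.prune 7 (.prune 12 (.prune 11 (.prune 9 .nil)))) (.node 33 197 4 (.prune 13 (.prune 10 (.prune 9 .nil))) (.node 35 199 4 (.prune 11 (.prune 10 (.prune 9 .nil))) (.node 40 204 4 (.prune 5 (.prune 9 .nil)) (.node 42 206 4 (.prune 5 (.prune 9 .nil)) (.node 43 207 4 (.prune 9 .nil) (.node 45 209 4 (.prune 9 .nil) (.prune 9 (.node 194 235 30 .nil .nil)))))))))) (.node 26 194 2 (.node 28 199 0 (.prune 11 (.prune 13 (.prune 8 .nil))) (.node 33 203 0 (.prune 13 (.prune 9 (.prune 8 .nil))) (.node 36 206 0 (.prune 13 (.prune 3 .nil)) (.prune 13 (.node 40 211 0 (.prune 3 .nil) (.node 47 216 0 .nil (.node 52 218 0 .nil (.node 187 239 21 .nil .nil))))))))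 (.node 26 196 0 (.node 28 197 2 (.prune 13 (.prune 11 (.prune 8 .nil))) (.node 35 203 2 (.prune 11 (.prune 9 (.prune 8 .nil))) (.node 36 204 2 (.prune 11 (.prune 3 .nil)) (.prune 11 (.node 42 211 2 (.prune 3 .nil) (.node 47 214 2 .nil (.node 54 218 2 .nil (.node 185 237 21 .nil .nil)))))))) (.node 28 197 2 (.node 30 201 0 (.prune 13 (.prune 9 (.prune 8 .nil))) (.prune 13 (.node 38 209 0 (.prune 1 .nil) (.node 43 213 0 (.prune 1 .nil) (.node 47 216 0 .nil (.node 52 218 0 .nil (.node 187 239 21 .nil .nil))))))) (.node 28 199 0 (.node 32 201 2 (.prune 11 (.prune 9 (.prune 8 .nil))) (.prune 11 (.node 38 207 2 (.prune 1 .nil) (.node 45 213 2 (.prune 1 .nil) (.node 47 214 2 .nil (.node 54 218 2 .nil (.node 185 237 21 .nil .nil))))))) (.node 30 201 0 (.node 40 204 4 (.prune 9 (.prune 3 .nil)) (.node 42 206 4 (.prune 9 (.prune 3 .nil)) (.prune 9 (.node 52 214 4 .nil (.node 54 216 4 .nil (.node 185 235 23 .nil .nil)))))) (.node 33 203 0 (.node 43 207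 4 (.prune 9 (.prune 1 .nil)) (.node 45 209 4 (.prune 9 (.prune 1 .nil)) (.prune 9 (.node 52 214 4 .nil (.node 54 216 4 .nil (.node 185 235 23 .nil .nil)))))) (.node 36 204 2 (.node 38 209 0 (.prune 6 .nil) (.node 43 213 0 (.prune 6 .nil) (.node 47 216 0 .nil (.node 52 218 0 .nil (.node 187 239 21 .nil .nil))))) (.node 36 206 0 (.node 38 207 2 (.prune 6 .nil) (.node 45 213 2 (.prune 6 .nil) (.node 47 214 2 .nil (.node 54 218 2 .nil (.node 185 237 21 .nil .nil))))) (.node 38 207 2 (.node 40 211 0 (.prune 6 .nil) (.node 47 216 0 .nil (.node 52 218 0 .nil (.node 187 239 21 .nil .nil)))) (.node 38 209 0 (.node 42 211 2 (.prune 6 .nil) (.node 47 214 2 .nil (.node 54 218 2 .nil (.node 185 237 21 .nil .nil)))) (.node 40 211 0 (.node 52 214 4 .nil (.node 54 216 4 .nil (.node 185 235 23 .nil .nil))) (.node 43 213 0 (.node 52 214 4 .nil (.node 54 216 4 .nil (.node 185 235 23 .nil .nil))) (.node 47 214 2 (.node 196 239 26 .nil .nil) (.node 47 216 0 (.node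 194 237 26 .nil .nil) (.node 52 218 0 (.node 194 235 30 .nil .nil) (.node 110 235 0 .nil (.node 117 237 0 .nil (.node 122 239 2 .nil .nil)))))))))))))))))))

/-- Children of candidate 27. -/
def kids27 : Tr :=
  (.node 23 191 1 (.node 30 194 4 (.prune 7 (.prune 13 (.prune 12 (.prune 9 .nil)))) (.node 31 195 4 (.prune 7 (.prune 13 (.prune 11 (.prune 9 .nil)))) (.node 34 198 4 (.prune 12 (.prune 10 (.prune 9 .nil))) (.node 35 199 4 (.prune 11 (.prune 10 (.prune 9 .nil))) (.node 40 204 4 (.prune 5 (.prune 9 .nil)) (.node 41 205 4 (.prune 5 (.prune 9 .nil)) (.node 44 208 4 (.prune 9 .nil) (.node 45 209 4 (.prune 9 .nil) (.prune 9 (.node 194 235 30 .nil .nil)))))))))) (.node 26 194 2 (.node 29 199 1 (.prune 11 (.prune 12 (.prune 8 .nil))) (.node 34 203 1 (.prune 12 (.prune 9 (.prune 8 .nil))) (.node 36 205 1 (.prune 12 (.prune 3 .nil)) (.prune 12 (.node 40 210 1 (.prune 3 .nil) (.node 48 216 1 .nil (.node 53 218 1 .nil (.node 186 238 21 .nil .nil))))))))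 (.node 26 195 1 (.node 29 198 2 (.prune 12 (.prune 11 (.prune 8 .nil))) (.node 35 203 2 (.prune 11 (.prune 9 (.prune 8 .nil))) (.node 36 204 2 (.prune 11 (.prune 3 .nil)) (.prune 11 (.node 41 210 2 (.prune 3 .nil) (.node 48 215 2 .nil (.node 54 218 2 .nil (.node 185 237 21 .nil .nil)))))))) (.node 29 198 2 (.node 30 200 1 (.prune 12 (.prune 9 (.prune 8 .nil))) (.prune 12 (.node 39 209 1 (.prune 0 .nil) (.node 44 213 1 (.prune 0 .nil) (.node 48 216 1 .nil (.node 53 218 1 .nil (.node 186 238 21 .nil .nil))))))) (.node 29 199 1 (.node 31 200 2 (.prune 11 (.prune 9 (.prune 8 .nil))) (.prune 11 (.node 39 208 2 (.prune 0 .nil) (.node 45 213 2 (.prune 0 .nil) (.node 48 215 2 .nil (.node 54 218 2 .nil (.node 185 237 21 .nil .nil))))))) (.node 30 200 1 (.node 40 204 4 (.prune 9 (.prune 3 .nil)) (.node 41 205 4 (.prune 9 (.prune 3 .nil)) (.prune 9 (.node 53 215 4 .nil (.node 54 216 4 .nil (.node 185 235 23 .nil .nil)))))) (.node 34 203 1 (.node 44 208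 4 (.prune 9 (.prune 0 .nil)) (.node 45 209 4 (.prune 9 (.prune 0 .nil)) (.prune 9 (.node 53 215 4 .nil (.node 54 216 4 .nil (.node 185 235 23 .nil .nil)))))) (.node 36 204 2 (.node 39 209 1 (.prune 6 .nil) (.node 44 213 1 (.prune 6 .nil) (.node 48 216 1 .nil (.node 53 218 1 .nil (.node 186 238 21 .nil .nil))))) (.node 36 205 1 (.node 39 208 2 (.prune 6 .nil) (.node 45 213 2 (.prune 6 .nil) (.node 48 215 2 .nil (.node 54 218 2 .nil (.node 185 237 21 .nil .nil))))) (.node 39 208 2 (.node 40 210 1 (.prune 6 .nil) (.node 48 216 1 .nil (.node 53 218 1 .nil (.node 186 238 21 .nil .nil)))) (.node 39 209 1 (.node 41 210 2 (.prune 6 .nil) (.node 48 215 2 .nil (.node 54 218 2 .nil (.node 185 237 21 .nil .nil)))) (.node 40 210 1 (.node 53 215 4 .nil (.node 54 216 4 .nil (.node 185 235 23 .nil .nil))) (.node 44 213 1 (.node 53 215 4 .nil (.node 54 216 4 .nil (.node 185 235 23 .nil .nil))) (.node 48 215 2 (.node 195 238 26 .nil .nil) (.node 48 216 1 (.node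 194 237 26 .nil .nil) (.node 53 218 1 (.node 194 235 30 .nil .nil) (.node 111 235 1 .nil (.node 118 237 1 .nil (.node 121 238 2 .nil .nil)))))))))))))))))))

/-- Children of candidate 28. -/
def kids28 : Tr :=
  (.node 27 194 3 (.node 28 199 0 (.prune 13 (.prune 10 (.prune 8 .nil))) (.node 31 202 0 (.prune 13 (.prune 9 (.prune 8 .nil))) (.prune 13 (.node 37 208 0 (.prune 2 .nil) (.node 40 211 0 (.prune 2 .nil) (.node 49 217 0 .nil (.node 52 218 0 .nil (.node 187 239 21 .nil .nil)))))))) (.node 28 195 3 (.node 27 198 0 (.prune 13 (.prune 10 (.prune 8 .nil))) (.node 30 201 0 (.prune 13 (.prune 9 (.prune 8 .nil))) (.prune 13 (.node 38 209 0 (.prune 1 .nil) (.node 41 212 0 (.prune 1 .nil) (.node 49 217 0 .nil (.node 52 218 0 .nil (.node 187 239 21 .nil .nil)))))))) (.node 27 198 0 (.node 35 202 3 (.prune 10 (.prune 9 (.prune 8 .nil))) (.node 37 204 3 (.prune 10 (.prune 2 .nil)) (.prune 10 (.node 44 211 3 (.prune 2 .nil) (.node 49 214 3 .nil (.node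 55 218 3 .nil (.node 184 236 21 .nil .nil))))))) (.node 28 199 0 (.node 34 201 3 (.prune 10 (.prune 9 (.prune 8 .nil))) (.node 38 205 3 (.prune 10 (.prune 1 .nil)) (.prune 10 (.node 45 212 3 (.prune 1 .nil) (.node 49 214 3 .nil (.node 55 218 3 .nil (.node 184 236 21 .nil .nil))))))) (.node 30 201 0 (.node 40 204 4 (.prune 9 (.prune 2 .nil)) (.node 44 208 4 (.prune 9 (.prune 2 .nil)) (.prune 9 (.node 52 214 4 .nil (.node 55 217 4 .nil (.node 184 235 22 .nil .nil)))))) (.node 31 202 0 (.node 41 205 4 (.prune 9 (.prune 1 .nil)) (.node 45 209 4 (.prune 9 (.prune 1 .nil)) (.prune 9 (.node 52 214 4 .nil (.node 55 217 4 .nil (.node 184 235 22 .nil .nil)))))) (.node 37 204 3 (.node 38 209 0 (.prune 6 .nil) (.node 41 212 0 (.prune 6 .nil) (.node 49 217 0 .nil (.node 52 218 0 .nil (.node 187 239 21 .nil .nil))))) (.node 38 205 3 (.node 37 208 0 (.prune 6 .nil) (.node 40 211 0 (.prune 6 .nil) (.node 49 217 0 .nil (.node 52 218 0 .nil (.node 187 239 21 .nil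 .nil))))) (.node 37 208 0 (.node 45 212 3 (.prune 6 .nil) (.node 49 214 3 .nil (.node 55 218 3 .nil (.node 184 236 21 .nil .nil)))) (.node 38 209 0 (.node 44 211 3 (.prune 6 .nil) (.node 49 214 3 .nil (.node 55 218 3 .nil (.node 184 236 21 .nil .nil)))) (.node 40 211 0 (.node 52 214 4 .nil (.node 55 217 4 .nil (.node 184 235 22 .nil .nil))) (.node 41 212 0 (.node 52 214 4 .nil (.node 55 217 4 .nil (.node 184 235 22 .nil .nil))) (.node 49 214 3 (.node 198 239 27 .nil .nil) (.node 49 217 0 (.node 194 236 27 .nil .nil) (.node 52 218 0 (.node 194 235 30 .nil .nil) (.node 110 235 0 .nil (.node 114 236 0 .nil (.node 125 239 3 .nil .nil))))))))))))))))))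

/-- Children of candidate 29. -/
def kids29 : Tr :=
  (.node 27 194 3 (.node 29 199 1 (.prune 12 (.prune 10 (.prune 8 .nil))) (.node 32 202 1 (.prune 12 (.prune 9 (.prune 8 .nil))) (.prune 12 (.node 37 207 1 (.prune 2 .nil) (.node 40 210 1 (.prune 2 .nil) (.node 50 217 1 .nil (.node 53 218 1 .nil (.node 186 238 21 .nil .nil)))))))) (.node 29 196 3 (.node 27 197 1 (.prune 12 (.prune 10 (.prune 8 .nil))) (.node 30 200 1 (.prune 12 (.prune 9 (.prune 8 .nil))) (.prune 12 (.node 39 209 1 (.prune 0 .nil) (.node 42 212 1 (.prune 0 .nil) (.node 50 217 1 .nil (.node 53 218 1 .nil (.node 186 238 21 .nil .nil)))))))) (.node 27 197 1 (.node 35 202 3 (.prune 10 (.prune 9 (.prune 8 .nil))) (.node 37 204 3 (.prune 10 (.prune 2 .nil)) (.prune 10 (.node 43 210 3 (.prune 2 .nil) (.node 50 215 3 .nil (.node 55 218 3 .nil (.node 184 236 21 .nil .nil))))))) (.node 29 199 1 (.node 33 200 3 (.prune 10 (.prune 9 (.prune 8 .nil))) (.node 39 206 3 (.prune 10 (.prune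 0 .nil)) (.prune 10 (.node 45 212 3 (.prune 0 .nil) (.node 50 215 3 .nil (.node 55 218 3 .nil (.node 184 236 21 .nil .nil))))))) (.node 30 200 1 (.node 40 204 4 (.prune 9 (.prune 2 .nil)) (.node 43 207 4 (.prune 9 (.prune 2 .nil)) (.prune 9 (.node 53 215 4 .nil (.node 55 217 4 .nil (.node 184 235 22 .nil .nil)))))) (.node 32 202 1 (.node 42 206 4 (.prune 9 (.prune 0 .nil)) (.node 45 209 4 (.prune 9 (.prune 0 .nil)) (.prune 9 (.node 53 215 4 .nil (.node 55 217 4 .nil (.node 184 235 22 .nil .nil)))))) (.node 37 204 3 (.node 39 209 1 (.prune 6 .nil) (.node 42 212 1 (.prune 6 .nil) (.node 50 217 1 .nil (.node 53 218 1 .nil (.node 186 238 21 .nil .nil))))) (.node 39 206 3 (.node 37 207 1 (.prune 6 .nil) (.node 40 210 1 (.prune 6 .nil) (.node 50 217 1 .nil (.node 53 218 1 .nil (.node 186 238 21 .nil .nil))))) (.node 37 207 1 (.node 45 212 3 (.prune 6 .nil) (.node 50 215 3 .nil (.node 55 218 3 .nil (.node 184 236 21 .nil .nil)))) (.node 39 209 1 (.node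 43 210 3 (.prune 6 .nil) (.node 50 215 3 .nil (.node 55 218 3 .nil (.node 184 236 21 .nil .nil)))) (.node 40 210 1 (.node 53 215 4 .nil (.node 55 217 4 .nil (.node 184 235 22 .nil .nil))) (.node 42 212 1 (.node 53 215 4 .nil (.node 55 217 4 .nil (.node 184 235 22 .nil .nil))) (.node 50 215 3 (.node 197 238 27 .nil .nil) (.node 50 217 1 (.node 194 236 27 .nil .nil) (.node 53 218 1 (.node 194 235 30 .nil .nil) (.node 111 235 1 .nil (.node 115 236 1 .nil (.node 124 238 3 .nil .nil))))))))))))))))))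

/-- Children of candidate 30. -/
def kids30 : Tr :=
  (.node 28 195 3 (.node 29 198 2 (.prune 11 (.prune 10 (.prune 8 .nil))) (.node 32 201 2 (.prune 11 (.prune 9 (.prune 8 .nil))) (.prune 11 (.node 38 207 2 (.prune 1 .nil) (.node 41 210 2 (.prune 1 .nil) (.node 51 217 2 .nil (.node 54 218 2 .nil (.node 185 237 21 .nil .nil)))))))) (.node 29 196 3 (.node 28 197 2 (.prune 11 (.prune 10 (.prune 8 .nil))) (.node 31 200 2 (.prune 11 (.prune 9 (.prune 8 .nil))) (.prune 11 (.node 39 208 2 (.prune 0 .nil) (.node 42 211 2 (.prune 0 .nil) (.node 51 217 2 .nil (.node 54 218 2 .nil (.node 185 237 21 .nil .nil)))))))) (.node 28 197 2 (.node 34 201 3 (.prune 10 (.prune 9 (.prune 8 .nil))) (.node 38 205 3 (.prune 10 (.prune 1 .nil)) (.prune 10 (.node 43 210 3 (.prune 1 .nil) (.node 51 216 3 .nil (.node 55 218 3 .nil (.node 184 236 21 .nil .nil))))))) (.node 29 198 2 (.node 33 200 3 (.prune 10 (.prune 9 (.prune 8 .nil))) (.node 39 206 3 (.prune 10 (.prune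 0 .nil)) (.prune 10 (.node 44 211 3 (.prune 0 .nil) (.node 51 216 3 .nil (.node 55 218 3 .nil (.node 184 236 21 .nil .nil))))))) (.node 31 200 2 (.node 41 205 4 (.prune 9 (.prune 1 .nil)) (.node 43 207 4 (.prune 9 (.prune 1 .nil)) (.prune 9 (.node 54 216 4 .nil (.node 55 217 4 .nil (.node 184 235 22 .nil .nil)))))) (.node 32 201 2 (.node 42 206 4 (.prune 9 (.prune 0 .nil)) (.node 44 208 4 (.prune 9 (.prune 0 .nil)) (.prune 9 (.node 54 216 4 .nil (.node 55 217 4 .nil (.node 184 235 22 .nil .nil)))))) (.node 38 205 3 (.node 39 208 2 (.prune 6 .nil) (.node 42 211 2 (.prune 6 .nil) (.node 51 217 2 .nil (.node 54 218 2 .nil (.node 185 237 21 .nil .nil))))) (.node 39 206 3 (.node 38 207 2 (.prune 6 .nil) (.node 41 210 2 (.prune 6 .nil) (.node 51 217 2 .nil (.node 54 218 2 .nil (.node 185 237 21 .nil .nil))))) (.node 38 207 2 (.node 44 211 3 (.prune 6 .nil) (.node 51 216 3 .nil (.node 55 218 3 .nil (.node 184 236 21 .nil .nil)))) (.node 39 208 2 (.node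 43 210 3 (.prune 6 .nil) (.node 51 216 3 .nil (.node 55 218 3 .nil (.node 184 236 21 .nil .nil)))) (.node 41 210 2 (.node 54 216 4 .nil (.node 55 217 4 .nil (.node 184 235 22 .nil .nil))) (.node 42 211 2 (.node 54 216 4 .nil (.node 55 217 4 .nil (.node 184 235 22 .nil .nil))) (.node 51 216 3 (.node 197 237 28 .nil .nil) (.node 51 217 2 (.node 195 236 28 .nil .nil) (.node 54 218 2 (.node 195 235 31 .nil .nil) (.node 112 235 2 .nil (.node 116 236 2 .nil (.node 123 237 3 .nil .nil))))))))))))))))))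

/-- Children of candidate 31. -/
def kids31 : Tr :=
  (.node 28 199 0 (.node 47 205 5 (.prune 4 (.prune 8 .nil)) (.node 48 206 5 (.prune 4 (.prune 8 .nil)) (.node 49 207 5 (.prune 8 .nil) (.node 50 208 5 (.prune 8 .nil) (.prune 8 (.node 189 234 31 .nil .nil)))))) (.node 31 202 0 (.node 47 205 5 (.prune 3 (.prune 8 .nil)) (.node 48 206 5 (.prune 3 (.prune 8 .nil)) (.node 52 210 5 (.prune 8 .nil) (.node 53 211 5 (.prune 8 .nil) (.prune 8 (.node 186 234 28 .nil .nil)))))) (.node 33 203 0 (.node 49 207 5 (.prune 2 (.prune 8 .nil)) (.node 50 208 5 (.prune 2 (.prune 8 .nil)) (.node 52 210 5 (.prune 8 .nil) (.node 53 211 5 (.prune 8 .nil) (.prune 8 (.node 186 234 28 .nil .nil)))))) (.node 36 205 1 (.node 37 208 0 (.prune 6 .nil) (.node 40 211 0 (.prune 6 .nil) (.node 49 217 0 .nil (.node 52 218 0 .nil (.node 187 239 21 .nil .nil))))) (.node 36 206 0 (.node 37 207 1 (.prune 6 .nil) (.node 40 210 1 (.prune 6 .nil) (.node 50 217 1 .nil (.node 53 218 1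 .nil (.node 186 238 21 .nil .nil))))) (.node 37 207 1 (.node 40 211 0 (.prune 6 .nil) (.node 47 216 0 .nil (.node 52 218 0 .nil (.node 187 239 21 .nil .nil)))) (.node 37 208 0 (.node 40 210 1 (.prune 6 .nil) (.node 48 216 1 .nil (.node 53 218 1 .nil (.node 186 238 21 .nil .nil)))) (.node 40 210 1 (.node 47 216 0 .nil (.node 49 217 0 .nil (.node 190 239 22 .nil .nil))) (.node 40 211 0 (.node 48 216 1 .nil (.node 50 217 1 .nil (.node 189 238 22 .nil .nil))) (.node 47 216 0 (.node 186 234 28 .nil .nil) (.node 49 217 0 (.node 186 234 28 .nil .nil) (.node 52 218 0 (.node 189 234 31 .nil .nil) (.node 105 234 0 .nil (.node 119 238 0 .nil (.node 120 239 1 .nil .nil)))))))))))))))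

/-- Children of candidate 32. -/
def kids32 : Tr :=
  (.node 27 198 0 (.node 46 204 5 (.prune 4 (.prune 8 .nil)) (.node 48 206 5 (.prune 4 (.prune 8 .nil)) (.node 49 207 5 (.prune 8 .nil) (.node 51 209 5 (.prune 8 .nil) (.prune 8 (.node 188 234 30 .nil .nil)))))) (.node 30 201 0 (.node 46 204 5 (.prune 3 (.prune 8 .nil)) (.node 48 206 5 (.prune 3 (.prune 8 .nil)) (.node 52 210 5 (.prune 8 .nil) (.node 54 212 5 (.prune 8 .nil) (.prune 8 (.node 185 234 27 .nil .nil)))))) (.node 33 203 0 (.node 49 207 5 (.prune 1 (.prune 8 .nil)) (.node 51 209 5 (.prune 1 (.prune 8 .nil)) (.node 52 210 5 (.prune 8 .nil) (.node 54 212 5 (.prune 8 .nil) (.prune 8 (.node 185 234 27 .nil .nil)))))) (.node 36 204 2 (.node 38 209 0 (.prune 6 .nil) (.node 41 212 0 (.prune 6 .nil) (.node 49 217 0 .nil (.node 52 218 0 .nil (.node 187 239 21 .nil .nil))))) (.node 36 206 0 (.node 38 207 2 (.prune 6 .nil) (.node 41 210 2 (.prune 6 .nil) (.node 51 217 2 .nil (.node 54 218 2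 .nil (.node 185 237 21 .nil .nil))))) (.node 38 207 2 (.node 41 212 0 (.prune 6 .nil) (.node 46 215 0 .nil (.node 52 218 0 .nil (.node 187 239 21 .nil .nil)))) (.node 38 209 0 (.node 41 210 2 (.prune 6 .nil) (.node 48 215 2 .nil (.node 54 218 2 .nil (.node 185 237 21 .nil .nil)))) (.node 41 210 2 (.node 46 215 0 .nil (.node 49 217 0 .nil (.node 190 239 22 .nil .nil))) (.node 41 212 0 (.node 48 215 2 .nil (.node 51 217 2 .nil (.node 188 237 22 .nil .nil))) (.node 46 215 0 (.node 185 234 27 .nil .nil) (.node 49 217 0 (.node 185 234 27 .nil .nil) (.node 52 218 0 (.node 188 234 30 .nil .nil) (.node 105 234 0 .nil (.node 117 237 0 .nil (.node 122 239 2 .nil .nil)))))))))))))))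

/-- Children of candidate 33. -/
def kids33 : Tr :=
  (.node 27 197 1 (.node 46 204 5 (.prune 4 (.prune 8 .nil)) (.node 47 205 5 (.prune 4 (.prune 8 .nil)) (.node 50 208 5 (.prune 8 .nil) (.node 51 209 5 (.prune 8 .nil) (.prune 8 (.node 188 234 30 .nil .nil)))))) (.node 30 200 1 (.node 46 204 5 (.prune 3 (.prune 8 .nil)) (.node 47 205 5 (.prune 3 (.prune 8 .nil)) (.node 53 211 5 (.prune 8 .nil) (.node 54 212 5 (.prune 8 .nil) (.prune 8 (.node 185 234 27 .nil .nil)))))) (.node 34 203 1 (.node 50 208 5 (.prune 0 (.prune 8 .nil)) (.node 51 209 5 (.prune 0 (.prune 8 .nil)) (.node 53 211 5 (.prune 8 .nil) (.node 54 212 5 (.prune 8 .nil) (.prune 8 (.node 185 234 27 .nil .nil)))))) (.node 36 204 2 (.node 39 209 1 (.prune 6 .nil) (.node 42 212 1 (.prune 6 .nil) (.node 50 217 1 .nil (.node 53 218 1 .nil (.node 186 238 21 .nil .nil))))) (.node 36 205 1 (.node 39 208 2 (.prune 6 .nil) (.node 42 211 2 (.prune 6 .nil) (.node 51 217 2 .nil (.node 54 218 2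 .nil (.node 185 237 21 .nil .nil))))) (.node 39 208 2 (.node 42 212 1 (.prune 6 .nil) (.node 46 214 1 .nil (.node 53 218 1 .nil (.node 186 238 21 .nil .nil)))) (.node 39 209 1 (.node 42 211 2 (.prune 6 .nil) (.node 47 214 2 .nil (.node 54 218 2 .nil (.node 185 237 21 .nil .nil)))) (.node 42 211 2 (.node 46 214 1 .nil (.node 50 217 1 .nil (.node 189 238 22 .nil .nil))) (.node 42 212 1 (.node 47 214 2 .nil (.node 51 217 2 .nil (.node 188 237 22 .nil .nil))) (.node 46 214 1 (.node 185 234 27 .nil .nil) (.node 50 217 1 (.node 185 234 27 .nil .nil) (.node 53 218 1 (.node 188 234 30 .nil .nil) (.node 106 234 1 .nil (.node 118 237 1 .nil (.node 121 238 2 .nil .nil)))))))))))))))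

/-- Children of candidate 34. -/
def kids34 : Tr :=
  (.node 30 201 0 (.node 46 204 5 (.prune 2 (.prune 8 .nil)) (.node 50 208 5 (.prune 2 (.prune 8 .nil)) (.node 52 210 5 (.prune 8 .nil) (.node 55 213 5 (.prune 8 .nil) (.prune 8 (.node 184 234 26 .nil .nil)))))) (.node 31 202 0 (.node 47 205 5 (.prune 1 (.prune 8 .nil)) (.node 51 209 5 (.prune 1 (.prune 8 .nil)) (.node 52 210 5 (.prune 8 .nil) (.node 55 213 5 (.prune 8 .nil) (.prune 8 (.node 184 234 26 .nil .nil)))))) (.node 37 204 3 (.node 38 209 0 (.prune 6 .nil) (.node 43 213 0 (.prune 6 .nil) (.node 47 216 0 .nil (.node 52 218 0 .nil (.node 187 239 21 .nil .nil))))) (.node 38 205 3 (.node 37 208 0 (.prune 6 .nil) (.node 43 213 0 (.prune 6 .nil) (.node 46 215 0 .nil (.node 52 218 0 .nil (.node 187 239 21 .nil .nil))))) (.node 37 208 0 (.node 43 210 3 (.prune 6 .nil) (.node 51 216 3 .nil (.node 55 218 3 .nil (.node 184 236 21 .nil .nil)))) (.node 38 209 0 (.node 43 210 3 (.prune 6 .nil) (.node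 50 215 3 .nil (.node 55 218 3 .nil (.node 184 236 21 .nil .nil)))) (.node 43 210 3 (.node 46 215 0 .nil (.node 47 216 0 .nil (.node 192 239 23 .nil .nil))) (.node 43 213 0 (.node 50 215 3 .nil (.node 51 216 3 .nil (.node 188 236 23 .nil .nil))) (.node 46 215 0 (.node 184 234 26 .nil .nil) (.node 47 216 0 (.node 184 234 26 .nil .nil) (.node 52 218 0 (.node 188 234 30 .nil .nil) (.node 105 234 0 .nil (.node 114 236 0 .nil (.node 125 239 3 .nil .nil))))))))))))))

/-- Children of candidate 35. -/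
def kids35 : Tr :=
  (.node 30 200 1 (.node 46 204 5 (.prune 2 (.prune 8 .nil)) (.node 49 207 5 (.prune 2 (.prune 8 .nil)) (.node 53 211 5 (.prune 8 .nil) (.node 55 213 5 (.prune 8 .nil) (.prune 8 (.node 184 234 26 .nil .nil)))))) (.node 32 202 1 (.node 48 206 5 (.prune 0 (.prune 8 .nil)) (.node 51 209 5 (.prune 0 (.prune 8 .nil)) (.node 53 211 5 (.prune 8 .nil) (.node 55 213 5 (.prune 8 .nil) (.prune 8 (.node 184 234 26 .nil .nil)))))) (.node 37 204 3 (.node 39 209 1 (.prune 6 .nil) (.node 44 213 1 (.prune 6 .nil) (.node 48 216 1 .nil (.node 53 218 1 .nil (.node 186 238 21 .nil .nil))))) (.node 39 206 3 (.node 37 207 1 (.prune 6 .nil) (.node 44 213 1 (.prune 6 .nil) (.node 46 214 1 .nil (.node 53 218 1 .nil (.node 186 238 21 .nil .nil))))) (.node 37 207 1 (.node 44 211 3 (.prune 6 .nil) (.node 51 216 3 .nil (.node 55 218 3 .nil (.node 184 236 21 .nil .nil)))) (.node 39 209 1 (.node 44 211 3 (.prune 6 .nil) (.node 49 214 3 .nil (.node 55 218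 3 .nil (.node 184 236 21 .nil .nil)))) (.node 44 211 3 (.node 46 214 1 .nil (.node 48 216 1 .nil (.node 191 238 23 .nil .nil))) (.node 44 213 1 (.node 49 214 3 .nil (.node 51 216 3 .nil (.node 188 236 23 .nil .nil))) (.node 46 214 1 (.node 184 234 26 .nil .nil) (.node 48 216 1 (.node 184 234 26 .nil .nil) (.node 53 218 1 (.node 188 234 30 .nil .nil) (.node 106 234 1 .nil (.node 115 236 1 .nil (.node 124 238 3 .nil .nil))))))))))))))

/-- Children of candidate 36. -/
def kids36 : Tr :=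
  (.node 31 200 2 (.node 47 205 5 (.prune 1 (.prune 8 .nil)) (.node 49 207 5 (.prune 1 (.prune 8 .nil)) (.node 54 212 5 (.prune 8 .nil) (.node 55 213 5 (.prune 8 .nil) (.prune 8 (.node 184 234 26 .nil .nil)))))) (.node 32 201 2 (.node 48 206 5 (.prune 0 (.prune 8 .nil)) (.node 50 208 5 (.prune 0 (.prune 8 .nil)) (.node 54 212 5 (.prune 8 .nil) (.node 55 213 5 (.prune 8 .nil) (.prune 8 (.node 184 234 26 .nil .nil)))))) (.node 38 205 3 (.node 39 208 2 (.prune 6 .nil) (.node 45 213 2 (.prune 6 .nil) (.node 48 215 2 .nil (.node 54 218 2 .nil (.node 185 237 21 .nil .nil))))) (.node 39 206 3 (.node 38 207 2 (.prune 6 .nil) (.node 45 213 2 (.prune 6 .nil) (.node 47 214 2 .nil (.node 54 218 2 .nil (.node 185 237 21 .nil .nil))))) (.node 38 207 2 (.node 45 212 3 (.prune 6 .nil) (.node 50 215 3 .nil (.node 55 218 3 .nil (.node 184 236 21 .nil .nil)))) (.node 39 208 2 (.node 45 212 3 (.prune 6 .nil) (.node 49 214 3 .nil (.node 55 218 3 .nil (.node 184 236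 21 .nil .nil)))) (.node 45 212 3 (.node 47 214 2 .nil (.node 48 215 2 .nil (.node 191 237 24 .nil .nil))) (.node 45 213 2 (.node 49 214 3 .nil (.node 50 215 3 .nil (.node 189 236 24 .nil .nil))) (.node 47 214 2 (.node 184 234 26 .nil .nil) (.node 48 215 2 (.node 184 234 26 .nil .nil) (.node 54 218 2 (.node 189 234 31 .nil .nil) (.node 107 234 2 .nil (.node 116 236 2 .nil (.node 123 237 3 .nil .nil))))))))))))))

/-- Children of candidate 37. -/
def kids37 : Tr :=
  (.node 40 204 4 (.node 41 212 0 (.prune 6 .nil) (.node 43 213 0 (.prune 6 .nil) (.node 47 216 0 .nil (.node 49 217 0 .nil (.node 190 239 22 .nil .nil))))) (.node 41 205 4 (.node 40 211 0 (.prune 6 .nil) (.node 43 213 0 (.prune 6 .nil) (.node 46 215 0 .nil (.node 49 217 0 .nil (.node 190 239 22 .nil .nil))))) (.node 43 207 4 (.node 40 211 0 (.prune 6 .nil) (.node 41 212 0 (.prune 6 .nil) (.node 46 215 0 .nil (.node 47 216 0 .nil (.node 192 239 23 .nil .nil))))) (.node 40 211 0 (.node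 54 216 4 .nil (.node 55 217 4 .nil (.node 184 235 22 .nil .nil))) (.node 41 212 0 (.node 53 215 4 .nil (.node 55 217 4 .nil (.node 184 235 22 .nil .nil))) (.node 43 213 0 (.node 53 215 4 .nil (.node 54 216 4 .nil (.node 185 235 23 .nil .nil))) (.node 46 215 0 (.node 184 234 26 .nil .nil) (.node 47 216 0 (.node 184 234 26 .nil .nil) (.node 49 217 0 (.node 185 234 27 .nil .nil) (.node 105 234 0 .nil (.node 110 235 0 .nil (.node 129 239 4 .nil .nil))))))))))))

/-- Children of candidate 38. -/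
def kids38 : Tr :=
  (.node 40 204 4 (.node 42 212 1 (.prune 6 .nil) (.node 44 213 1 (.prune 6 .nil) (.node 48 216 1 .nil (.node 50 217 1 .nil (.node 189 238 22 .nil .nil))))) (.node 42 206 4 (.node 40 210 1 (.prune 6 .nil) (.node 44 213 1 (.prune 6 .nil) (.node 46 214 1 .nil (.node 50 217 1 .nil (.node 189 238 22 .nil .nil))))) (.node 44 208 4 (.node 40 210 1 (.prune 6 .nil) (.node 42 212 1 (.prune 6 .nil) (.node 46 214 1 .nil (.node 48 216 1 .nil (.node 191 238 23 .nil .nil))))) (.node 40 210 1 (.node 54 216 4 .nil (.node 55 217 4 .nil (.node 184 235 22 .nil .nil))) (.node 42 212 1 (.node 52 214 4 .nil (.node 55 217 4 .nil (.node 184 235 22 .nil .nil))) (.node 44 213 1 (.node 52 214 4 .nil (.node 54 216 4 .nil (.node 185 235 23 .nil .nil))) (.node 46 214 1 (.node 184 234 26 .nil .nil) (.node 48 216 1 (.node 184 234 26 .nil .nil) (.node 50 217 1 (.node 185 234 27 .nil .nil) (.node 106 234 1 .nil (.node 111 235 1 .nil (.node 128 238 4 .nil .nil))))))))))))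

/-- Children of candidate 39. -/
def kids39 : Tr :=
  (.node 41 205 4 (.node 42 211 2 (.prune 6 .nil) (.node 45 213 2 (.prune 6 .nil) (.node 48 215 2 .nil (.node 51 217 2 .nil (.node 188 237 22 .nil .nil))))) (.node 42 206 4 (.node 41 210 2 (.prune 6 .nil) (.node 45 213 2 (.prune 6 .nil) (.node 47 214 2 .nil (.node 51 217 2 .nil (.node 188 237 22 .nil .nil))))) (.node 45 209 4 (.node 41 210 2 (.prune 6 .nil) (.node 42 211 2 (.prune 6 .nil) (.node 47 214 2 .nil (.node 48 215 2 .nil (.node 191 237 24 .nil .nil))))) (.node 41 210 2 (.node 53 215 4 .nil (.node 55 217 4 .nil (.node 184 235 22 .nil .nil))) (.node 42 211 2 (.node 52 214 4 .nil (.node 55 217 4 .nil (.node 184 235 22 .nil .nil))) (.node 45 213 2 (.node 52 214 4 .nil (.node 53 215 4 .nil (.node 186 235 24 .nil .nil))) (.node 47 214 2 (.node 184 234 26 .nil .nil) (.node 48 215 2 (.node 184 234 26 .nil .nil) (.node 51 217 2 (.node 186 234 28 .nil .nil) (.node 107 234 2 .nil (.node 112 235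 2 .nil (.node 127 237 4 .nil .nil))))))))))))

/-- Children of candidate 40. -/
def kids40 : Tr :=
  (.node 43 207 4 (.node 44 211 3 (.prune 6 .nil) (.node 45 212 3 (.prune 6 .nil) (.node 50 215 3 .nil (.node 51 216 3 .nil (.node 188 236 23 .nil .nil))))) (.node 44 208 4 (.node 43 210 3 (.prune 6 .nil) (.node 45 212 3 (.prune 6 .nil) (.node 49 214 3 .nil (.node 51 216 3 .nil (.node 188 236 23 .nil .nil))))) (.node 45 209 4 (.node 43 210 3 (.prune 6 .nil) (.node 44 211 3 (.prune 6 .nil) (.node 49 214 3 .nil (.node 50 215 3 .nil (.node 189 236 24 .nil .nil))))) (.node 43 210 3 (.node 53 215 4 .nil (.node 54 216 4 .nil (.node 185 235 23 .nil .nil))) (.node 44 211 3 (.node 52 214 4 .nil (.node 54 216 4 .nil (.node 185 235 23 .nil .nil))) (.node 45 212 3 (.node 52 214 4 .nil (.node 53 215 4 .nil (.node 186 235 24 .nil .nil))) (.node 49 214 3 (.node 185 234 27 .nil .nil) (.node 50 215 3 (.node 185 234 27 .nil .nil) (.node 51 216 3 (.node 186 234 28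 .nil .nil) (.node 108 234 3 .nil (.node 113 235 3 .nil (.node 126 236 4 .nil .nil))))))))))))

/-- Children of candidate 41. -/
def kids41 : Tr :=
  (.node 38 209 0 (.prune 6 (.node 189 232 41 .nil .nil)) (.node 41 212 0 (.prune 6 (.node 186 232 38 .nil .nil)) (.node 43 213 0 (.prune 6 (.node 186 232 38 .nil .nil)) (.node 47 216 0 (.node 186 232 38 .nil .nil) (.node 49 217 0 (.node 186 232 38 .nil .nil) (.node 52 218 0 (.node 189 232 41 .nil .nil) (.node 93 232 0 .nil (.node 119 238 0 .nil (.node 120 239 1 .nil .nil)))))))))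

/-- Children of candidate 42. -/
def kids42 : Tr :=
  (.node 37 208 0 (.prune 6 (.node 188 232 40 .nil .nil)) (.node 40 211 0 (.prune 6 (.node 185 232 37 .nil .nil)) (.node 43 213 0 (.prune 6 (.node 185 232 37 .nil .nil)) (.node 46 215 0 (.node 185 232 37 .nil .nil) (.node 49 217 0 (.node 185 232 37 .nil .nil) (.node 52 218 0 (.node 188 232 40 .nil .nil) (.node 93 232 0 .nil (.node 117 237 0 .nil (.node 122 239 2 .nil .nil)))))))))

/-- Children of candidate 43. -/
def kids43 : Tr :=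
  (.node 37 207 1 (.prune 6 (.node 188 232 40 .nil .nil)) (.node 40 210 1 (.prune 6 (.node 185 232 37 .nil .nil)) (.node 44 213 1 (.prune 6 (.node 185 232 37 .nil .nil)) (.node 46 214 1 (.node 185 232 37 .nil .nil) (.node 50 217 1 (.node 185 232 37 .nil .nil) (.node 53 218 1 (.node 188 232 40 .nil .nil) (.node 94 232 1 .nil (.node 118 237 1 .nil (.node 121 238 2 .nil .nil)))))))))

/-- Children of candidate 44. -/
def kids44 : Tr :=
  (.node 40 211 0 (.prune 6 (.node 184 232 36 .nil .nil)) (.node 41 212 0 (.prune 6 (.node 184 232 36 .nil .nil)) (.node 46 215 0 (.node 184 232 36 .nil .nil) (.node 47 216 0 (.node 184 232 36 .nil .nil) (.node 52 218 0 (.node 188 232 40 .nil .nil) (.node 93 232 0 .nil (.node 114 236 0 .nil (.node 125 239 3 .nil .nil))))))))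

/-- Children of candidate 45. -/
def kids45 : Tr :=
  (.node 40 210 1 (.prune 6 (.node 184 232 36 .nil .nil)) (.node 42 212 1 (.prune 6 (.node 184 232 36 .nil .nil)) (.node 46 214 1 (.node 184 232 36 .nil .nil) (.node 48 216 1 (.node 184 232 36 .nil .nil) (.node 53 218 1 (.node 188 232 40 .nil .nil) (.node 94 232 1 .nil (.node 115 236 1 .nil (.node 124 238 3 .nil .nil))))))))

/-- Children of candidate 46. -/
def kids46 : Tr :=
  (.node 41 210 2 (.prune 6 (.node 184 232 36 .nil .nil)) (.node 42 211 2 (.prune 6 (.node 184 232 36 .nil .nil)) (.node 47 214 2 (.node 184 232 36 .nil .nil) (.node 48 215 2 (.node 184 232 36 .nil .nil) (.node 54 218 2 (.node 189 232 41 .nil .nil) (.node 95 232 2 .nil (.node 116 236 2 .nil (.node 123 237 3 .nil .nil))))))))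

/-- Children of candidate 47. -/
def kids47 : Tr :=
  (.node 46 215 0 (.node 184 232 36 .nil .nil) (.node 47 216 0 (.node 184 232 36 .nil .nil) (.node 49 217 0 (.node 185 232 37 .nil .nil) (.node 93 232 0 .nil (.node 110 235 0 .nil (.node 129 239 4 .nil .nil))))))

/-- Children of candidate 48. -/
def kids48 : Tr :=
  (.node 46 214 1 (.node 184 232 36 .nil .nil) (.node 48 216 1 (.node 184 232 36 .nil .nil) (.node 50 217 1 (.node 185 232 37 .nil .nil) (.node 94 232 1 .nil (.node 111 235 1 .nil (.node 128 238 4 .nil .nil))))))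

/-- Children of candidate 49. -/
def kids49 : Tr :=
  (.node 47 214 2 (.node 184 232 36 .nil .nil) (.node 48 215 2 (.node 184 232 36 .nil .nil) (.node 51 217 2 (.node 186 232 38 .nil .nil) (.node 95 232 2 .nil (.node 112 235 2 .nil (.node 127 237 4 .nil .nil))))))

/-- Children of candidate 50. -/
def kids50 : Tr :=
  (.node 49 214 3 (.node 185 232 37 .nil .nil) (.node 50 215 3 (.node 185 232 37 .nil .nil) (.node 51 216 3 (.node 186 232 38 .nil .nil) (.node 96 232 3 .nil (.node 113 235 3 .nil (.node 126 236 4 .nil .nil))))))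

/-- Children of candidate 51. -/
def kids51 : Tr :=
  (.node 93 232 0 .nil (.node 105 234 0 .nil (.node 134 239 5 .nil .nil)))

/-- Children of candidate 52. -/
def kids52 : Tr :=
  (.node 94 232 1 .nil (.node 106 234 1 .nil (.node 133 238 5 .nil .nil)))

/-- Children of candidate 53. -/
def kids53 : Tr :=
  (.node 95 232 2 .nil (.node 107 234 2 .nil (.node 132 237 5 .nil .nil)))

/-- Children of candidate 54. -/
def kids54 : Tr :=
  (.node 96 232 3 .nil (.node 108 234 3 .nil (.node 131 236 5 .nil .nil)))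

/-- Children of candidate 55. -/
def kids55 : Tr :=
  (.node 97 232 4 .nil (.node 109 234 4 .nil (.node 130 235 5 .nil .nil)))

/-- Children of candidate 56. -/
def kids56 : Tr :=
  .nil

/-- Children of candidate 57. -/
def kids57 : Tr :=
  .nil

/-- Children of candidate 58. -/
def kids58 : Tr :=
  .nil

/-- Children of candidate 59. -/
def kids59 : Tr :=
  .nil

/-- Children of candidate 60. -/
def kids60 : Tr :=
  .nil

/-- Children of candidate 61. -/
def kids61 : Tr :=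
  .nil

/-- Children of candidate 62. -/
def kids62 : Tr :=
  .nil

/-- The forest at the fundamental root 0. -/
def tree0 : Tr :=
  (.node 1 120 0 kids0 (.node 2 121 1 kids1 (.node 2 122 0 kids2 (.node 3 123 2 kids3 (.node 3 124 1 kids4 (.node 3 125 0 kids5 (.node 4 126 3 kids6 (.node 4 127 2 kids7 (.node 4 128 1 kids8 (.node 4 129 0 kids9 (.node 5 130 4 kids10 (.node 5 131 3 kids11 (.node 5 132 2 kids12 (.node 5 133 1 kids13 (.node 5 134 0 kids14 (.node 7 141 5 kids15 (.node 7 142 4 kids16 (.node 7 143 3 kids17 (.node 7 144 2 kids18 (.node 7 145 1 kids19 (.node 7 146 0 kids20 (.node 21 184 3 kids21 (.node 21 185 2 kids22 (.node 21 186 1 kids23 (.node 21 187 0 kids24 (.node 22 188 2 kids25 (.node 22 189 1 kids26 (.node 22 190 0 kids27 (.node 23 191 1 kids28 (.node 23 192 0 kids29 (.node 24 193 0 kids30 (.node 26 194 2 kids31 (.node 26 195 1 kids32 (.node 26 196 0 kids33 (.node 27 197 1 kids34 (.node 27 198 0 kids35 (.node 28 199 0 kids36 (.node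 30 200 1 kids37 (.node 30 201 0 kids38 (.node 31 202 0 kids39 (.node 33 203 0 kids40 (.node 36 204 2 kids41 (.node 36 205 1 kids42 (.node 36 206 0 kids43 (.node 37 207 1 kids44 (.node 37 208 0 kids45 (.node 38 209 0 kids46 (.node 40 210 1 kids47 (.node 40 211 0 kids48 (.node 41 212 0 kids49 (.node 43 213 0 kids50 (.node 46 214 1 kids51 (.node 46 215 0 kids52 (.node 47 216 0 kids53 (.node 49 217 0 kids54 (.node 52 218 0 kids55 (.node 93 232 0 kids56 (.node 105 234 0 kids57 (.node 110 235 0 kids58 (.node 114 236 0 kids59 (.node 117 237 0 kids60 (.node 119 238 0 kids61 (.node 120 239 1 kids62 .nil)))))))))))))))))))))))))))))))))))))))))))))))))))))))))))))))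

end Cfsg.Lib.Chev.InvSemi.E8
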