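import Cfsg.Agent.Chev.InvSemi.E8Pr
import Cfsg.Agent.Chev.InvSemi.E8Tree
import Cfsg.Agent.Chev.Springer.Data

/-! The complete forest of E₈. -/

set_option autoImplicit false

open Cfsg.Lie

namespace Cfsg.Lib.Chev.InvSemi.E8

theorem top0 : okTop chevE8 Cfsg.Lib.Chev.E8.htTab prTab (Cfsg.Lib.Chev.E8.cert.sr 0) 14 162 6 tree0 = true := by
  decide +kernel

end Cfsg.Lib.Chev.InvSemi.E8
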