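import Cfsg.Agent.Chev.InvSemi.Assemble
import Cfsg.Agent.Chev.InvSemi.F4Cls
import Cfsg.Agent.Chev.Springer.Data

/-! Kernel checks of the class certificates of F4. -/

set_option autoImplicit false

open Cfsg.Lie

namespace Cfsg.Lib.Chev.InvSemi.F4

theorem cls : okCls Cfsg.Lib.Chev.F4.cert chevF4.rank 1 4 words = true := by decide +kernel

theorem cert3 : ClassCert chevF4 Cfsg.Lib.Chev.F4.cert 1 wdata3 levs3 orb3 [2, 4, 6, 8] 16 :=
  ⟨by decide +kernel, by decide +kernel, by decide +kernel, by decide +kernel, by decide +kernel, by decide +kernel,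
    by decide +kernel, by decide +kernel⟩

theorem cert12 : ClassCert chevF4 Cfsg.Lib.Chev.F4.cert 4 wdata12 levs12 orb12 [2, 4, 6, 2] 10 :=
  ⟨by decide +kernel, by decide +kernel, by decide +kernel, by decide +kernel, by decide +kernel, by decide +kernel,
    by decide +kernel, by decide +kernel⟩

theorem size3 : levSize levs3 * orb3.length = [2, 6, 8, 12].prod := by
  decide +kernel

theorem size12 : levSize levs12 * orb12.length = [2, 6, 8, 12].prod := by
  decide +kernel

end Cfsg.Lib.Chev.InvSemi.F4
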