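import Cfsg.Agent.Chev.InvSemi.Walk

/-! Witness forests for F4. -/

set_option autoImplicit false

namespace Cfsg.Lib.Chev.InvSemi.F4

/-- The forest at the fundamental root 0. -/
def tree0 : Tr :=
  (.node 1 24 0 (.prune 4 (.prune 5 .nil)) (.node 2 25 1 (.prune 6 (.prune 4 .nil)) (.node 2 26 0 (.prune 5 (.prune 4 .nil)) (.prune 6 (.prune 5 (.prune 4 (.node 21 45 0 .nil (.node 23 46 0 .nil (.node 24 47 1 .nil .nil)))))))))

/-- The forest at the fundamental root 2. -/
def tree2 : Tr :=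
  (.node 10 29 7 (.prune 15 (.prune 0 .nil)) (.prune 19 (.node 7 33 3 (.prune 6 (.prune 4 .nil)) (.node 10 36 3 (.prune 0 (.prune 4 .nil)) (.node 11 37 3 (.prune 1 .nil) (.node 14 40 3 (.prune 1 .nil) (.prune 12 (.node 33 44 7 .nil (.prune 8 .nil)))))))))

end Cfsg.Lib.Chev.InvSemi.F4
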