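import Cfsg.Agent.Chev.InvSemi.F4Pr
import Cfsg.Agent.Chev.InvSemi.F4Tree
import Cfsg.Agent.Chev.Springer.Data

/-! Certificates for F₄. -/

set_option autoImplicit false

open Cfsg.Lie

namespace Cfsg.Lib.Chev.InvSemi.F4

theorem prW : kall (fun i => okPrW chevF4 Cfsg.Lib.Chev.F4.cert prTab i) (krange 0 chevF4.rank) = true := by
  decide +kernel

theorem pdata : PData chevF4 Cfsg.Lib.Chev.F4.cert Cfsg.Lib.Chev.F4.htTab prTab :=
  ⟨Springer.F4_dat, fun i hi => kall_krange prW i hi, by decide +kernel, by decide +kernel⟩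

theorem top0 : okTop chevF4 Cfsg.Lib.Chev.F4.htTab prTab (Cfsg.Lib.Chev.F4.cert.sr 0) 7 33 3 tree0 = true := by
  decide +kernel

theorem top2 : okTop chevF4 Cfsg.Lib.Chev.F4.htTab prTab (Cfsg.Lib.Chev.F4.cert.sr 2) 2 25 1 tree2 = true := by
  decide +kernel

end Cfsg.Lib.Chev.InvSemi.F4
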