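import Cfsg.Agent.Chev.InvSemi.CentCount
import Cfsg.Agent.Chev.WeightsExist

/-! Diagonal involutions as bit masks. -/

set_option autoImplicit false

open Cfsg.Lie

namespace Cfsg.Lib.Chev.InvSemi

/-- The parity of the value of a mask on a root, over the first `k` fundamental roots. -/
noncomputable def parN (C : Cert) (m r : ℕ) : ℕ → Bool :=
  Nat.rec (motive := fun _ => Bool) false
    (fun j ih => Bool.xor ih (Nat.testBit m j && decide (C.cart j r % 2 ≠ 0)))

/-- The effect of a fundamental reflection on a mask. -/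
noncomputable def flipM (C : Cert) (l i m : ℕ) : ℕ := bif parN C m (C.sr i) l then Nat.xor m (2 ^ i) else m

/-- The effect of a word on a mask. -/
noncomputable def flips (C : Cert) (l : ℕ) (L : List ℕ) (m : ℕ) : ℕ :=
  @List.rec ℕ (fun _ => ℕ) m (fun i _ ih => flipM C l i ih) L

variable {D : ChevalleyDatum} {C : Cert} {F : Type*} [Field F]

/-- A sign as a unit. -/
def sgU (F : Type*) [Field F] (b : Bool) : Fˣ := bif b then -1 else 1

theorem sgU_xor (a b : Bool) : sgU F (Bool.xor a b) = sgU F a * sgU F b := by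
  cases a <;> cases b
  · exact (one_mul _).symm
  · exact (one_mul _).symm
  · exact (mul_one _).symm
  · exact ((neg_mul_neg _ _).trans (one_mul _)).symm

theorem sgU_inv (a : Bool) : (sgU F a)⁻¹ = sgU F a := by
  cases a
  · exact inv_one
  · exact inv_eq_of_mul_eq_one_right ((neg_mul_neg _ _).trans (one_mul _))

theorem sgU_inj [NeZero (2 : F)] {a b : Bool} (h : sgU F a = sgU F b) : a = b := by
  have hne : (-1 : Fˣ) ≠ 1 := fun e => NeZero.ne (2 : F) (by
    have e' := congrArg Units.val e
    simp only [Units.val_neg, Units.val_one] at e'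
    linear_combination -e')
  cases a <;> cases b <;> first | rfl | exact absurd h hne | exact absurd h.symm hne

/-- The torus parameters of a mask. -/
def sgV (D : ChevalleyDatum) (F : Type*) [Field F] (m : ℕ) (i : Fin D.rank) : Fˣ := sgU F (Nat.testBit m i.val)

theorem chi_sgV (S : Struct D C) (m : ℕ) {r : ℕ} (hr : r < D.nroots) :
    chi D (sgV D F m) r = sgU F (parN C m r D.rank) := by
  have key : ∀ k, ∏ j ∈ Finset.range k, sgU F (Nat.testBit m j) ^ C.cart j r = sgU F (parN C m r k) := by
    intro k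
    induction k with
    | zero => simp [parN, sgU]
    | succ k ih =>
      rw [Finset.prod_range_succ, ih]
      show _ = sgU F (Bool.xor (parN C m r k) (Nat.testBit m k && decide (C.cart k r % 2 ≠ 0)))
      rw [sgU_xor]
      congr 1
      cases Nat.testBit m k
      · simp [sgU]
      · by_cases he : C.cart k r % 2 = 0
        · simp [sgU, he, Even.neg_one_zpow (Int.even_iff.2 he)]
        · simp [sgU, he, Odd.neg_one_zpow (Int.not_even_iff_odd.1 fun e => he (Int.even_iff.1 e))]
  rw [← key, Finset.prod_range]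
  exact Finset.prod_congr rfl fun i _ => by rw [S.ok.cart_eq i.isLt hr]; rfl

theorem chi_sgV_cases (S : Struct D C) (m : ℕ) (r : Fin D.nroots) :
    chi D (sgV D F m) r.val = 1 ∨ chi D (sgV D F m) r.val = -1 := by
  rw [chi_sgV S m r.isLt]
  cases parN C m r.val D.rank <;> simp [sgU]

theorem marks_sgV [NeZero (2 : F)] (S : Struct D C) (m : ℕ) {E : Fin D.nroots → Bool}
    (hE : ∀ r : Fin D.nroots, E r = !parN C m r.val D.rank) : Marks D (sgV D F m) E := by
  intro r
  rw [chi_sgV S m r.isLt, hE r]
  constructor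
  · intro h
    rw [sgU_inj (a := parN C m r.val D.rank) (b := false) h]; rfl
  · intro h
    rw [Bool.not_eq_true'] at h
    rw [h]; rfl

theorem conjT_sgV (S : Struct D C) (i : Fin D.rank) (m : ℕ) :
    Struct.conjT i (sgV D F m) = sgV D F (flipM C D.rank i.val m) := by
  have hp : ∏ j, sgV D F m j ^ (-D.cartan j (D.simple i)) = sgU F (parN C m (C.sr i.val) D.rank) := by
    rw [← sgU_inv, ← chi_sgV S m (S.ok.sr_lt i.isLt), S.ok.sr_eq i.isLt, chi, ← Finset.prod_inv_distrib]
    exact Finset.prod_congr rfl fun j _ => zpow_neg _ _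
  funext k
  rw [Struct.conjT, hp, Pi.mul_apply]
  cases hb : parN C m (C.sr i.val) D.rank
  · simp [flipM, hb, sgU, Pi.mulSingle_apply]
  · simp only [flipM, hb, cond_true, sgV]
    rw [show Nat.xor m (2 ^ i.val) = m ^^^ 2 ^ i.val from rfl, Nat.testBit_xor, Nat.testBit_two_pow, sgU_xor]
    congr 1
    by_cases hk : k = i
    · subst hk; simp [sgU]
    · rw [Pi.mulSingle_eq_of_ne hk, decide_eq_false (fun e => hk (Fin.ext e.symm))]; rfl

theorem conj_flips (S : Struct D C) (m : ℕ) : ∀ L : List (Fin D.rank),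
    S.nW F L * S.tI F (sgV D F m) * (S.nW F L)⁻¹ = S.tI F (sgV D F (flips C D.rank (L.map Fin.val) m))
  | [] => by simp [Struct.nW, flips]
  | i :: L => by
    rw [S.nW_cons, show S.gS F i * S.nW F L * S.tI F (sgV D F m) * (S.gS F i * S.nW F L)⁻¹ =
      S.gS F i * (S.nW F L * S.tI F (sgV D F m) * (S.nW F L)⁻¹) * (S.gS F i)⁻¹ by group, conj_flips S m L,
      S.gS_conj_tI, conjT_sgV S]
    rfl

theorem sgV_inj [NeZero (2 : F)] {m m' : ℕ} (hm : m < 2 ^ D.rank) (hm' : m' < 2 ^ D.rank)
    (h : sgV D F m = sgV D F m') : m = m' := by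
  refine Nat.eq_of_testBit_eq fun j => ?_
  by_cases hj : j < D.rank
  · exact sgU_inj (congrFun h ⟨j, hj⟩)
  · have h2 : 2 ^ D.rank ≤ 2 ^ j := Nat.pow_le_pow_right (by norm_num) (by omega)
    rw [Nat.testBit_lt_two_pow (by omega), Nat.testBit_lt_two_pow (by omega)]

theorem exists_sgV [NeZero (2 : F)] {c : Fin D.rank → Fˣ} (hc : c * c = 1) :
    ∃ m < 2 ^ D.rank, c = sgV D F m := by
  classical
  have hb : Function.Bijective (fun (m : Fin (2 ^ D.rank)) (i : Fin D.rank) => Nat.testBit m.val i.val) := by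
    refine (Fintype.bijective_iff_injective_and_card _).2 ⟨fun a b e => Fin.ext ?_, by simp⟩
    refine sgV_inj (D := D) (F := F) a.isLt b.isLt (funext fun i => ?_)
    exact congrArg (sgU F) (congrFun e i)
  obtain ⟨m, hm⟩ := hb.2 fun i => decide (c i = -1)
  refine ⟨m.val, m.isLt, funext fun i => ?_⟩
  have h1 := congrFun hc i
  rw [Pi.mul_apply, Pi.one_apply] at h1
  rw [sgV, show Nat.testBit m.val i.val = decide (c i = -1) from congrFun hm i]
  rcases Units.ext_iff.1 h1 |> (fun e : ((c i * c i : Fˣ) : F) = 1 => mul_self_eq_one_iff.1 e) with h | h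
  · have hc1 : c i = 1 := Units.ext h
    rw [hc1, decide_eq_false]
    · rfl
    · intro e
      exact Bool.false_ne_true (sgU_inj (F := F) (a := false) (b := true) e)
  · have hc1 : c i = -1 := Units.ext h
    rw [hc1, decide_eq_true rfl]
    rfl

end Cfsg.Lib.Chev.InvSemi
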