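import Cfsg.Agent.Chev.Bruhat

/-! In odd characteristic every involution of a Chevalley group is conjugate to a monomial one. -/

set_option autoImplicit false

open Cfsg.Lie

namespace Cfsg.Lib.Chev.InvSemi

variable {D : ChevalleyDatum} {C : Cert} {F : Type*} [Field F]

theorem inv_conj {G : Type*} [Group G] {m y z : G} (hy : y = z * z) (hz : m * z * m⁻¹ = z⁻¹) :
    z⁻¹ * (y * m) * z = m := by
  subst hy
  calc z⁻¹ * (z * z * m) * z = z * (m * z * m⁻¹) * m := by group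
    _ = m := by rw [hz, mul_inv_cancel, one_mul]

theorem exists_mono [Fintype F] (S : Struct D C) (hN : okNeg D = true) (hodd : Odd (Fintype.card F))
    {u : GL D.Idx F} (hu : u ∈ D.group F) (hu2 : u * u = 1) :
    ∃ g ∈ D.group F, g * u * g⁻¹ ∈ D.monomialSubgroup F := by
  obtain ⟨b₀, hb₀, n, hn, L, hact, v, hv, rfl⟩ := S.normal_form hN hu
  set w := S.wpL L
  have hvB := S.B_le_of (S.UPsi_le _ hv)
  set b := v * b₀ with hbdef
  have hb : b ∈ D.borelSubgroup F := mul_mem hvB hb₀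
  have he : v * (b₀ * n * v) * v⁻¹ = b * n := by rw [hbdef]; group
  have h2 : b * n * (b * n) = 1 := by
    rw [← he, show v * (b₀ * n * v) * v⁻¹ * (v * (b₀ * n * v) * v⁻¹) = v * ((b₀ * n * v) * (b₀ * n * v)) * v⁻¹
      by group, hu2, mul_one, mul_inv_cancel]
  -- the square of `n` is diagonal
  obtain ⟨u', hu', d', hd', e'⟩ := S.borel_decomp (inv_mem hb)
  have hU : ∀ {d x : GL D.Idx F}, d ∈ D.diagonalSubgroup F → x ∈ D.posUnipotent F →
      d * x * d⁻¹ ∈ D.posUnipotent F := fun {d x} hd hx =>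
    (Subgroup.mem_normalizer_iff.1 (S.diag_normalises_U hd) x).1 hx
  have hn2 : n * n ∈ D.diagonalSubgroup F := by
    have e : b * n * 1 = 1 * (n⁻¹ * d') * (d'⁻¹ * u' * d'⁻¹⁻¹) := by
      rw [inv_inv, one_mul, mul_one, eq_inv_of_mul_eq_one_left h2, mul_inv_rev, e']
      group
    have hd := S.normal_form_cong hN hb (one_mem _) hn
      (mul_mem (inv_mem hn) (Subgroup.mem_sup_left hd')) (one_mem _) (hU (inv_mem hd') hu') e
    have := mul_mem hd' (inv_mem hd)
    simpa [mul_assoc] using this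
  have hbn : n * b * n⁻¹ ∈ D.borelSubgroup F := by
    rw [show n * b * n⁻¹ = b⁻¹ * (b * n * (b * n)) * (n * n)⁻¹ by group, h2, mul_one]
    exact mul_mem (inv_mem hb) (Subgroup.mem_sup_right (inv_mem hn2))
  obtain ⟨x, hx, d, hd, eb⟩ := S.borel_decomp hb
  have hndn : n * d * n⁻¹ ∈ D.diagonalSubgroup F := S.norm_diag hn hd
  have hxn : n * x * n⁻¹ ∈ D.borelSubgroup F := by
    rw [show n * x * n⁻¹ = (n * b * n⁻¹) * (n * d * n⁻¹)⁻¹ by rw [eb]; group]
    exact mul_mem hbn (Subgroup.mem_sup_right (inv_mem hndn))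
  have hxU : n * x * n⁻¹ ∈ D.posUnipotent F := by
    have hs := S.hsum
    have hx' := hx
    rw [S.posUnipotent_eq] at hx'
    obtain ⟨a, ha, c, hc, rfl⟩ := S.split_Ugen (Struct.Neg D w) (D.nroots - D.nroots / 2) (D.nroots / 2)
      (by omega) le_rfl x hx'
    have ha' := S.conj_Pos hact ha
    have hcB : n * c * n⁻¹ ∈ D.borelSubgroup F ⊓ D.negUnipotent F := by
      refine Subgroup.mem_inf.2 ⟨?_, S.conj_Neg hact hc⟩
      rw [show n * c * n⁻¹ = (n * a * n⁻¹)⁻¹ * (n * (a * c) * n⁻¹) by group]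
      exact mul_mem (inv_mem (S.B_le_of ha')) hxn
    rw [S.B_inf_V hN, Subgroup.mem_bot] at hcB
    rw [show n * (a * c) * n⁻¹ = (n * a * n⁻¹) * (n * c * n⁻¹) by group, hcB, mul_one]
    exact ha'
  set m := d * n with hmdef
  have hm : m ∈ D.monomialSubgroup F := mul_mem (Subgroup.mem_sup_left hd) hn
  have hxm : m * x * m⁻¹ ∈ D.posUnipotent F := by
    rw [show m * x * m⁻¹ = d * (n * x * n⁻¹) * d⁻¹ by rw [hmdef]; group]
    exact hU hd hxU
  have ebm : b * n = x * m := by rw [eb, hmdef, mul_assoc]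
  rw [ebm] at h2
  have hm2 : m * m ∈ D.diagonalSubgroup F := by
    rw [show m * m = d * (n * d * n⁻¹) * (n * n) by rw [hmdef]; group]
    exact mul_mem (mul_mem hd hndn) hn2
  have hxx : m * m = (x * (m * x * m⁻¹))⁻¹ := by
    refine eq_inv_of_mul_eq_one_right ?_
    rw [← h2]; group
  have hm1 : m * m = 1 := by
    have : m * m ∈ D.posUnipotent F ⊓ D.diagonalSubgroup F :=
      Subgroup.mem_inf.2 ⟨hxx ▸ inv_mem (mul_mem hx hxm), hm2⟩
    rwa [S.U_inf_H, Subgroup.mem_bot] at this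
  have hxinv : m * x * m⁻¹ = x⁻¹ := by
    rw [hm1, eq_comm, inv_eq_one] at hxx
    exact eq_inv_of_mul_eq_one_right hxx
  -- halve `x`
  obtain ⟨k, hk⟩ : ∃ k : ℕ, x ^ (2 * k) = x := by
    have hord : Odd (orderOf x) := by
      refine Odd.of_dvd_nat (hodd.pow (n := D.nroots / 2)) ?_
      rw [← S.card_posUnipotent, ← Subgroup.orderOf_mk x hx]
      exact orderOf_dvd_natCard _
    obtain ⟨j, hj⟩ := hord
    refine ⟨j + 1, ?_⟩
    rw [show 2 * (j + 1) = orderOf x + 1 by omega, pow_succ, pow_orderOf_eq_one, one_mul]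
  have hz : m * x ^ k * m⁻¹ = (x ^ k)⁻¹ := by rw [← conj_pow, hxinv, inv_pow]
  refine ⟨(x ^ k)⁻¹ * v, mul_mem (inv_mem (pow_mem (S.borel_le_group (S.B_le_of hx)) k))
    (S.borel_le_group hvB), ?_⟩
  rw [show ((x ^ k)⁻¹ * v) * (b₀ * n * v) * ((x ^ k)⁻¹ * v)⁻¹ =
    (x ^ k)⁻¹ * (v * (b₀ * n * v) * v⁻¹) * x ^ k by group, he, ebm,
    inv_conj (by rw [← pow_add, ← two_mul, hk]) hz]
  exact hm

end Cfsg.Lib.Chev.InvSemi
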