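import Cfsg.Agent.Chev.Poincare
import Cfsg.Agent.Chev.Springer.Roots

/-! Involutions of the Weyl group: negated roots, and a certified invariant pairing of the roots. -/

set_option autoImplicit false

open Cfsg.Lie

namespace Cfsg.Lib.Chev.InvSemi

variable {D : ChevalleyDatum} {C : Cert}

theorem wp_mem (S : Struct D C) (i : Fin D.rank) : S.wp i ∈ S.WG := Subgroup.subset_closure ⟨i, rfl⟩

theorem neg_lt (S : Struct D C) (r : Fin D.nroots) : D.neg r.val < D.nroots := by
  rw [← S.ok.neg_eq r.isLt]; exact S.ok.neg_lt r.isLt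

/-- The negative of a root. -/
noncomputable def ng (S : Struct D C) (r : Fin D.nroots) : Fin D.nroots := ⟨D.neg r.val, neg_lt S r⟩

theorem ng_ng (S : Struct D C) (r : Fin D.nroots) : ng S (ng S r) = r := Fin.ext (by
  show D.neg (D.neg r.val) = r.val
  rw [← S.ok.neg_eq r.isLt, ← S.ok.neg_eq (S.ok.neg_lt r.isLt), S.ok.neg_neg r.isLt])

theorem ng_ne (S : Struct D C) (r : Fin D.nroots) : ng S r ≠ r := fun h =>
  S.ok.neg_ne r.isLt ((S.ok.neg_eq r.isLt).trans (congrArg Fin.val h))

theorem ng_pos (S : Struct D C) (r : Fin D.nroots) :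
    D.nroots / 2 ≤ (ng S r).val ↔ r.val < D.nroots / 2 := by
  have h1 := (S.order_row r.isLt).1
  have h2 := S.hsum
  show D.nroots / 2 ≤ D.neg r.val ↔ _
  omega

theorem apply_ng (S : Struct D C) {w : Equiv.Perm (Fin D.nroots)} (hw : w ∈ S.WG) (r : Fin D.nroots) :
    w (ng S r) = ng S (w r) := by
  obtain ⟨L, rfl⟩ := S.exists_wpL hw
  exact Fin.ext (S.wp_neg L r (neg_lt S r))

theorem wp_sp (S : Struct D C) (i : Fin D.rank) : S.wp i (S.sp i) = ng S (S.sp i) := Fin.ext (by
  rw [Struct.wp_val]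
  show C.w i.val (C.sr i.val) = D.neg (C.sr i.val)
  rw [(S.ok.refl_simple i.isLt).1, S.ok.neg_eq (S.ok.sr_lt i.isLt)])

theorem wp_wp (S : Struct D C) (i : Fin D.rank) (r : Fin D.nroots) : S.wp i (S.wp i r) = r := by
  rw [← Equiv.Perm.mul_apply, S.wp_mul_self, Equiv.Perm.one_apply]

theorem wp_pos (S : Struct D C) (i : Fin D.rank) {r : Fin D.nroots} (hr : D.nroots / 2 ≤ r.val)
    (hne : r ≠ S.sp i) : D.nroots / 2 ≤ (S.wp i r).val :=
  S.pos_w i.isLt hr r.isLt fun e => hne (Fin.ext e)

theorem wp_neg' (S : Struct D C) (i : Fin D.rank) {r : Fin D.nroots} (hr : r.val < D.nroots / 2)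
    (hne : r ≠ ng S (S.sp i)) : (S.wp i r).val < D.nroots / 2 := by
  by_contra h
  refine hne ?_
  by_contra h2
  have h3 := wp_pos S i (not_lt.1 h) (fun e => h2 (by rw [← wp_wp S i r, e, wp_sp]))
  rw [wp_wp] at h3
  omega

/-- The root is negated by the permutation. -/
def Rev (S : Struct D C) (w : Equiv.Perm (Fin D.nroots)) (r : Fin D.nroots) : Prop := w r = ng S r

theorem rev_conj (S : Struct D C) {g w : Equiv.Perm (Fin D.nroots)} (hg : g ∈ S.WG) (r : Fin D.nroots) :
    Rev S (g * w * g⁻¹) (g r) ↔ Rev S w r := by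
  simp only [Rev, Equiv.Perm.mul_apply, Equiv.Perm.inv_def, Equiv.symm_apply_apply, ← apply_ng S hg]
  exact g.injective.eq_iff

theorem exists_rev (S : Struct D C) : ∀ (m : ℕ) (w : Equiv.Perm (Fin D.nroots)), Struct.Nw D w = m →
    w ∈ S.WG → w * w = 1 → w ≠ 1 → ∃ r, Rev S w r := by
  intro m
  induction m using Nat.strong_induction_on with
  | _ m ih =>
    intro w hm hw hw2 hne
    obtain ⟨i, hi⟩ : ∃ i : Fin D.rank, (w (S.sp i)).val < D.nroots / 2 := by
      by_contra h
      simp only [not_exists, not_lt] at h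
      obtain ⟨L, rfl⟩ := S.exists_wpL hw
      exact hne (S.eq_one_of_simple_pos D.rank _ L rfl (fun x _ => x.isLt) fun j _ => h j)
    by_cases hrev : Rev S w (S.sp i)
    · exact ⟨_, hrev⟩
    have hsp : D.nroots / 2 ≤ (S.sp i).val := S.sr_pos i.isLt
    set w' := S.wp i * w * S.wp i with hw'
    have hinv : (S.wp i)⁻¹ = S.wp i := inv_eq_of_mul_eq_one_right (S.wp_mul_self i)
    have hlt : Struct.Nw D w' < Struct.Nw D w := by
      classical
      unfold Struct.Nw
      refine lt_of_le_of_lt (Finset.card_le_card_of_injOn (fun r => S.wp i r) ?_ fun a _ b _ e =>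
        (S.wp i).injective e) (Finset.card_erase_lt_of_mem (a := S.sp i) ?_)
      · intro r hr
        simp only [Finset.coe_filter, Finset.mem_univ, true_and, Set.mem_ofPred_eq] at hr
        simp only [hw', Equiv.Perm.mul_apply] at hr
        obtain ⟨hr1, hr2⟩ := hr
        simp only [Finset.coe_erase, Finset.coe_filter, Finset.mem_univ, true_and, Set.mem_sdiff, Set.mem_ofPred_eq,
          Set.mem_singleton_iff]
        have hwr : (w (S.wp i r)).val < D.nroots / 2 := by
          by_contra hge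
          by_cases he : w (S.wp i r) = S.sp i
          · have e1 : S.wp i r = w (S.sp i) := by
              rw [← he, ← Equiv.Perm.mul_apply, hw2, Equiv.Perm.one_apply]
            by_cases he2 : r = S.sp i
            · subst he2
              rw [wp_sp, apply_ng S hw] at he
              exact hrev ((ng_ng S _).symm.trans (congrArg (ng S) he))
            · have := wp_pos S i hr1 he2
              rw [e1] at this
              omega
          · have := wp_pos S i (not_lt.1 hge) he
            omega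
        refine ⟨⟨?_, hwr⟩, fun e => ?_⟩
        · by_contra h
          by_cases he2 : r = S.sp i
          · subst he2
            rw [wp_sp, apply_ng S hw] at hwr
            have := ng_pos S (w (S.sp i))
            omega
          · exact h (wp_pos S i hr1 he2)
        · have : r = ng S (S.sp i) := by rw [← wp_wp S i r, e, wp_sp]
          have := ng_pos S (S.sp i)
          omega
      · simp only [Finset.mem_filter, Finset.mem_univ, true_and]
        exact ⟨hsp, hi⟩
    obtain ⟨r, hr⟩ := ih _ (hm ▸ hlt) w' rfl (mul_mem (mul_mem (wp_mem S i) hw) (wp_mem S i)) (by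
        rw [hw', show S.wp i * w * S.wp i * (S.wp i * w * S.wp i) = S.wp i * (w * (S.wp i * S.wp i) * w) * S.wp i
          by group, S.wp_mul_self, mul_one, hw2, mul_one, S.wp_mul_self])
      (fun e => hne (by
        have h2 : S.wp i * w' * S.wp i = S.wp i * S.wp i := by rw [e, mul_one]
        rw [hw', show S.wp i * (S.wp i * w * S.wp i) * S.wp i = (S.wp i * S.wp i) * w * (S.wp i * S.wp i) by group,
          S.wp_mul_self, one_mul, mul_one] at h2
        exact h2))
    refine ⟨S.wp i r, ?_⟩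
    rw [hw', show S.wp i * w * S.wp i = S.wp i * w * (S.wp i)⁻¹ by rw [hinv], ← wp_wp S i r,
      rev_conj S (wp_mem S i)] at hr
    exact hr

/-- Entry of the pairing table. -/
noncomputable def prAt (P : List ℕ) (s r : ℕ) : ℤ := (Cert.byte (P.getD r 0) s : ℤ) - 3

/-- The pairing is invariant under one fundamental reflection. -/
noncomputable def okPrW (D : ChevalleyDatum) (C : Cert) (P : List ℕ) (i : ℕ) : Bool :=
  kall (fun r =>
    let a := P.getD r 0
    let b := P.getD (C.w i r) 0
    kall (fun s => Nat.beq (Cert.byte b (C.w i s)) (Cert.byte a s)) (krange 0 D.nroots)) (krange 0 D.nroots)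

/-- The pairing with fundamental roots is the Cartan number; reflections in terms of coefficients. -/
noncomputable def okPrS (D : ChevalleyDatum) (C : Cert) (T : List (List ℤ)) (P : List ℕ) : Bool :=
  kall (fun i => kall (fun r => decide (prAt P r (C.sr i) = D.cartan i r) &&
    decide (htAt T (C.w i r) i = htAt T r i - D.cartan i r) &&
    (!(decide (D.cartan i r = 0)) || Nat.beq (C.w i r) r)) (krange 0 D.nroots)) (krange 0 D.rank)

/-- Signs and parity of the pairing. -/
noncomputable def okPrP (D : ChevalleyDatum) (P : List ℕ) : Bool :=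
  kall (fun r =>
    let a := P.getD r 0
    let a' := P.getD (D.negIdx.getD r 0) 0
    kall (fun s =>
      let x := Cert.byte a s
      let y := Cert.byte (P.getD s 0) r
      Nat.beq (Nat.add (Cert.byte a' s) x) 6 && Nat.beq (Nat.add (Cert.byte a (D.negIdx.getD s 0)) x) 6 &&
        (Nat.beq r s || Nat.beq (D.negIdx.getD r 0) s || (Nat.beq x 3 && Nat.beq y 3) ||
          Nat.beq (Nat.land x 1) 0 || Nat.beq (Nat.land y 1) 0)) (krange 0 D.nroots)) (krange 0 D.nroots)

/-- The certified data of the pairing. -/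
structure PData (D : ChevalleyDatum) (C : Cert) (T : List (List ℤ)) (P : List ℕ) : Prop where
  X : Springer.Dat D C T
  hW : ∀ i < D.rank, okPrW D C P i = true
  hS : okPrS D C T P = true
  hP : okPrP D P = true

namespace PData

variable {T : List (List ℤ)} {P : List ℕ} (X : PData D C T P)
include X

/-- The pairing. -/
noncomputable def pr (_X : PData D C T P) (s r : Fin D.nroots) : ℤ := prAt P s.val r.val

theorem pr_w {w : Equiv.Perm (Fin D.nroots)} (hw : w ∈ X.X.S.WG) (s r : Fin D.nroots) :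
    X.pr (w s) (w r) = X.pr s r := by
  obtain ⟨L, rfl⟩ := X.X.S.exists_wpL hw
  induction L with
  | nil => rfl
  | cons i L ih =>
    have e : X.X.S.wpL (i :: L) = X.X.S.wp i * X.X.S.wpL L := by simp [Struct.wpL]
    rw [e, Equiv.Perm.mul_apply, Equiv.Perm.mul_apply, ← ih (X.X.S.wpL_mem_WG L)]
    simp only [pr, prAt, Struct.wp_val]
    rw [Nat.eq_of_beq_eq_true (kall_krange (kall_krange (X.hW i.val i.isLt) _ (Fin.isLt _)) _ (Fin.isLt _))]

theorem simple_spec (i : Fin D.rank) (r : Fin D.nroots) :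
    X.pr r (X.X.S.sp i) = D.cartan i r ∧ htAt T (C.w i r) i = htAt T r i - D.cartan i r ∧
      (D.cartan i r = 0 → X.X.S.wp i r = r) := by
  have h := kall_krange (kall_krange (show kall _ (krange 0 D.rank) = true from X.hS) i.val i.isLt) r.val r.isLt
  simp only [Bool.and_eq_true, Bool.or_eq_true, Bool.not_eq_true', decide_eq_true_eq,
    decide_eq_false_iff_not] at h
  refine ⟨h.1.1, h.1.2, fun h0 => Fin.ext ?_⟩
  rcases h.2 with h2 | h2
  · exact absurd h0 h2
  · exact Nat.eq_of_beq_eq_true h2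

theorem spec (r s : Fin D.nroots) :
    X.pr s (ng X.X.S r) = -X.pr s r ∧ X.pr (ng X.X.S s) r = -X.pr s r ∧
      (r = s ∨ ng X.X.S r = s ∨ (X.pr s r = 0 ∧ X.pr r s = 0) ∨ Odd (X.pr s r) ∨ Odd (X.pr r s)) := by
  have h := kall_krange (kall_krange (show kall _ (krange 0 D.nroots) = true from X.hP) r.val r.isLt) s.val s.isLt
  simp only [Bool.and_eq_true, Bool.or_eq_true] at h
  obtain ⟨⟨h1, h2⟩, h3⟩ := h
  have e1 := Nat.eq_of_beq_eq_true h1
  have e2 := Nat.eq_of_beq_eq_true h2
  simp only [Nat.add_eq] at e1 e2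
  have o : ∀ x : ℕ, Nat.beq (Nat.land x 1) 0 = true → Odd ((x : ℤ) - 3) := fun x hx => by
    have := Nat.eq_of_beq_eq_true hx
    rw [show Nat.land x 1 = x % 2 from Nat.and_one_is_mod x] at this
    exact ⟨(x / 2 : ℕ) - 2, by omega⟩
  refine ⟨?_, ?_, ?_⟩
  · show ((Cert.byte (P.getD (D.neg r.val) 0) s.val : ℤ) - 3) = -((Cert.byte (P.getD r.val 0) s.val : ℤ) - 3)
    have : Cert.byte (P.getD (D.neg r.val) 0) s.val + Cert.byte (P.getD r.val 0) s.val = 6 := e1
    omega
  · show ((Cert.byte (P.getD r.val 0) (D.neg s.val) : ℤ) - 3) = -((Cert.byte (P.getD r.val 0) s.val : ℤ) - 3)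
    have : Cert.byte (P.getD r.val 0) (D.neg s.val) + Cert.byte (P.getD r.val 0) s.val = 6 := e2
    omega
  · rcases h3 with (((h | h) | h) | h) | h
    · exact Or.inl (Fin.ext (Nat.eq_of_beq_eq_true h))
    · exact Or.inr (Or.inl (Fin.ext (Nat.eq_of_beq_eq_true h)))
    · exact Or.inr (Or.inr (Or.inl ⟨show ((Cert.byte (P.getD r.val 0) s.val : ℤ) - 3) = 0 by rw [Nat.eq_of_beq_eq_true h.1]; rfl,
        show ((Cert.byte (P.getD s.val 0) r.val : ℤ) - 3) = 0 by rw [Nat.eq_of_beq_eq_true h.2]; rfl⟩))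
    · exact Or.inr (Or.inr (Or.inr (Or.inl (o _ h))))
    · exact Or.inr (Or.inr (Or.inr (Or.inr (o _ h))))

theorem ht_wp (i : Fin D.rank) (r : Fin D.nroots) (k : Fin D.rank) :
    htAt T (X.X.S.wp i r).val k = htAt T r.val k - if k = i then D.cartan i r else 0 := by
  rw [Struct.wp_val]
  split_ifs with h
  · subst h; exact (X.simple_spec k r).2.1
  · rw [Cfsg.Lib.Steinberg.lin_ne X.X.hl i.isLt r.isLt k.isLt fun e => h (Fin.ext e), sub_zero]

/-- A reflection of a negated fundamental root commutes with the involution and shrinks the negated set. -/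
theorem rev_shrink {w : Equiv.Perm (Fin D.nroots)} (hw : w ∈ X.X.S.WG) (hw2 : w * w = 1) {i : Fin D.rank}
    (hi : Rev X.X.S w (X.X.S.sp i)) :
    (X.X.S.wp i * w) * (X.X.S.wp i * w) = 1 ∧
      ∀ r, Rev X.X.S (X.X.S.wp i * w) r → Rev X.X.S w r ∧ r ≠ X.X.S.sp i ∧ r ≠ ng X.X.S (X.X.S.sp i) := by
  set S := X.X.S
  have hcomm : ∀ r, w (S.wp i r) = S.wp i (w r) := by
    intro r
    have hcar : D.cartan i (w r) = -D.cartan i r := by
      rw [← (X.simple_spec i (w r)).1, ← (X.simple_spec i r).1,
        ← X.pr_w hw (s := w r) (r := S.sp i), ← Equiv.Perm.mul_apply, hw2, Equiv.Perm.one_apply, hi,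
        (X.spec (S.sp i) r).1]
    have hwi : ∀ k : Fin D.rank, Springer.Mz S T w i k = if k = i then -1 else 0 := fun k => by
      show htAt T (w (S.sp i)).val k = _
      rw [hi, show (ng S (S.sp i)).val = D.neg (S.sp i).val from rfl, (ht_row X.X.hT (S.sp i).isLt k.isLt).1,
        X.X.ht_sp]
      by_cases h : k = i
      · subst h; simp
      · rw [if_neg (fun e => h (Fin.ext e).symm), if_neg h, neg_zero]
    -- the images have equal coefficients, hence are equal
    have hall : ∀ k : Fin D.rank, htAt T (w (S.wp i r)).val k = htAt T (S.wp i (w r)).val k := fun k => by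
      rw [X.X.ht_apply hw, X.ht_wp i (w r) k, hcar]
      simp only [X.ht_wp i r, sub_mul, Finset.sum_sub_distrib, ← X.X.ht_apply hw, ite_mul, zero_mul,
        Finset.sum_ite_eq', Finset.mem_univ, if_true, hwi]
      split_ifs <;> ring
    exact root_ext X hw r hall
  refine ⟨Equiv.ext fun r => ?_, fun r hr => ?_⟩
  · simp only [Equiv.Perm.mul_apply, Equiv.Perm.one_apply, hcomm, wp_wp]
    rw [← Equiv.Perm.mul_apply, hw2, Equiv.Perm.one_apply]
  have hvi : (S.wp i * w) (S.sp i) = S.sp i := by
    rw [Equiv.Perm.mul_apply, hi, apply_ng S (wp_mem S i), wp_sp, ng_ng]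
  have h0 : X.pr r (S.sp i) = 0 := by
    have h1 := X.pr_w (mul_mem (wp_mem S i) hw) r (S.sp i)
    rw [hr, hvi, (X.spec (S.sp i) r).2.1] at h1
    omega
  have hc0 : D.cartan i r = 0 := (X.simple_spec i r).1.symm.trans h0
  have hfix := (X.simple_spec i r).2.2 hc0
  have hwr : w r = ng S r := by
    have := congrArg (S.wp i) (hr : (S.wp i * w) r = ng S r)
    rwa [Equiv.Perm.mul_apply, wp_wp, apply_ng S (wp_mem S i), hfix] at this
  refine ⟨hwr, fun e => ?_, fun e => ?_⟩
  · subst e; exact ng_ne S (S.sp i) (hr.symm.trans hvi)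
  · subst e
    rw [Rev, apply_ng S (mul_mem (wp_mem S i) hw), hvi, ng_ng] at hr
    exact ng_ne S (S.sp i) hr
where
  root_ext {D : ChevalleyDatum} {C : Cert} {T : List (List ℤ)} {P : List ℕ} (X : PData D C T P)
      {w : Equiv.Perm (Fin D.nroots)} (hw : w ∈ X.X.S.WG) (r : Fin D.nroots) {i : Fin D.rank}
      (hall : ∀ k : Fin D.rank, htAt T (w (X.X.S.wp i r)).val k = htAt T (X.X.S.wp i (w r)).val k) :
      w (X.X.S.wp i r) = X.X.S.wp i (w r) := by
    set S := X.X.S
    obtain ⟨g, hg, j, e⟩ := X.X.exists_orbit _ (S.wp i (w r)).isLt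
    have e' : g⁻¹ (S.wp i (w r)) = S.sp j := by
      rw [← show g (S.sp j) = S.wp i (w r) from Fin.ext e, Equiv.Perm.inv_def, Equiv.symm_apply_apply]
    have e2 : g⁻¹ (w (S.wp i r)) = S.sp j := by
      refine Fin.ext (X.X.hunit _ (Fin.isLt _) _ j.isLt fun k hk => ?_)
      have h2 := X.X.ht_sp j ⟨k, hk⟩
      rw [← e', X.X.ht_apply (inv_mem hg)] at h2
      rw [X.X.ht_apply (inv_mem hg) _ ⟨k, hk⟩]
      simp only [hall]
      exact h2
    exact (g⁻¹).injective (e2.trans e'.symm)

end PData

end Cfsg.Lib.Chev.InvSemi
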