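import Cfsg.Agent.Chev.InvSemi.Refl
import Cfsg.Agent.Chev.InvSemi.Mono
import Cfsg.Agent.TriMult.Rank
import Cfsg.Agent.TriMult.SL

/-! The two moves on a monomial involution negating a fundamental root. -/

set_option autoImplicit false

open Cfsg.Lie
open scoped MatrixGroups

namespace Cfsg.Lib.Chev.InvSemi

open Cfsg.Lib.TriMult

variable {D : ChevalleyDatum} {C : Cert} {F : Type*} [Field F]

/-- The coefficient of a negated root. -/
def Coef (S : Struct D C) (n : GL D.Idx F) (r : Fin D.nroots) (c : F) : Prop :=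
  ∀ t : F, n * S.ok.xG r.val t * n⁻¹ = S.ok.xG (ng S r).val (c * t)

theorem exists_coef (S : Struct D C) {n : GL D.Idx F} {w : Equiv.Perm (Fin D.nroots)} (ha : Act S.ok n w)
    {r : Fin D.nroots} (hr : Rev S w r) : ∃ c : F, c ≠ 0 ∧ Coef S n r c := by
  obtain ⟨-, c, hc, e⟩ := ha r
  refine ⟨c, hc, fun t => ?_⟩
  rw [(e t).1, hr]

theorem twice {G : Type*} [Group G] {n a b : G} (hn : n * n = 1) (h : n * a * n⁻¹ = b) : n * b * n⁻¹ = a := by
  subst h
  rw [show n * (n * a * n⁻¹) * n⁻¹ = (n * n) * a * (n * n)⁻¹ by group, hn, one_mul, inv_one, mul_one]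

variable (S : Struct D C) (i : Fin D.rank)

/-- The homomorphism from `SL₂`. -/
noncomputable def phi : SL(2, F) →* GL D.Idx F := (S.sl2Rel_simple i).exists_hom.choose

theorem phi_uM (t : F) : phi S i (uM t) = S.ok.xG (D.simple i) t :=
  (S.sl2Rel_simple i).exists_hom.choose_spec.1 t

theorem phi_lM (t : F) : phi S i (lM t) = S.ok.xG (D.neg (D.simple i)) t :=
  (S.sl2Rel_simple i).exists_hom.choose_spec.2.1 t

theorem phi_wM : phi S i (wM : SL(2, F)) = S.ok.nG (D.simple i) 1 := by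
  rw [← mat_nAbs_one]
  simp only [nAbs, map_mul, phi_uM, phi_lM]
  rfl

theorem phi_dM (u : Fˣ) : phi S i (dM u) = Ok.tG D F (Pi.mulSingle i u) := by
  rw [← S.ok.hG_simple_eq_tG]
  simp only [dM, nAbs, map_mul, phi_uM, phi_lM]
  rfl

theorem phi_mem (g : SL(2, F)) : phi S i g ∈ D.group F := by
  have h := sl_gen (F := F) (H := (D.group F).comap (phi S i))
    (fun t => Subgroup.mem_comap.2 (by rw [phi_uM]; exact S.ok.xG_mem_group _ _))
    (fun t => Subgroup.mem_comap.2 (by rw [phi_lM]; exact S.ok.xG_mem_group _ _))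
  exact Subgroup.mem_comap.1 (h ▸ Subgroup.mem_top g)

/-- The automorphism induced on `SL₂`. -/
def cjFun (c : Fˣ) (g : SL(2, F)) : SL(2, F) :=
  ⟨!![mat g 1 1, mat g 1 0 / (c : F); (c : F) * mat g 0 1, mat g 0 0], by
    have := c.ne_zero
    simp [Matrix.det_fin_two]
    field_simp
    linear_combination mat_det g⟩

theorem mat_cj (c : Fˣ) (g : SL(2, F)) :
    mat (cjFun c g) = !![mat g 1 1, mat g 1 0 / (c : F); (c : F) * mat g 0 1, mat g 0 0] := rfl

theorem cj_mul (c : Fˣ) (g h : SL(2, F)) : cjFun c (g * h) = cjFun c g * cjFun c h := by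
  apply mat_inj
  have := c.ne_zero
  simp only [mat_mul, mat_cj]
  ext a b
  fin_cases a <;> fin_cases b <;> simp [Matrix.mul_apply, Fin.sum_univ_two] <;> field_simp <;> ring

theorem conj_phi {n : GL D.Idx F} (hn : n * n = 1) {c : Fˣ} (hc : Coef S n (S.sp i) (c : F)) (g : SL(2, F)) :
    n * phi S i g * n⁻¹ = phi S i (cjFun c g) := by
  have hsr : (S.sp i).val = D.simple i := S.ok.sr_eq i.isLt
  have hng : (ng S (S.sp i)).val = D.neg (D.simple i) := congrArg D.neg hsr
  let K : Subgroup SL(2, F) := (MonoidHom.mk' (fun g => n * phi S i g * n⁻¹) fun a b => by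
    rw [map_mul]; group).eqLocus ((phi S i).comp (MonoidHom.mk' (cjFun c) (cj_mul c)))
  have hc0 := c.ne_zero
  have h := sl_gen (F := F) (H := K) ?_ ?_
  · exact (h ▸ Subgroup.mem_top g : g ∈ K)
  · intro t
    show n * phi S i (uM t) * n⁻¹ = phi S i (cjFun c (uM t))
    rw [show cjFun c (uM t) = lM ((c : F) * t) from mat_inj (by
      rw [mat_cj, mat_uM, mat_lM]; ext a b; fin_cases a <;> fin_cases b <;> simp), phi_uM, phi_lM, ← hsr, hc, hng]
    rw [hsr]
  · intro t
    show n * phi S i (lM t) * n⁻¹ = phi S i (cjFun c (lM t))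
    rw [show cjFun c (lM t) = uM (t / (c : F)) from mat_inj (by
      rw [mat_cj, mat_uM, mat_lM]; ext a b; fin_cases a <;> fin_cases b <;> simp), phi_uM, phi_lM]
    refine twice hn ?_
    rw [← hsr, hc, hng, mul_div_cancel₀ _ hc0, hsr]

theorem conj_eq {n : GL D.Idx F} (hn : n * n = 1) {c : Fˣ} (hc : Coef S n (S.sp i) (c : F)) (g k : SL(2, F))
    (hk : cjFun c g = g * k) :
    (phi S i g)⁻¹ * n * phi S i g = phi S i k * n := by
  rw [show (phi S i g)⁻¹ * n * phi S i g = (phi S i g)⁻¹ * (n * phi S i g * n⁻¹) * n by group,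
    conj_phi S i hn hc, hk, map_mul, inv_mul_cancel_left]

/-- A split root can be removed. -/
theorem split_step [NeZero (2 : F)] {n : GL D.Idx F} (hnm : n ∈ D.monomialSubgroup F) (hn : n * n = 1)
    {w : Equiv.Perm (Fin D.nroots)} (ha : Act S.ok n w) {d : F} (hd : d ≠ 0)
    (hc : Coef S n (S.sp i) (d * d)) :
    ∃ g ∈ D.group F, g * n * g⁻¹ ∈ D.monomialSubgroup F ∧ Act S.ok (g * n * g⁻¹) (S.wp i * w) := by
  have h2 : (2 : F) ≠ 0 := NeZero.ne _
  let g : SL(2, F) := ⟨!![1, -1 / (2 * d); d, 1 / 2], by simp [Matrix.det_fin_two]; field_simp; ring⟩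
  have hk : cjFun (Units.mk0 (d * d) (mul_ne_zero hd hd)) g = g * (wM * dM (Units.mk0 d hd)) := by
    apply mat_inj
    rw [mat_cj, mat_mul, mat_mul, mat_wM, mat_dM, show mat g = !![1, -1 / (2 * d); d, 1 / 2] from rfl]
    ext a b
    fin_cases a <;> fin_cases b <;> simp [Matrix.mul_apply, Fin.sum_univ_two] <;> field_simp
  have e := conj_eq S i hn (c := Units.mk0 (d * d) (mul_ne_zero hd hd)) hc g _ hk
  refine ⟨(phi S i g)⁻¹, inv_mem (phi_mem S i g), ?_⟩
  rw [inv_inv, e, map_mul, phi_wM, phi_dM]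
  refine ⟨mul_mem (mul_mem (S.nG_mem_mono i) (Subgroup.mem_sup_left (S.tG_mem_diag _))) hnm, ?_⟩
  have h1 := S.act_mul (S.act_mul (S.act_nG i) (S.act_diag (S.tG_mem_diag (F := F) (Pi.mulSingle i (Units.mk0 d hd))))) ha
  rwa [mul_one] at h1

theorem exists_norm [Fintype F] (hodd : Odd (Fintype.card F)) (z : Fˣ) (r : F) :
    ∃ a b : F, a ^ 2 - (z : F) * b ^ 2 = r := by
  obtain ⟨a, b, h⟩ := FiniteField.exists_root_sum_quadratic (R := F)
    (f := Polynomial.X ^ 2 - Polynomial.C r) (g := Polynomial.C (-(z : F)) * Polynomial.X ^ 2)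
    (Polynomial.degree_X_pow_sub_C (by norm_num) r)
    (Polynomial.degree_C_mul_X_pow 2 (neg_ne_zero.2 z.ne_zero)) (Nat.odd_iff.1 hodd)
  refine ⟨a, b, ?_⟩
  simp at h
  linear_combination h

/-- The coefficient of another negated root can be multiplied by a character value. -/
theorem twist_step [Fintype F] (hodd : Odd (Fintype.card F)) {n : GL D.Idx F} (hnm : n ∈ D.monomialSubgroup F)
    (hn : n * n = 1) {w : Equiv.Perm (Fin D.nroots)} (ha : Act S.ok n w) {c : F} (hc0 : c ≠ 0)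
    (hc : Coef S n (S.sp i) c) (m : Fˣ) :
    ∃ g ∈ D.group F, g * n * g⁻¹ ∈ D.monomialSubgroup F ∧ Act S.ok (g * n * g⁻¹) w ∧
      ∀ (b : Fin D.nroots) (e : F), Coef S n b e →
        Coef S (g * n * g⁻¹) b (((m ^ D.cartan i (ng S b).val : Fˣ) : F) * e) := by
  obtain ⟨a, b, hab⟩ := exists_norm hodd (Units.mk0 c hc0) (m : F)
  rw [Units.val_mk0] at hab
  have hm := m.ne_zero
  let g : SL(2, F) := ⟨!![a / (m : F), b; c * b / (m : F), a], by
    simp [Matrix.det_fin_two]; field_simp; linear_combination hab⟩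
  have hk : cjFun (Units.mk0 c hc0) g = g * dM m := by
    apply mat_inj
    rw [mat_cj, mat_mul, mat_dM, show mat g = !![a / (m : F), b; c * b / (m : F), a] from rfl]
    ext x y
    fin_cases x <;> fin_cases y <;> simp [Matrix.mul_apply, Fin.sum_univ_two] <;> field_simp
  have e := conj_eq S i hn (c := Units.mk0 c hc0) hc g _ hk
  refine ⟨(phi S i g)⁻¹, inv_mem (phi_mem S i g), ?_⟩
  rw [inv_inv, e, phi_dM]
  refine ⟨mul_mem (Subgroup.mem_sup_left (S.tG_mem_diag _)) hnm, ?_, fun r x hx t => ?_⟩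
  · have h1 := S.act_mul (S.act_diag (S.tG_mem_diag (F := F) (Pi.mulSingle i m))) ha
    rwa [one_mul] at h1
  · rw [show Ok.tG D F (Pi.mulSingle i m) * n * S.ok.xG r.val t * (Ok.tG D F (Pi.mulSingle i m) * n)⁻¹ =
      Ok.tG D F (Pi.mulSingle i m) * (n * S.ok.xG r.val t * n⁻¹) * (Ok.tG D F (Pi.mulSingle i m))⁻¹ by group,
      hx, S.tG_conj_xG (ng S r).isLt,
      Fintype.prod_eq_single i (fun j hj => by simp [Pi.mulSingle_eq_of_ne hj]), Pi.mulSingle_eq_same,
      mul_assoc]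

/-- The roots `r`, `u`, `s = r + u` make `r` split. -/
theorem auto_split {n : GL D.Idx F} (hn : n * n = 1) {w : Equiv.Perm (Fin D.nroots)} (ha : Act S.ok n w)
    {r u s : Fin D.nroots} {N : ℤ} (hN : (N : F) ≠ 0) (hw : w s = u) (hw2 : w u = s)
    (h1 : D.commTerms r.val u.val = [(s.val, N, 1, 1)]) (h2 : D.commTerms (D.neg r.val) s.val = [(u.val, N, 1, 1)])
    (n1 : u ≠ r ∧ u ≠ ng S r ∧ s ≠ r ∧ s ≠ ng S r)
    {c : F} (hc : Coef S n r c) : ∃ d : F, c = d * d := by
  obtain ⟨-, β, hβ, eβ⟩ := ha u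
  obtain ⟨-, α, hα, eα⟩ := ha s
  rw [hw2] at eβ
  rw [hw] at eα
  have hab : α * β = 1 := by
    have h := twice hn (eβ 1).1
    rw [(eα _).1, mul_one] at h
    exact S.xG_left_inj u.isLt h
  have e1 := S.ok.commRel (F := F) S.chain S.base r.isLt u.isLt (fun e => n1.1 (Fin.ext e))
    (fun e => n1.2.1 (Fin.ext e)) 1 1
  have e2 := S.ok.commRel (F := F) S.chain S.base (ng S r).isLt s.isLt (fun e => n1.2.2.2 (Fin.ext e))
    (fun e => n1.2.2.1 (Fin.ext (e.trans (congrArg Fin.val (ng_ng S r))))) c β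
  simp only [ChevalleyDatum.commWord, Ok.wG, h1, show D.commTerms (ng S r).val s.val = _ from h2,
    List.map_cons, List.map_nil, List.prod_cons, List.prod_nil, mul_one, pow_one] at e1 e2
  have e3 := congrArg (fun z => n * z * n⁻¹) e1
  simp only [show ∀ a b : GL D.Idx F, n * (a * b) * n⁻¹ = (n * a * n⁻¹) * (n * b * n⁻¹) from fun a b => by group,
    hc 1, (eβ 1).1, (eα _).1, mul_one] at e3
  rw [e2] at e3
  refine ⟨α, ?_⟩
  have h := S.xG_left_inj u.isLt (mul_left_cancel e3)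
  have h3 : (N : F) * (-c * β) = (N : F) * (-α) := by linear_combination h
  have h4 := mul_left_cancel₀ hN h3
  linear_combination (-α) * h4 - c * hab

end Cfsg.Lib.Chev.InvSemi
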