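import Cfsg.Agent.Chev.InvSemi.Classify
import Cfsg.Agent.Chev.InvSemi.F4Data
import Cfsg.Agent.Chev.InvSemi.E8Top
import Cfsg.Agent.Chev.InvSemi.E8PrW

/-! Involutions of F₄ and E₈ in odd characteristic are semisimple. -/

set_option autoImplicit false

open Cfsg.Lie

namespace Cfsg.Lib.Chev.InvSemi

/-- A word sends the fundamental root `i` to the fundamental root `a`. -/
noncomputable def okWord (D : ChevalleyDatum) (C : Cert) (i a : ℕ) (L : List ℕ) : Bool :=
  C.wL L (C.sr i) == C.sr a && L.all fun x => decide (x < D.rank)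

theorem hasTop_of_word {D : ChevalleyDatum} {C : Cert} {T : List (List ℤ)} {P : List ℕ} (X : PData D C T P)
    {i a : Fin D.rank} {L : List ℕ} (h : okWord D C i.val a.val L = true) (ha : X.HasTop a) :
    ∃ (L : List (Fin D.rank)) (a : Fin D.rank), X.X.S.wpL L (X.X.S.sp i) = X.X.S.sp a ∧ X.HasTop a := by
  simp only [okWord, Bool.and_eq_true, beq_iff_eq, List.all_eq_true, decide_eq_true_eq] at h
  obtain ⟨L', rfl⟩ : ∃ L' : List (Fin D.rank), L'.map Fin.val = L :=
    ⟨L.pmap Fin.mk h.2, by simp [List.map_pmap]⟩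
  refine ⟨L', a, Fin.ext ?_, ha⟩
  rw [Struct.wpL_val]
  exact h.1

namespace E8

theorem pdata : PData chevE8 Cfsg.Lib.Chev.E8.cert Cfsg.Lib.Chev.E8.htTab prTab :=
  ⟨Springer.E8_dat, fun i hi => by
    have hi' : i < 8 := hi
    match i, hi' with
    | 0, _ => exact prW0
    | 1, _ => exact prW1
    | 2, _ => exact prW2
    | 3, _ => exact prW3
    | 4, _ => exact prW4
    | 5, _ => exact prW5
    | 6, _ => exact prW6
    | 7, _ => exact prW7, by decide +kernel, by decide +kernel⟩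

/-- Words sending each fundamental root to the first one. -/
def toFst : List (List ℕ) :=
  [[], [2, 3, 0, 2, 1, 3], [2, 0], [2, 3, 0, 2], [2, 3, 4, 0, 2, 3], [2, 3, 4, 5, 0, 2, 3, 4],
    [2, 3, 4, 5, 6, 0, 2, 3, 4, 5], [2, 3, 4, 5, 6, 7, 0, 2, 3, 4, 5, 6]]

theorem htops (i : Fin chevE8.rank) : ∃ (L : List (Fin chevE8.rank)) (a : Fin chevE8.rank),
    pdata.X.S.wpL L (pdata.X.S.sp i) = pdata.X.S.sp a ∧ pdata.HasTop a := by
  have h : ∀ i : Fin chevE8.rank, okWord chevE8 Cfsg.Lib.Chev.E8.cert i.val 0 (toFst.getD i.val []) = true := by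
    decide +kernel
  exact hasTop_of_word (a := (0 : Fin 8)) pdata (h i) ⟨_, _, _, _, top0⟩

theorem to_diag {F : Type*} [Field F] [Fintype F] (hodd : Odd (Fintype.card F)) {u : GL chevE8.Idx F}
    (hu : u ∈ chevE8.group F) (hu2 : u * u = 1) :
    ∃ g ∈ chevE8.group F, g * u * g⁻¹ ∈ chevE8.diagonalSubgroup F :=
  pdata.to_diag hodd htops hu hu2

end E8

namespace F4

/-- Words sending each fundamental root to the first one of its length. -/
def toFst : List (ℕ × List ℕ) := [(0, []), (0, [1, 0]), (2, []), (2, [3, 2])]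

theorem htops (i : Fin chevF4.rank) : ∃ (L : List (Fin chevF4.rank)) (a : Fin chevF4.rank),
    pdata.X.S.wpL L (pdata.X.S.sp i) = pdata.X.S.sp a ∧ pdata.HasTop a := by
  have h : ∀ i : Fin chevF4.rank, ((toFst.getD i.val (0, [])).1 = 0 ∨ (toFst.getD i.val (0, [])).1 = 2) ∧
      okWord chevF4 Cfsg.Lib.Chev.F4.cert i.val (toFst.getD i.val (0, [])).1 (toFst.getD i.val (0, [])).2 = true := by
    decide +kernel
  obtain ⟨ha | ha, h2⟩ := h i <;> rw [ha] at h2
  · exact hasTop_of_word (a := (0 : Fin 4)) pdata h2 ⟨_, _, _, _, top0⟩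
  · exact hasTop_of_word (a := (2 : Fin 4)) pdata h2 ⟨_, _, _, _, top2⟩

theorem to_diag {F : Type*} [Field F] [Fintype F] (hodd : Odd (Fintype.card F)) {u : GL chevF4.Idx F}
    (hu : u ∈ chevF4.group F) (hu2 : u * u = 1) :
    ∃ g ∈ chevF4.group F, g * u * g⁻¹ ∈ chevF4.diagonalSubgroup F :=
  pdata.to_diag hodd htops hu hu2

end F4

end Cfsg.Lib.Chev.InvSemi
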